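import Mathlib
import Cfsg.Agent.SylJ2.Core
import Cfsg.Agent.Invol.ZStar
import Cfsg.Agent.Invol.Isolated
import Cfsg.Agent.Isolated.Basic
import Cfsg.Agent.Coprime.Generation

/-!
Generic lemmas for groups with a Sylow 2-subgroup of Higman-Sims type: groups with a normal 2-complement, a
strongly closed elementary abelian subgroup whose outer involutions fix one of its elements, and exact transfer.
-/

set_option autoImplicit false
set_option linter.unusedSectionVars false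
set_option linter.style.haveILetI false

namespace Cfsg.Agent.HSSylow

open Subgroup
open Cfsg.Agent.SylJ2 (theta)

/-- Every element of odd order lies in the odd core. -/
def TwoNil (H : Type*) [Group H] : Prop := ∀ x : H, Odd (orderOf x) → x ∈ Cfsg.oddCore H

section

variable {H : Type*} [Group H] [Finite H]

theorem odd_core (K : Subgroup H) [K.Normal] (hK : Odd (Nat.card K)) : K ≤ Cfsg.oddCore H :=
  Core.le_pPrimeCore (Nat.coprime_two_right.2 hK)

theorem card_oddCore : Odd (Nat.card (Cfsg.oddCore H)) :=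
  Nat.coprime_two_right.1 Core.coprime_card_pPrimeCore

/-- the odd part of an element -/
theorem exists_odd_part (x : H) : ∃ m : ℕ, Odd (orderOf (x ^ 2 ^ m)) := by
  obtain ⟨m, r, hr, hm⟩ := Nat.exists_eq_pow_mul_and_not_dvd (orderOf_pos x).ne' 2 (by norm_num)
  refine ⟨m, ?_⟩
  rw [orderOf_pow' x (by positivity), hm, Nat.gcd_eq_right ⟨r, rfl⟩, Nat.mul_div_cancel_left _ (by positivity)]
  exact Nat.odd_iff.2 (Nat.two_dvd_ne_zero.1 hr)

theorem mem_of_pow_two {D : Subgroup H} {x : H} (hx : Odd (orderOf x)) {m : ℕ} (h : x ^ 2 ^ m ∈ D) : x ∈ D := by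
  have hc : (orderOf x).Coprime (2 ^ m) := (Nat.coprime_two_right.2 hx).pow_right m
  obtain ⟨j, hj⟩ := exists_pow_eq_self_of_coprime hc.symm
  rw [← hj]
  exact pow_mem h j

theorem odd_of_mem {D : Subgroup H} (hD : Odd (Nat.card D)) {x : H} (hx : x ∈ D) : Odd (orderOf x) := by
  rw [← orderOf_mk x hx]
  exact hD.of_dvd_nat (orderOf_dvd_natCard _)

theorem eq_one_of_sq {x : H} (hx : Odd (orderOf x)) (h : x * x = 1) : x = 1 :=
  mem_bot.1 (mem_of_pow_two (D := ⊥) hx (m := 1) (by rw [pow_one, pow_two, h]; exact one_mem _))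

theorem isPGroup_zpowers {w : H} (hw : w * w = 1) : IsPGroup 2 (zpowers w) := by
  intro ⟨y, k, hk⟩
  refine ⟨1, Subtype.ext ?_⟩
  simp only [SubmonoidClass.coe_pow, OneMemClass.coe_one, pow_one]
  rw [← hk, ← zpow_natCast, ← zpow_mul, mul_comm, zpow_mul, zpow_natCast, pow_two, hw, one_zpow]

theorem TwoNil.of_surjective {K : Type*} [Group K] [Finite K] (h : TwoNil H) {f : H →* K}
    (hf : Function.Surjective f) : TwoNil K := by
  intro y hy
  obtain ⟨x, rfl⟩ := hf y
  obtain ⟨m, hm⟩ := exists_odd_part x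
  refine mem_of_pow_two hy (m := m) ?_
  rw [← map_pow]
  exact Core.map_pPrimeCore_le_of_surjective hf ⟨_, h _ hm, rfl⟩

theorem TwoNil.of_injective {K : Type*} [Group K] [Finite K] (h : TwoNil H) {f : K →* H}
    (hf : Function.Injective f) : TwoNil K := by
  intro x hx
  refine odd_core ((Cfsg.oddCore H).comap f) ?_ (h _ ((orderOf_injective f hf x).symm ▸ hx))
  exact (card_oddCore (H := H)).of_dvd_nat (Subgroup.card_comap_dvd_of_injective _ f hf)

theorem TwoNil.of_le {C D : Subgroup H} (h : TwoNil D) (hle : C ≤ D) : TwoNil C :=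
  h.of_injective (inclusion_injective hle)

theorem TwoNil.subgroup (h : TwoNil H) (C : Subgroup H) : TwoNil C :=
  h.of_injective C.subtype_injective

theorem TwoNil.of_equiv {K : Type*} [Group K] [Finite K] (h : TwoNil H) (e : H ≃* K) : TwoNil K :=
  h.of_surjective (f := e.toMonoidHom) e.surjective

/-- an overgroup with a normal subgroup of index 2 -/
theorem TwoNil.of_index_two {N : Subgroup H} (hN : N.index = 2) (h : TwoNil N) : TwoNil H := by
  haveI := Subgroup.normal_of_index_eq_two hN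
  intro x hx
  have hxN : x ∈ N := mem_of_pow_two hx (m := 1) (by
    rw [pow_one, pow_two]
    exact Subgroup.mul_self_mem_of_index_two hN x)
  haveI : ((Cfsg.oddCore N).map N.subtype).Normal := by
    refine ⟨fun a ha g => ?_⟩
    obtain ⟨b, hb, rfl⟩ := ha
    have hc := Core.map_pPrimeCore (p := 2) (MulAut.conjNormal g : N ≃* N)
    exact ⟨MulAut.conjNormal g b, hc.le ⟨b, hb, rfl⟩, MulAut.conjNormal_apply g b⟩
  refine odd_core ((Cfsg.oddCore N).map N.subtype) ?_ ⟨⟨x, hxN⟩, h _ ?_, rfl⟩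
  · rw [card_map_of_injective N.subtype_injective]
    exact card_oddCore
  · rwa [orderOf_mk]

/-- a group covered modulo its odd core by a group with a normal 2-complement -/
theorem TwoNil.of_fix {K : Subgroup H} (hK : TwoNil K)
    (hfix : ∀ g : H, ∃ o ∈ Cfsg.oddCore H, ∃ k ∈ K, g = o * k) : TwoNil H := by
  have hs : Function.Surjective ((QuotientGroup.mk' (Cfsg.oddCore H)).comp K.subtype) := by
    intro q
    obtain ⟨g, rfl⟩ := QuotientGroup.mk'_surjective _ q
    obtain ⟨o, ho, k, hk, rfl⟩ := hfix g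
    refine ⟨⟨k, hk⟩, ?_⟩
    rw [map_mul, (show QuotientGroup.mk' (Cfsg.oddCore H) o = 1 from (QuotientGroup.eq_one_iff o).2 ho), one_mul]
    rfl
  intro x hx
  have h1 := hK.of_surjective hs (QuotientGroup.mk' (Cfsg.oddCore H) x)
    (hx.of_dvd_nat (orderOf_map_dvd _ _))
  rw [show Cfsg.oddCore (H ⧸ Cfsg.oddCore H) = ⊥ from Core.pPrimeCore_quotient_eq_bot, mem_bot] at h1
  exact (QuotientGroup.eq_one_iff x).1 h1

theorem TwoNil.exists_mul (h : TwoNil H) (T : Sylow 2 H) (g : H) :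
    ∃ o ∈ Cfsg.oddCore H, ∃ t ∈ (T : Subgroup H), g = o * t := by
  haveI : Fact (Nat.Prime 2) := ⟨Nat.prime_two⟩
  have hP : IsPGroup 2 (H ⧸ Cfsg.oddCore H) := by
    intro q
    obtain ⟨x, rfl⟩ := QuotientGroup.mk'_surjective _ q
    obtain ⟨m, hm⟩ := exists_odd_part x
    refine ⟨m, ?_⟩
    rw [← map_pow]
    exact (QuotientGroup.eq_one_iff _).2 (h _ hm)
  set f := QuotientGroup.mk' (Cfsg.oddCore H)
  have htop : (T : Subgroup H).map f = ⊤ :=
    ((T.mapSurjective (QuotientGroup.mk'_surjective (Cfsg.oddCore H))).3 (hP.to_subgroup ⊤) le_top).symm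
  obtain ⟨t, ht, htg⟩ := htop ▸ mem_top (f g)
  refine ⟨g * t⁻¹, (QuotientGroup.eq_one_iff (N := Cfsg.oddCore H) _).1 ?_, t, ht, by group⟩
  show f (g * t⁻¹) = 1
  rw [map_mul, map_inv, ← htg, mul_inv_cancel]

theorem TwoNil.balance {a b : H} (h : TwoNil (centralizer ({b} : Set H))) :
    theta a ⊓ centralizer ({b} : Set H) ≤ theta b := by
  rintro x ⟨hxa, hxb⟩
  refine ⟨⟨x, hxb⟩, h _ ?_, rfl⟩
  rw [orderOf_mk]
  exact SylJ2.odd_orderOf (SylJ2.core_odd _) hxa

/-- An elementary abelian subgroup, strongly closed in a Sylow 2-subgroup, splitting the centralizers of its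
involutions, such that every outer involution fixes one of its elements. -/
structure Closed (T : Sylow 2 H) (V : Subgroup H) : Prop where
  le : V ≤ (T : Subgroup H)
  comm : ∀ a ∈ V, ∀ b ∈ V, a * b = b * a
  sq : ∀ a ∈ V, a * a = 1
  four : 4 ≤ Nat.card V
  closed : ∀ v ∈ V, ∀ g : H, g * v * g⁻¹ ∈ (T : Subgroup H) → g * v * g⁻¹ ∈ V
  loc : ∀ x ∈ V, x ≠ 1 → ∀ c : H, c * x = x * c → ∃ o ∈ theta x, ∃ n ∈ normalizer (V : Set H), c = o * n
  signal : ¬ 2 ∣ Nat.card ↥(⨆ a : {a : H // a ∈ V ∧ a ≠ 1}, theta a.1)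
  outer : ∀ u ∈ (T : Subgroup H), u ∉ V → u * u = 1 →
    (∃ a ∈ V, ∃ b ∈ V, a ≠ 1 ∧ b ≠ 1 ∧ a ≠ b ∧ u * a = a * u ∧ u * b = b * u) ∧
      ∃ v ∈ V, v ≠ 1 ∧ u * v = v * u ∧ ∀ n ∈ normalizer (V : Set H), ∀ w ∈ centralizer (V : Set H),
        Odd (orderOf w) → n * u * n⁻¹ = w * u → n * v * n⁻¹ = v
  nonempty : ∃ u ∈ (T : Subgroup H), u ∉ V ∧ u * u = 1

namespace Closed

variable {T : Sylow 2 H} {V : Subgroup H} (P : Closed T V)
include P

theorem weak (g : H) (hg : ∀ v ∈ V, g * v * g⁻¹ ∈ (T : Subgroup H)) : g ∈ normalizer (V : Set H) :=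
  Invol.mem_normalizer_of_conj_le (by
    rintro _ ⟨v, hv, rfl⟩
    exact P.closed v hv g (hg v hv))

theorem T_le : (T : Subgroup H) ≤ normalizer (V : Set H) := fun t ht =>
  P.weak t fun v hv => mul_mem (mul_mem ht (P.le hv)) (inv_mem ht)

/-- closedness in every Sylow 2-subgroup above `V` -/
theorem closed' {T' : Sylow 2 H} (hVT : V ≤ (T' : Subgroup H)) {v g : H} (hv : v ∈ V)
    (h : g * v * g⁻¹ ∈ (T' : Subgroup H)) : g * v * g⁻¹ ∈ V := by
  obtain ⟨k, hk⟩ := MulAction.exists_smul_eq H T' T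
  have hkT : ∀ y ∈ (T' : Subgroup H), k * y * k⁻¹ ∈ (T : Subgroup H) := fun y hy => by
    rw [← hk]
    exact ⟨y, hy, rfl⟩
  have hkN := P.weak k fun w hw => hkT w (hVT hw)
  have h2 := P.closed v hv (k * g) (by
    rw [show k * g * v * (k * g)⁻¹ = k * (g * v * g⁻¹) * k⁻¹ by group]
    exact hkT _ h)
  rw [show k * g * v * (k * g)⁻¹ = k * (g * v * g⁻¹) * k⁻¹ by group] at h2
  exact (mem_normalizer_iff.1 hkN _).2 h2

/-- a 2-subgroup of a group above `V` moves into a Sylow 2-subgroup above `V` -/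
theorem exists_conj {K R : Subgroup H} (hVK : V ≤ K) (hRK : R ≤ K) (hR : IsPGroup 2 R) :
    ∃ k ∈ K, ∃ T' : Sylow 2 H, V ≤ (T' : Subgroup H) ∧ ∀ r ∈ R, k * r * k⁻¹ ∈ (T' : Subgroup H) := by
  haveI : Fact (Nat.Prime 2) := ⟨Nat.prime_two⟩
  obtain ⟨Q, hQ⟩ := ((T.2.to_le P.le).comap_subtype (K := K)).exists_le_sylow
  obtain ⟨R', hR'⟩ := (hR.comap_subtype (K := K)).exists_le_sylow
  obtain ⟨k, hk⟩ := MulAction.exists_smul_eq K R' Q
  obtain ⟨T', hT'⟩ := (Q.2.map K.subtype).exists_le_sylow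
  refine ⟨k, k.2, T', fun v hv => hT' ⟨⟨v, hVK hv⟩, hQ (mem_subgroupOf.2 hv), rfl⟩, fun r hr => ?_⟩
  refine hT' ⟨k * ⟨r, hRK hr⟩ * k⁻¹, ?_, rfl⟩
  show k * ⟨r, hRK hr⟩ * k⁻¹ ∈ (Q : Subgroup K)
  rw [← hk]
  exact ⟨_, hR' (mem_subgroupOf.2 hr), rfl⟩

theorem VH {M : Subgroup H} (hN : normalizer (V : Set H) ≤ M) : V ≤ M :=
  (le_normalizer (H := V)).trans hN

/-- two conjugates of an element of `V` that commute: the conjugating element lies above -/
theorem mem_of_commute {M : Subgroup H} (hN : normalizer (V : Set H) ≤ M)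
    (hC : ∀ x ∈ V, x ≠ 1 → centralizer ({x} : Set H) ≤ M) {v g : H} (hv : v ∈ V) (hv1 : v ≠ 1)
    (hc : Commute v (g * v * g⁻¹)) : g ∈ M := by
  have hVv : ∀ {x : H}, x ∈ V → V ≤ centralizer ({x} : Set H) := fun {x} hx y hy =>
    mem_centralizer_singleton_iff.2 (P.comm y hy x hx)
  have hsq : g * v * g⁻¹ * (g * v * g⁻¹) = 1 := by
    rw [show g * v * g⁻¹ * (g * v * g⁻¹) = g * (v * v) * g⁻¹ by group, P.sq v hv, mul_one, mul_inv_cancel]
  obtain ⟨c, hcm, T', hVT', hcT⟩ := P.exists_conj (hVv hv)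
    (zpowers_le.2 (mem_centralizer_singleton_iff.2 hc.eq.symm))
    (isPGroup_zpowers hsq)
  have hx : c * g * v * (c * g)⁻¹ ∈ V := P.closed' hVT' hv (by
    rw [show c * g * v * (c * g)⁻¹ = c * (g * v * g⁻¹) * c⁻¹ by group]
    exact hcT _ (mem_zpowers _))
  have hx1 : c * g * v * (c * g)⁻¹ ≠ 1 := fun e => hv1 (conj_eq_one_iff.1 e)
  have hR : V.map (MulAut.conj (c * g)).toMonoidHom ≤ centralizer ({c * g * v * (c * g)⁻¹} : Set H) := by
    rintro _ ⟨y, hy, rfl⟩
    refine mem_centralizer_singleton_iff.2 ?_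
    show c * g * y * (c * g)⁻¹ * (c * g * v * (c * g)⁻¹) = c * g * v * (c * g)⁻¹ * (c * g * y * (c * g)⁻¹)
    rw [show c * g * y * (c * g)⁻¹ * (c * g * v * (c * g)⁻¹) = c * g * (y * v) * (c * g)⁻¹ by group,
      P.comm y hy v hv]
    group
  obtain ⟨d, hd, T'', hVT'', hdT⟩ := P.exists_conj (hVv hx) hR ((T.2.to_le P.le).map _)
  have hn : d * (c * g) ∈ normalizer (V : Set H) := Invol.mem_normalizer_of_conj_le (by
    rintro _ ⟨y, hy, rfl⟩
    refine P.closed' hVT'' hy ?_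
    rw [show d * (c * g) * y * (d * (c * g))⁻¹ = d * ((c * g) * y * (c * g)⁻¹) * d⁻¹ by group]
    exact hdT _ ⟨y, hy, rfl⟩)
  have h1 := mul_mem (inv_mem (hC _ hx hx1 hd)) (hN hn)
  rw [inv_mul_cancel_left] at h1
  have h2 := mul_mem (inv_mem (hC v hv hv1 hcm)) h1
  rwa [inv_mul_cancel_left] at h2

/-- the centralizer of an outer involution lies in `M` -/
theorem outer_le {W M : Subgroup H} (hW : Odd (Nat.card W))
    (hWN : normalizer (V : Set H) ≤ normalizer (W : Set H)) (hM : M = W ⊔ normalizer (V : Set H))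
    (hC : ∀ x ∈ V, x ≠ 1 → centralizer ({x} : Set H) ≤ M)
    {u : H} (hu : u ∈ (T : Subgroup H)) (huV : u ∉ V) (hu2 : u * u = 1) :
    centralizer ({u} : Set H) ≤ M := by
  haveI : Fact (Nat.Prime 2) := ⟨Nat.prime_two⟩
  have hN : normalizer (V : Set H) ≤ M := hM ▸ le_sup_right
  obtain ⟨⟨a, ha, b, hb, ha1, hb1, hab, hua, hub⟩, v, hv, hv1, huv, hfix⟩ := P.outer u hu huV hu2
  set L := centralizer ({u} : Set H) with hL
  have hvL : v ∈ L := mem_centralizer_singleton_iff.2 huv.symm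
  set vL : L := ⟨v, hvL⟩
  have hiso : Cfsg.IsIsolatedInvolution vL := by
    refine ⟨orderOf_eq_prime (Subtype.ext (by rw [SubmonoidClass.coe_pow, pow_two]; exact P.sq v hv))
      (fun e => hv1 (congrArg Subtype.val e)), fun g hc => Subtype.ext ?_⟩
    have hc' : Commute v ((g : H) * v * (g : H)⁻¹) := congrArg Subtype.val hc.eq
    have hgM := P.mem_of_commute hN hC hv hv1 hc'
    rw [hM, ← SetLike.mem_coe, Subgroup.coe_mul_of_right_le_normalizer_left _ _ hWN] at hgM
    obtain ⟨w, hw, n, hn, he : w * n = (g : H)⟩ := hgM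
    have huW : ∀ x ∈ W, u * x * u⁻¹ ∈ W := fun x hx => (mem_normalizer_iff.1 (hWN (P.T_le hu)) x).1 hx
    have hVW : ∀ y ∈ V, ∀ x ∈ W, y * x * y⁻¹ ∈ W := fun y hy x hx =>
      (mem_normalizer_iff.1 (hWN (le_normalizer hy)) x).1 hx
    have hgu : w * (n * u * n⁻¹) * w⁻¹ = u := by
      have := mem_centralizer_singleton_iff.1 g.2
      calc w * (n * u * n⁻¹) * w⁻¹ = (w * n) * u * (w * n)⁻¹ := by group
        _ = u := by rw [he, this, mul_inv_cancel_right]
    have hw' : n * u * n⁻¹ * u⁻¹ ∈ W := by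
      rw [show n * u * n⁻¹ * u⁻¹ = w⁻¹ * (u * w * u⁻¹) by
        calc n * u * n⁻¹ * u⁻¹ = w⁻¹ * (w * (n * u * n⁻¹) * w⁻¹) * w * u⁻¹ := by group
          _ = w⁻¹ * u * w * u⁻¹ := by rw [hgu]
          _ = _ := by group]
      exact mul_mem (inv_mem hw) (huW w hw)
    have hw'N : n * u * n⁻¹ * u⁻¹ ∈ normalizer (V : Set H) :=
      mul_mem (mul_mem (mul_mem hn (P.T_le hu)) (inv_mem hn)) (inv_mem (P.T_le hu))
    have hw'C : n * u * n⁻¹ * u⁻¹ ∈ centralizer (V : Set H) := mem_centralizer_iff.2 fun y hy => by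
      set w' := n * u * n⁻¹ * u⁻¹
      have h1 : y * w' * y⁻¹ * w'⁻¹ ∈ W := mul_mem (hVW y hy _ hw') (inv_mem hw')
      have h2 : y * w' * y⁻¹ * w'⁻¹ ∈ V := by
        rw [show y * w' * y⁻¹ * w'⁻¹ = y * (w' * y⁻¹ * w'⁻¹) by group]
        exact mul_mem hy ((mem_normalizer_iff.1 hw'N _).1 (inv_mem hy))
      have h3 : y * w' * y⁻¹ * w'⁻¹ = 1 := by
        exact eq_one_of_sq (odd_of_mem hW h1) (P.sq _ h2)
      exact (mul_inv_eq_iff_eq_mul.1 (mul_inv_eq_one.1 h3))
    have hnv := hfix n hn _ hw'C (odd_of_mem hW hw') (by group)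
    show (g : H) * v * (g : H)⁻¹ = v
    have hgv : (g : H) * v * (g : H)⁻¹ = w * v * w⁻¹ := by
      rw [← he]
      calc w * n * v * (w * n)⁻¹ = w * (n * v * n⁻¹) * w⁻¹ := by group
        _ = _ := by rw [hnv]
    rw [hgv] at hc' ⊢
    have hvi : v⁻¹ = v := inv_eq_of_mul_eq_one_right (P.sq v hv)
    have h1 : w * v * w⁻¹ * v⁻¹ ∈ W := by
      rw [show w * v * w⁻¹ * v⁻¹ = w * (v * w⁻¹ * v⁻¹) by group]
      exact mul_mem hw (hVW v hv _ (inv_mem hw))
    refine mul_inv_eq_one.1 (eq_one_of_sq (odd_of_mem hW h1) ?_)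
    rw [hvi, show w * v * w⁻¹ * v * (w * v * w⁻¹ * v) =
      w * v * w⁻¹ * (v * (w * v * w⁻¹)) * v by group, hc'.eq,
      show w * v * w⁻¹ * (w * v * w⁻¹ * v) * v = w * (v * v) * w⁻¹ * (v * v) by group, P.sq v hv, mul_one,
      mul_one, mul_inv_cancel]
  have hO : (Cfsg.oddCore L).map L.subtype ≤ M := by
    have hVn : ∀ y ∈ V, u * y = y * u → y ∈ normalizer (((Cfsg.oddCore L).map L.subtype : Subgroup H) : Set H) := by
      intro y hy hyu
      refine Invol.mem_normalizer_of_conj_le ?_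
      rintro _ ⟨_, ⟨x, hx, rfl⟩, rfl⟩
      exact ⟨⟨y, mem_centralizer_singleton_iff.2 hyu.symm⟩ * x * ⟨y, mem_centralizer_singleton_iff.2 hyu.symm⟩⁻¹,
        Normal.conj_mem inferInstance x hx _, rfl⟩
    have hodd : Odd (Nat.card ((Cfsg.oddCore L).map L.subtype : Subgroup H)) := by
      rw [card_map_of_injective L.subtype_injective]
      exact card_oddCore
    have hcl : closure ({a, b} : Set H) ≤ V := (closure_le _).2 (by simp [Set.insert_subset_iff, ha, hb])
    obtain ⟨k, hk⟩ := (T.2.to_le (hcl.trans P.le)).exists_card_eq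
    refine Coprime.le_of_centralizers_le (P.comm a ha b hb) (hVn a ha hua) (hVn b hb hub) Nat.prime_two
      (by rw [pow_two, P.sq a ha]; exact one_mem _) (by rw [pow_two, P.sq b hb]; exact one_mem _)
      (Nat.coprime_two_left.2 hodd) (by rw [hk]; exact (Nat.coprime_two_left.2 hodd).pow_left k)
      (inf_le_right.trans (hC a ha ha1)) fun i => inf_le_right.trans (hC _ (mul_mem (pow_mem ha i) hb) ?_)
    rcases Nat.even_or_odd' i with ⟨j, rfl | rfl⟩
    · rw [pow_mul, pow_two, P.sq a ha, one_pow, one_mul]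
      exact hb1
    · rw [pow_succ, pow_mul, pow_two, P.sq a ha, one_pow, one_mul]
      intro e
      exact hab (by
        rw [← inv_eq_of_mul_eq_one_right e]
        exact (inv_eq_of_mul_eq_one_right (P.sq a ha)).symm)
  intro g hg
  obtain ⟨m, hm, hmv⟩ : ∃ m ∈ Cfsg.oddCore L, m * vL * m⁻¹ = (⟨g, hg⟩ : L) * vL * (⟨g, hg⟩ : L)⁻¹ := by
    obtain ⟨j, -, -, -, hse⟩ := Isolated.exists_sqrt hiso (⟨g, hg⟩ : L)
    refine ⟨_, pow_mem ?_ j, hse⟩
    have h := inv_mem (Invol.zstar hiso (⟨g, hg⟩ : L))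
    have hvv : vL⁻¹ = vL := inv_eq_of_mul_eq_one_right (Subtype.ext (P.sq v hv))
    rw [mul_inv_rev, mul_inv_rev, mul_inv_rev, inv_inv, inv_inv, hvv, ← mul_assoc, ← mul_assoc] at h
    exact h
  have h1 : (m : H)⁻¹ * g ∈ M := by
    refine hC v hv hv1 (mem_centralizer_singleton_iff.2 ?_)
    have e : (m : H) * v * (m : H)⁻¹ = g * v * g⁻¹ := congrArg Subtype.val hmv
    calc (m : H)⁻¹ * g * v = (m : H)⁻¹ * (g * v * g⁻¹) * g := by group
      _ = v * ((m : H)⁻¹ * g) := by rw [← e]; group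
  have h2 := mul_mem (hO ⟨m, hm, rfl⟩) h1
  rwa [Subgroup.coe_subtype, mul_inv_cancel_left] at h2

theorem full {W M : Subgroup H} (hW : Odd (Nat.card W))
    (hWN : normalizer (V : Set H) ≤ normalizer (W : Set H)) (hM : M = W ⊔ normalizer (V : Set H))
    (hC : ∀ x ∈ V, x ≠ 1 → centralizer ({x} : Set H) ≤ M) : M = ⊤ := by
  haveI : Fact (Nat.Prime 2) := ⟨Nat.prime_two⟩
  have hN : normalizer (V : Set H) ≤ M := hM ▸ le_sup_right
  have hTM : (T : Subgroup H) ≤ M := P.T_le.trans hN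
  have hsyl : ∀ R : Subgroup H, R ≤ M → IsPGroup 2 R → ∃ m ∈ M, ∀ r ∈ R, m * r * m⁻¹ ∈ (T : Subgroup H) := by
    intro R hR hR2
    obtain ⟨R', hR'⟩ := (hR2.comap_subtype (K := M)).exists_le_sylow
    obtain ⟨g, hg⟩ := MulAction.exists_smul_eq M R' (T.subtype hTM)
    refine ⟨g, g.2, fun r hr => ?_⟩
    have h2 : g * ⟨r, hR hr⟩ * g⁻¹ ∈ (T.subtype hTM : Subgroup M) := by
      rw [← hg]
      exact ⟨_, hR' (mem_subgroupOf.2 hr), rfl⟩
    exact mem_subgroupOf.1 h2
  have hCu : ∀ u ∈ (T : Subgroup H), u ≠ 1 → u * u = 1 → centralizer ({u} : Set H) ≤ M := by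
    intro u hu hu1 hu2
    by_cases huV : u ∈ V
    · exact hC u huV hu1
    · exact P.outer_le hW hWN hM hC hu huV hu2
  have hCw : ∀ w ∈ M, w ≠ 1 → w * w = 1 → centralizer ({w} : Set H) ≤ M := by
    intro w hw hw1 hw2
    obtain ⟨m, hm, hmT⟩ := hsyl (zpowers w) (zpowers_le.2 hw) (isPGroup_zpowers hw2)
    have h2 := hCu _ (hmT w (mem_zpowers w)) (fun e => hw1 (conj_eq_one_iff.1 e))
      (by rw [show m * w * m⁻¹ * (m * w * m⁻¹) = m * (w * w) * m⁻¹ by group, hw2, mul_one, mul_inv_cancel])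
    intro c hc
    rw [mem_centralizer_singleton_iff] at hc
    have h3 : m * c * m⁻¹ ∈ M := h2 (mem_centralizer_singleton_iff.2 (by
      rw [show m * c * m⁻¹ * (m * w * m⁻¹) = m * (c * w) * m⁻¹ by group, hc]; group))
    have h4 := mul_mem (mul_mem (inv_mem hm) h3) hm
    rwa [show m⁻¹ * (m * c * m⁻¹) * m = c by group] at h4
  obtain ⟨u, hu, huV, hu2⟩ := P.nonempty
  obtain ⟨x, hx, hx1⟩ : ∃ x ∈ V, x ≠ 1 := by
    obtain ⟨v, hv, hv1, -⟩ := (P.outer u hu huV hu2).2
    exact ⟨v, hv, hv1⟩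
  have hxu : ¬ IsConj x u := fun h => by
    obtain ⟨g, rfl⟩ := isConj_iff.1 h
    exact huV (P.closed x hx g hu)
  have hall : ∀ w : H, w * w = 1 → w ∈ M := by
    intro w hw2
    rcases eq_or_ne w 1 with rfl | hw1
    · exact one_mem M
    have key : ∀ a ∈ (T : Subgroup H), a ≠ 1 → a * a = 1 → ¬ IsConj a w → w ∈ M := by
      intro a ha ha1 ha2 hne
      obtain ⟨m, -, -, hu, hua, huw, -⟩ := TwoTransfer.exists_commuting_involution
        (orderOf_eq_prime (by rw [pow_two, ha2]) ha1) (orderOf_eq_prime (by rw [pow_two, hw2]) hw1) hne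
      have huM : (a * w) ^ m ∈ M := hCu a ha ha1 ha2 (mem_centralizer_singleton_iff.2 hua.eq)
      have hu1 : (a * w) ^ m ≠ 1 := fun e => by rw [e, orderOf_one] at hu; exact absurd hu (by norm_num)
      have hu2 : (a * w) ^ m * (a * w) ^ m = 1 := by rw [← pow_two, ← hu, pow_orderOf_eq_one]
      exact hCw _ huM hu1 hu2 (mem_centralizer_singleton_iff.2 huw.eq.symm)
    by_cases hxw : IsConj x w
    · exact key u hu (fun e => huV (e ▸ one_mem V)) hu2 fun h => hxu (hxw.trans h.symm)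
    · exact key x (P.le hx) hx1 (P.sq x hx) hxw
  refine eq_top_iff.2 fun g _ => ?_
  have hR : V.map (MulAut.conj g).toMonoidHom ≤ M := by
    rintro _ ⟨v, hv, rfl⟩
    exact hall _ (show g * v * g⁻¹ * (g * v * g⁻¹) = 1 by
      rw [show g * v * g⁻¹ * (g * v * g⁻¹) = g * (v * v) * g⁻¹ by group, P.sq v hv, mul_one, mul_inv_cancel])
  obtain ⟨m, hm, hmT⟩ := hsyl _ hR ((T.2.to_le P.le).map _)
  have hmg : m * g ∈ normalizer (V : Set H) := P.weak _ fun v hv => by
    rw [show m * g * v * (m * g)⁻¹ = m * (g * v * g⁻¹) * m⁻¹ by group]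
    exact hmT _ ⟨v, hv, rfl⟩
  have := mul_mem (inv_mem hm) (hN hmg)
  rwa [inv_mul_cancel_left] at this

/-- `V` is normal modulo the odd core. -/
theorem main (g : H) : ∃ o ∈ Cfsg.oddCore H, ∃ n ∈ normalizer (V : Set H), g = o * n := by
  set W := ⨆ a : {a : H // a ∈ V ∧ a ≠ 1}, theta a.1 with hW
  have hWodd : Odd (Nat.card W) := Nat.odd_iff.2 (Nat.two_dvd_ne_zero.1 P.signal)
  have hWN : normalizer (V : Set H) ≤ normalizer (W : Set H) := fun n hn => Invol.mem_normalizer_of_conj_le (by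
    rw [hW, Subgroup.map_iSup]
    refine iSup_le fun a => ?_
    rintro _ ⟨c, hc, rfl⟩
    exact le_iSup (fun c : {a : H // a ∈ V ∧ a ≠ 1} => theta c.1)
      ⟨n * a.1 * n⁻¹, (mem_normalizer_iff.1 hn _).1 a.2.1, fun e => a.2.2 (conj_eq_one_iff.1 e)⟩
      (SylJ2.theta_conj hc))
  have htop := P.full hWodd hWN rfl fun x hx hx1 c hc => by
    obtain ⟨o, ho, n, hn, rfl⟩ := P.loc x hx hx1 c (mem_centralizer_singleton_iff.1 hc)
    exact mul_mem (mem_sup_left (le_iSup (fun c : {a : H // a ∈ V ∧ a ≠ 1} => theta c.1) ⟨x, hx, hx1⟩ ho))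
      (mem_sup_right hn)
  haveI : W.Normal := normalizer_eq_top_iff.1
    (eq_top_iff.2 (htop ▸ sup_le le_normalizer hWN))
  obtain ⟨o, ho, n, hn, e⟩ := mem_sup_of_normal_left.1 (htop ▸ mem_top g : g ∈ W ⊔ normalizer (V : Set H))
  exact ⟨o, odd_core W hWodd ho, n, hn, e.symm⟩

end Closed

/-- Exact transfer: a maximal subgroup of a Sylow 2-subgroup, generated by involutions and closed on them,
is cut out by a normal subgroup of index 2. -/
theorem exists_kernel {S : Sylow 2 H} {M : Subgroup H} (hMS : M ≤ (S : Subgroup H)) (hM : M.relIndex S = 2)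
    (hgen : M ≤ closure {x : H | x ∈ M ∧ x * x = 1})
    (hcl : ∀ x ∈ M, x * x = 1 → ∀ g : H, g * x * g⁻¹ ∈ (S : Subgroup H) → g * x * g⁻¹ ∈ M)
    {p : H} (hp : p ∈ (S : Subgroup H)) (hpM : p ∉ M) (hp2 : p * p = 1) :
    ∃ N : Subgroup H, N.Normal ∧ N.index = 2 ∧ N ⊓ (S : Subgroup H) = M := by
  classical
  have hM' : (M.subgroupOf (S : Subgroup H)).index = 2 := hM
  set θ := TwoTransfer.sgn (M.subgroupOf (S : Subgroup H)) hM' with hθ
  set φ := MonoidHom.transfer θ with hφ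
  have hval : ∀ x ∈ (S : Subgroup H), x * x = 1 → φ x = if x ∈ M then 1 else Multiplicative.ofAdd (1 : ZMod 2) := by
    intro x hx hx2
    let : Fintype (Quotient (MulAction.orbitRel (zpowers x) (H ⧸ (S : Subgroup H)))) := Fintype.ofFinite _
    have hq : ∀ q : Quotient (MulAction.orbitRel (zpowers x) (H ⧸ (S : Subgroup H))),
        θ ⟨_, QuotientGroup.out_conj_pow_minimalPeriod_mem (S : Subgroup H) x q.out⟩ =
          if x ∈ M then 1 else Multiplicative.ofAdd ((Function.minimalPeriod (x • ·) q.out : ℕ) : ZMod 2) := by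
      intro q
      have hd : Function.minimalPeriod (x • ·) q.out ∣ 2 := by
        apply Function.IsPeriodicPt.minimalPeriod_dvd
        simp only [Function.IsPeriodicPt, Function.IsFixedPt, smul_iterate, pow_two, hx2, one_smul]
      have hmem := QuotientGroup.out_conj_pow_minimalPeriod_mem (S : Subgroup H) x q.out
      rcases (Nat.dvd_prime Nat.prime_two).1 hd with h1 | h1
      · simp only [h1, pow_one] at hmem ⊢
        split_ifs with hxM
        · rw [hθ, TwoTransfer.sgn_apply_of_mem]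
          refine mem_subgroupOf.2 ?_
          have h3 := hcl x hxM hx2 ((q.out.out : H))⁻¹ (by rwa [inv_inv])
          rwa [inv_inv] at h3
        · rw [hθ, TwoTransfer.sgn_apply_of_notMem]
          · simp
          · intro hm
            refine hxM ?_
            have hm' := mem_subgroupOf.1 hm
            have h3 := hcl _ hm' (by
              rw [show ((q.out.out : H))⁻¹ * x * (q.out.out : H) * (((q.out.out : H))⁻¹ * x * (q.out.out : H)) =
                ((q.out.out : H))⁻¹ * (x * x) * (q.out.out : H) by group, hx2, mul_one, inv_mul_cancel])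
              (q.out.out : H) (by
              convert hx using 1
              group)
            convert h3 using 1
            group
      · rw [hθ, TwoTransfer.sgn_apply_of_mem]
        · split_ifs
          · rfl
          · rw [h1]; rfl
        · simp only [h1, mem_subgroupOf]
          rw [pow_two, hx2, mul_one, inv_mul_cancel]
          exact one_mem M
    rw [hφ, MonoidHom.transfer_eq_prod_quotient_orbitRel_zpowers_quot]
    simp only [hq]
    split_ifs with hxM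
    · exact Finset.prod_const_one
    · rw [← ofAdd_sum, ← Nat.cast_sum, ← Subgroup.index_eq_sum_minimalPeriod,
        (ZMod.natCast_eq_one_iff_odd.2 (Nat.odd_iff.2 (Nat.two_dvd_ne_zero.1 S.not_dvd_index)))]
  have hpv : φ p = Multiplicative.ofAdd (1 : ZMod 2) := by rw [hval p hp hp2, if_neg hpM]
  have hMN : M ≤ φ.ker := hgen.trans ((closure_le _).2 fun x hx => by
    rw [SetLike.mem_coe, MonoidHom.mem_ker, hval x (hMS hx.1) hx.2, if_pos hx.1])
  refine ⟨φ.ker, inferInstance, ?_, le_antisymm ?_ (le_inf hMN hMS)⟩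
  · rw [Subgroup.index_ker]
    have : φ.range = ⊤ := by
      rw [eq_top_iff]
      rintro a -
      have key : a = 1 ∨ a = Multiplicative.ofAdd 1 := by revert a; decide
      rcases key with rfl | rfl
      · exact one_mem _
      · exact ⟨p, hpv⟩
    rw [this, Subgroup.card_top]
    simp
  · rintro x ⟨hxN, hxS⟩
    by_contra hxM
    have h2 : (⟨p, hp⟩ * ⟨x, hxS⟩ : (S : Subgroup H)) ∈ M.subgroupOf (S : Subgroup H) := by
      rw [Subgroup.mul_mem_iff_of_index_two hM']
      simp [mem_subgroupOf, hpM, hxM]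
    have h3 : φ (p * x) = 1 := MonoidHom.mem_ker.1 (hMN (mem_subgroupOf.1 h2))
    rw [map_mul, hpv, MonoidHom.mem_ker.1 hxN, mul_one] at h3
    exact absurd h3 (by decide)

end

end Cfsg.Agent.HSSylow
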