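import Mathlib
import Cfsg.Agent.HSSylow.Generic
import Cfsg.Agent.Invol.ZStarElt

/-!
The centralizer of the central involution of a Sylow 2-subgroup of Higman-Sims type: the element `i` of order
four is isolated modulo `z`, and a band `B ≥ ⟨i⟩` closed on involution classes is normal modulo the odd core.
-/

set_option autoImplicit false
set_option linter.unusedSectionVars false
set_option linter.style.haveILetI false

namespace Cfsg.Agent.HSSylow

open Subgroup
open Cfsg.Agent.SylJ2 (theta)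

section

variable {H : Type*} [Group H] [Finite H]

theorem TwoNil.of_odd_mem {N : Subgroup H} (h : TwoNil N) (hodd : ∀ x : H, Odd (orderOf x) → x ∈ N) : TwoNil H := by
  intro x hx
  haveI : ((Cfsg.oddCore N).map N.subtype).Normal := by
    refine ⟨fun a ha g => ?_⟩
    obtain ⟨b, hb, rfl⟩ := ha
    have ho : Odd (orderOf (g * N.subtype b * g⁻¹)) := by
      rw [← MulAut.conj_apply g, MulEquiv.orderOf_eq, orderOf_injective _ N.subtype_injective]
      exact odd_of_mem card_oddCore hb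
    exact ⟨⟨_, hodd _ ho⟩, h _ (by rwa [orderOf_mk]), rfl⟩
  refine odd_core ((Cfsg.oddCore N).map N.subtype) ?_ ⟨⟨x, hodd x hx⟩, h _ (by rwa [orderOf_mk]), rfl⟩
  rw [card_map_of_injective N.subtype_injective]
  exact card_oddCore

/-- an element of odd order of the core of a quotient by a central 2-subgroup lifts to the core -/
theorem lift_core {Z : Subgroup H} [Z.Normal] (hZc : Z ≤ center H) (hZ : IsPGroup 2 Z) {q : H ⧸ Z}
    (hq : q ∈ Cfsg.oddCore (H ⧸ Z)) : ∃ o ∈ Cfsg.oddCore H, QuotientGroup.mk' Z o = q := by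
  haveI : Fact (Nat.Prime 2) := ⟨Nat.prime_two⟩
  obtain ⟨v, rfl⟩ := QuotientGroup.mk'_surjective Z q
  set K := (Cfsg.oddCore (H ⧸ Z)).comap (QuotientGroup.mk' Z) with hK
  have hZK : Z ≤ K := fun x hx => by
    rw [hK, mem_comap, QuotientGroup.mk'_apply, (QuotientGroup.eq_one_iff x).2 hx]
    exact one_mem _
  have hidx : ¬ 2 ∣ (Z.subgroupOf K).index := by
    have h := relIndex_comap (⊥ : Subgroup (H ⧸ Z)) (QuotientGroup.mk' Z) K
    rw [MonoidHom.comap_bot, QuotientGroup.ker_mk', hK,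
      map_comap_eq_self_of_surjective (QuotientGroup.mk'_surjective Z), relIndex_bot_left] at h
    show ¬ 2 ∣ Z.relIndex K
    rw [hK, h]
    exact Core.not_dvd_card_pPrimeCore
  set P : Sylow 2 K := (hZ.of_equiv (subgroupOfEquivOfLe hZK).symm).toSylow hidx with hPdef
  have hP : normalizer ((P : Subgroup K) : Set K) ≤ centralizer ((P : Subgroup K) : Set K) := fun x _ => by
    refine mem_centralizer_iff.2 fun y hy => Subtype.ext ?_
    exact (mem_center_iff.1 (hZc (mem_subgroupOf.1 hy)) x).symm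
  have hR : (MonoidHom.transferSylow P hP).ker ≤ Cfsg.oddCore K :=
    odd_core _ (Nat.odd_iff.2 (Nat.two_dvd_ne_zero.1 (MonoidHom.not_dvd_card_ker_transferSylow P hP)))
  obtain ⟨⟨r, p⟩, hrp⟩ := (MonoidHom.ker_transferSylow_isComplement' P hP).2 (⟨v, hq⟩ : K)
  have hr1 : ((r : K) : H) ∈ Cfsg.oddCore H :=
    ((Core.map_pPrimeCore_normal (p := 2) K).le (mem_map_of_mem K.subtype (hR r.2))).1
  refine ⟨_, hr1, ?_⟩
  have he : ((r : K) : H) * ((p : K) : H) = v := congrArg Subtype.val hrp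
  rw [← he, map_mul, (show QuotientGroup.mk' Z ((p : K) : H) = 1 from
    (QuotientGroup.eq_one_iff _).2 (mem_subgroupOf.1 p.2)), mul_one]

/-- closedness gives weak closure in every Sylow 2-subgroup above -/
theorem sylow_le_normalizer {T T' : Sylow 2 H} {V : Subgroup H} (hle : V ≤ (T : Subgroup H))
    (hcl : ∀ v ∈ V, ∀ g : H, g * v * g⁻¹ ∈ (T : Subgroup H) → g * v * g⁻¹ ∈ V) (hVT : V ≤ (T' : Subgroup H)) :
    (T' : Subgroup H) ≤ normalizer (V : Set H) := by
  obtain ⟨k, hk⟩ := MulAction.exists_smul_eq H T' T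
  have hkT : ∀ y ∈ (T' : Subgroup H), k * y * k⁻¹ ∈ (T : Subgroup H) := fun y hy => by
    rw [← hk]
    exact ⟨y, hy, rfl⟩
  have hkN : k ∈ normalizer (V : Set H) := Invol.mem_normalizer_of_conj_le (by
    rintro _ ⟨v, hv, rfl⟩
    exact hcl v hv k (hkT v (hVT hv)))
  intro t ht
  have h1 : k * t * k⁻¹ ∈ normalizer (V : Set H) := Invol.mem_normalizer_of_conj_le (by
    rintro _ ⟨v, hv, rfl⟩
    exact hcl v hv _ (mul_mem (mul_mem (hkT t ht) (hle hv)) (inv_mem (hkT t ht))))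
  have := mul_mem (mul_mem (inv_mem hkN) h1) hkN
  rwa [show k⁻¹ * (k * t * k⁻¹) * k = t by group] at this

end

variable {G : Type*} [Group G] [Finite G]

/-- elements fixing or inverting `i` -/
def fixInv (i : G) : Subgroup G where
  carrier := {g | g * i * g⁻¹ = i ∨ g * i * g⁻¹ = i⁻¹}
  one_mem' := Or.inl (by group)
  mul_mem' := by
    intro a b ha hb
    have e : a * b * i * (a * b)⁻¹ = a * (b * i * b⁻¹) * a⁻¹ := by group
    show _ ∨ _
    rw [e]
    rcases hb with hb | hb <;> rw [hb]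
    · exact ha
    · rw [← conj_inv]
      rcases ha with ha | ha <;> rw [ha]
      · exact Or.inr rfl
      · exact Or.inl (inv_inv i)
  inv_mem' := by
    intro a ha
    show a⁻¹ * i * a⁻¹⁻¹ = i ∨ a⁻¹ * i * a⁻¹⁻¹ = i⁻¹
    rw [inv_inv]
    rcases ha with ha | ha
    · left; conv_lhs => rw [← ha]
      group
    · right
      have : i = (a * i * a⁻¹)⁻¹ := by rw [ha, inv_inv]
      conv_lhs => rw [this]
      group

theorem mem_fixInv {i g : G} : g ∈ fixInv i ↔ g * i * g⁻¹ = i ∨ g * i * g⁻¹ = i⁻¹ := Iff.rfl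

/-- The element of order four: its facts inside the Sylow 2-subgroup. -/
structure Root (S : Sylow 2 G) (z i : G) : Prop where
  z_ne : z ≠ 1
  z_sq : z * z = 1
  i_mem : i ∈ (S : Subgroup G)
  i_sq : i * i = z
  z_comm : ∀ s ∈ (S : Subgroup G), s * z = z * s
  conj : ∀ s ∈ (S : Subgroup G), s * i * s⁻¹ = i ∨ s * i * s⁻¹ = i⁻¹
  inverted : ∃ s ∈ (S : Subgroup G), s * i * s⁻¹ = i⁻¹
  roots : ∀ y ∈ (S : Subgroup G), y * y = z → y ≠ i → y ≠ i⁻¹ →
    (∃ u ∈ (S : Subgroup G), u * u = y) ∨ ∃ u ∈ (S : Subgroup G), u * u = z ∧ u * y * u⁻¹ = y⁻¹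
  no_sqrt : ∀ u ∈ (S : Subgroup G), u * u ≠ i ∧ u * u ≠ i⁻¹
  no_quat : ∀ u ∈ (S : Subgroup G), u * u = z → u * i * u⁻¹ ≠ i⁻¹

namespace Root

variable {S : Sylow 2 G} {z i : G} (D : Root S z i)
include D

theorem i_inv : i⁻¹ = z * i :=
  inv_eq_of_mul_eq_one_right (by rw [← mul_assoc, ← D.i_sq, ← mul_assoc, mul_assoc (i * i), D.i_sq, D.z_sq])

theorem zi : z * i = i * z := by rw [← D.i_sq, mul_assoc]

theorem i_four : i ^ 4 = 1 := by
  rw [show (4 : ℕ) = 2 * 2 by norm_num, pow_mul, pow_two i, D.i_sq, pow_two, D.z_sq]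

theorem z_mem_zpowers : z ∈ zpowers i := D.i_sq ▸ mul_mem (mem_zpowers i) (mem_zpowers i)

theorem mem_zpowers_cases {x : G} (hx : x ∈ zpowers i) : x = 1 ∨ x = i ∨ x = z ∨ x = i⁻¹ := by
  obtain ⟨k, rfl⟩ := mem_zpowers_iff.1 hx
  have h4 : i ^ (4 : ℤ) = 1 := by exact_mod_cast D.i_four
  rw [← Int.emod_add_mul_ediv k 4, zpow_add, zpow_mul, h4, one_zpow, mul_one]
  have : k % 4 = 0 ∨ k % 4 = 1 ∨ k % 4 = 2 ∨ k % 4 = 3 := by omega
  rcases this with h | h | h | h <;> rw [h]
  · exact Or.inl (zpow_zero i)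
  · exact Or.inr (Or.inl (zpow_one i))
  · exact Or.inr (Or.inr (Or.inl (by rw [zpow_two, D.i_sq])))
  · refine Or.inr (Or.inr (Or.inr ?_))
    refine eq_inv_of_mul_eq_one_left ?_
    rw [← zpow_add_one]
    exact_mod_cast D.i_four

theorem S_le : (S : Subgroup G) ≤ fixInv i := fun s hs => D.conj s hs

theorem fix_comm {g : G} (hg : g ∈ fixInv i) : g * z = z * g := by
  refine mul_inv_eq_iff_eq_mul.1 ?_
  rw [← D.i_sq, show g * (i * i) * g⁻¹ = g * i * g⁻¹ * (g * i * g⁻¹) by group]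
  rcases hg with h | h <;> rw [h]
  rw [← mul_inv_rev, D.i_sq, inv_eq_of_mul_eq_one_right D.z_sq]

theorem cent_le : centralizer ({i} : Set G) ≤ fixInv i := fun g hg =>
  Or.inl (by rw [mem_centralizer_singleton_iff.1 hg, mul_inv_cancel_right])

/-- a 2-subgroup fixing `⟨i⟩` moves into the Sylow subgroup -/
theorem into_S {R : Subgroup G} (hR : R ≤ fixInv i) (hR2 : IsPGroup 2 R) :
    ∃ k ∈ fixInv i, ∀ r ∈ R, k * r * k⁻¹ ∈ (S : Subgroup G) := by
  haveI : Fact (Nat.Prime 2) := ⟨Nat.prime_two⟩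
  obtain ⟨R', hR'⟩ := (hR2.comap_subtype (K := fixInv i)).exists_le_sylow
  obtain ⟨k, hk⟩ := MulAction.exists_smul_eq (fixInv i) R' (S.subtype D.S_le)
  refine ⟨k, k.2, fun r hr => ?_⟩
  have h2 : k * ⟨r, hR hr⟩ * k⁻¹ ∈ (S.subtype D.S_le : Subgroup (fixInv i)) := by
    rw [← hk]
    exact ⟨_, hR' (mem_subgroupOf.2 hr), rfl⟩
  exact mem_subgroupOf.1 h2

/-- `i` is isolated modulo `z` -/
theorem isolated {g : G} (hg : g * z = z * g) (hgS : g * i * g⁻¹ ∈ (S : Subgroup G)) :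
    g * i * g⁻¹ = i ∨ g * i * g⁻¹ = i⁻¹ := by
  by_contra hne
  push Not at hne
  set y := g * i * g⁻¹ with hy
  have hy2 : y * y = z := by
    rw [hy, show g * i * g⁻¹ * (g * i * g⁻¹) = g * (i * i) * g⁻¹ by group, D.i_sq, hg, mul_inv_cancel_right]
  have key : ∀ u ∈ (S : Subgroup G), (u * y * u⁻¹ = y ∨ u * y * u⁻¹ = y⁻¹) → ∃ u' ∈ (S : Subgroup G),
      (u * y * u⁻¹ = y⁻¹ → u' * i * u'⁻¹ = i⁻¹) ∧ (u * u = y → u' * u' = i ∨ u' * u' = i⁻¹) ∧
        (u * u = z → u' * u' = z) := by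
    intro u hu hcase
    have hR : (zpowers (g⁻¹ * u * g)) ≤ fixInv i := zpowers_le.2 (by
      have e : g⁻¹ * u * g * i * (g⁻¹ * u * g)⁻¹ = g⁻¹ * (u * y * u⁻¹) * g := by rw [hy]; group
      rw [mem_fixInv, e]
      rcases hcase with h | h <;> rw [h, hy]
      · left; group
      · right; group)
    have hR2 : IsPGroup 2 (zpowers (g⁻¹ * u * g)) := by
      have h := (S.2.to_le (zpowers_le.2 hu)).map (MulAut.conj g⁻¹).toMonoidHom
      rw [MonoidHom.map_zpowers] at h
      rwa [show (MulAut.conj g⁻¹).toMonoidHom u = g⁻¹ * u * g by simp] at h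
    obtain ⟨k, hk, hkS⟩ := D.into_S hR hR2
    refine ⟨_, hkS _ (mem_zpowers _), fun h => ?_, fun h => ?_, fun h => ?_⟩
    · have e : ∀ x : G, k * (g⁻¹ * u * g) * k⁻¹ * (k * x * k⁻¹) * (k * (g⁻¹ * u * g) * k⁻¹)⁻¹ =
          k * (g⁻¹ * (u * (g * x * g⁻¹) * u⁻¹) * g) * k⁻¹ := fun x => by group
      have hi := e i
      rw [← hy, h, hy, show g⁻¹ * (g * i * g⁻¹)⁻¹ * g = i⁻¹ by group] at hi
      rcases hk with hk | hk
      · rw [← conj_inv, hk] at hi
        exact hi
      · rw [← conj_inv, hk, inv_inv] at hi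
        conv_lhs => rw [← inv_inv i]
        rw [← conj_inv, hi]
    · have e : k * (g⁻¹ * u * g) * k⁻¹ * (k * (g⁻¹ * u * g) * k⁻¹) = k * i * k⁻¹ := by
        rw [show k * (g⁻¹ * u * g) * k⁻¹ * (k * (g⁻¹ * u * g) * k⁻¹) = k * (g⁻¹ * (u * u) * g) * k⁻¹ by group, h, hy]
        group
      rw [e]
      exact hk
    · rw [show k * (g⁻¹ * u * g) * k⁻¹ * (k * (g⁻¹ * u * g) * k⁻¹) = k * (g⁻¹ * (u * u) * g) * k⁻¹ by group, h,
        show g⁻¹ * z * g = z by rw [mul_assoc, ← hg, inv_mul_cancel_left], D.fix_comm hk, mul_inv_cancel_right]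
  rcases D.roots y hgS hy2 hne.1 hne.2 with ⟨u, hu, h⟩ | ⟨u, hu, h, h'⟩
  · obtain ⟨u', hu', -, h2, -⟩ := key u hu (Or.inl (by rw [← h]; group))
    rcases h2 h with e | e
    · exact (D.no_sqrt u' hu').1 e
    · exact (D.no_sqrt u' hu').2 e
  · obtain ⟨u', hu', h1, -, h3⟩ := key u hu (Or.inr h')
    exact D.no_quat u' hu' (h3 h) (h1 h')

/-- `C(z)` is covered by its core and the normalizer of `⟨i⟩` -/
theorem covers {g : G} (hg : g * z = z * g) : ∃ o ∈ theta z, ∃ n ∈ fixInv i, g = o * n := by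
  haveI : Fact (Nat.Prime 2) := ⟨Nat.prime_two⟩
  set C := centralizer ({z} : Set G) with hC
  set zC : C := ⟨z, mem_centralizer_singleton_iff.2 rfl⟩ with hzC
  have hZc : zpowers zC ≤ center C := zpowers_le.2 (mem_center_iff.2 fun c =>
    Subtype.ext (mem_centralizer_singleton_iff.1 c.2))
  haveI : (zpowers zC).Normal := ⟨fun a ha b => by
    rwa [mem_center_iff.1 (hZc ha) b, mul_inv_cancel_right]⟩
  have hzz : zC * zC = 1 := Subtype.ext D.z_sq
  set f := QuotientGroup.mk' (zpowers zC) with hf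
  have hSC : (S : Subgroup G) ≤ C := fun s hs => mem_centralizer_singleton_iff.2 (D.z_comm s hs)
  set iC : C := ⟨i, hSC D.i_mem⟩
  have hfz : f zC = 1 := (QuotientGroup.eq_one_iff zC).2 (mem_zpowers _)
  have hcases : ∀ {a b : C}, f a = f b → a = b ∨ a = b * zC := by
    intro a b h
    obtain ⟨k, hk⟩ := mem_zpowers_iff.1 (QuotientGroup.eq.1 h.symm)
    rcases Int.even_or_odd' k with ⟨j, rfl | rfl⟩
    · left
      rw [zpow_mul, zpow_two, hzz, one_zpow] at hk
      exact (inv_mul_eq_one.1 hk.symm).symm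
    · right
      rw [zpow_add_one, zpow_mul, zpow_two, hzz, one_zpow, one_mul] at hk
      rw [hk, mul_inv_cancel_left]
  have hzT : zC ∈ (S.subtype hSC : Subgroup C) :=
    mem_subgroupOf.2 (show z ∈ (S : Subgroup G) by rw [← D.i_sq]; exact mul_mem D.i_mem D.i_mem)
  have hiso : Cfsg.IsIsolatedInvolution (f iC) := by
    refine Invol.isolated_of_sylow ((S.subtype hSC).mapSurjective (QuotientGroup.mk'_surjective _)) ?_ fun q hq => ?_
    · refine orderOf_eq_prime ?_ fun e => ?_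
      · rw [pow_two, ← map_mul, show iC * iC = zC from Subtype.ext D.i_sq, hfz]
      · rcases hcases (e.trans (map_one f).symm) with h | h
        · exact D.z_ne (by rw [← D.i_sq, show i = 1 from congrArg Subtype.val h, mul_one])
        · refine D.z_ne ?_
          rw [one_mul] at h
          have : i = z := congrArg Subtype.val h
          have h2 := D.i_sq
          rw [this, D.z_sq] at h2
          exact h2.symm
    obtain ⟨c, rfl⟩ := QuotientGroup.mk'_surjective _ q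
    obtain ⟨s, hs, hsq⟩ := hq
    rw [← map_inv, ← map_mul, ← map_mul] at hsq
    have hmem : c * iC * c⁻¹ ∈ (S.subtype hSC : Subgroup C) := by
      rcases hcases hsq with h | h
      · exact h ▸ hs
      · have h2 := mul_mem hs (inv_mem hzT)
        rwa [h, mul_inv_cancel_right] at h2
    show f c * f iC * (f c)⁻¹ = f iC
    rw [← map_inv, ← map_mul, ← map_mul]
    rcases D.isolated (mem_centralizer_singleton_iff.1 c.2) (mem_subgroupOf.1 hmem) with h | h
    · rw [show c * iC * c⁻¹ = iC from Subtype.ext h]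
    · rw [show c * iC * c⁻¹ = zC * iC from Subtype.ext (h.trans D.i_inv), map_mul, hfz, one_mul]
  set gC : C := ⟨g, mem_centralizer_singleton_iff.2 hg⟩
  obtain ⟨j, -, -, -, hj⟩ := Isolated.exists_sqrt hiso (f gC)
  have hm : (f gC * f iC * (f gC)⁻¹ * f iC) ^ j ∈ Cfsg.oddCore (C ⧸ zpowers zC) := by
    refine pow_mem ?_ j
    have h := inv_mem (Invol.zstar hiso (f gC))
    have hii : (f iC)⁻¹ = f iC := inv_eq_of_mul_eq_one_right (by
      rw [← map_mul, show iC * iC = zC from Subtype.ext D.i_sq, hfz])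
    rw [mul_inv_rev, mul_inv_rev, mul_inv_rev, inv_inv, inv_inv, hii, ← mul_assoc, ← mul_assoc] at h
    exact h
  obtain ⟨o, ho, hof⟩ := lift_core hZc ((isPGroup_zpowers hzz)) hm
  refine ⟨o, ⟨o, ho, rfl⟩, (o : G)⁻¹ * g, ?_, (mul_inv_cancel_left _ _).symm⟩
  rw [← hof, ← hf, ← map_inv, ← map_mul, ← map_mul, ← map_inv, ← map_mul, ← map_mul] at hj
  have e : f ((o⁻¹ * gC) * iC * (o⁻¹ * gC)⁻¹) = f iC := by
    rw [show o⁻¹ * gC * iC * (o⁻¹ * gC)⁻¹ = o⁻¹ * (gC * iC * gC⁻¹) * o by group, map_mul, map_mul, ← hj,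
      ← map_mul, ← map_mul]
    congr 1
    group
  rcases hcases e with h | h
  · exact Or.inl (congrArg Subtype.val h)
  · refine Or.inr ?_
    rw [D.i_inv, D.zi]
    exact congrArg Subtype.val h

/-- the core of `C(i)` lies in the core of `C(z)` -/
theorem theta_le {o : G} (ho : o ∈ theta i) : o ∈ theta z := by
  set C := centralizer ({z} : Set G) with hC
  have hNC : fixInv i ≤ C := fun n hn => mem_centralizer_singleton_iff.2 (D.fix_comm hn)
  have ho1 : o ∈ SylJ2.core (fixInv i) := SylJ2.le_core ((SylJ2.theta_le i).trans D.cent_le) (SylJ2.core_odd _)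
    (fun n hn a ha => by
      have h := SylJ2.theta_conj (g := n) ha
      rcases hn with e | e <;> rw [e] at h
      · exact h
      · have e2 : centralizer ({i⁻¹} : Set G) = centralizer ({i} : Set G) := by
          ext c
          simp only [mem_centralizer_singleton_iff]
          exact ⟨fun h => (Commute.inv_right_iff.1 h).eq, fun h => (Commute.inv_right_iff.2 h).eq⟩
        rwa [theta, e2] at h) ho
  obtain ⟨b, hb, rfl⟩ := ho1
  set π := (QuotientGroup.mk' (Cfsg.oddCore C)).comp (inclusion hNC) with hπ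
  have hπs : Function.Surjective π := by
    intro q
    obtain ⟨c, rfl⟩ := QuotientGroup.mk'_surjective _ q
    obtain ⟨o, ⟨o', ho', rfl⟩, n, hn, he⟩ := D.covers (mem_centralizer_singleton_iff.1 c.2)
    refine ⟨⟨n, hn⟩, ?_⟩
    rw [show c = o' * inclusion hNC ⟨n, hn⟩ from Subtype.ext he, map_mul,
      (show QuotientGroup.mk' (Cfsg.oddCore C) o' = 1 from (QuotientGroup.eq_one_iff o').2 ho'), one_mul]
    rfl
  have h1 := Core.map_pPrimeCore_le_of_surjective (p := 2) hπs ⟨b, hb, rfl⟩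
  rw [Core.pPrimeCore_quotient_eq_bot, mem_bot] at h1
  exact ⟨inclusion hNC b, (QuotientGroup.eq_one_iff _).1 h1, rfl⟩

end Root

end Cfsg.Agent.HSSylow
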