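import Mathlib
import Cfsg.Agent.HSSylow.Cent

/-!
A band `⟨i⟩ ≤ B ≤ S`, elementary abelian modulo `⟨i⟩` and closed on the class of `z`, is normal in `C(z)`
modulo the odd core.
-/

set_option autoImplicit false
set_option linter.unusedSectionVars false
set_option linter.style.haveILetI false

namespace Cfsg.Agent.HSSylow

open Subgroup
open Cfsg.Agent.SylJ2 (theta)

variable {G : Type*} [Group G] [Finite G]

/-- The finite facts about a band. -/
structure Band (S : Sylow 2 G) (z i : G) (B : Subgroup G) : Prop where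
  le : B ≤ (S : Subgroup G)
  i_mem : i ∈ B
  comm_i : ∀ b ∈ B, b * i = i * b
  sq : ∀ b ∈ B, b * b ∈ zpowers i
  comm : ∀ a ∈ B, ∀ b ∈ B, a * b * a⁻¹ * b⁻¹ ∈ zpowers i
  card : 16 ≤ Nat.card B
  norm : (S : Subgroup G) ≤ normalizer (B : Set G)
  lift : ∀ x ∈ (S : Subgroup G), x * i = i * x → x * x ∈ zpowers i → x ∉ zpowers i →
    ∃ u ∈ (S : Subgroup G), u * u = 1 ∧ x⁻¹ * u ∈ zpowers i
  type : ∀ x ∈ (S : Subgroup G), x * i = i * x → x * x = 1 → x ≠ 1 → (x ∈ B ↔ IsConj z x)
  out : ∃ x ∈ (S : Subgroup G), x * i = i * x ∧ x * x = 1 ∧ x ∉ B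
  fix : ∀ x ∈ (S : Subgroup G), x * i = i * x → x * x = 1 → x ∉ B →
    (∃ a ∈ B, ∃ b ∈ B, a ∉ zpowers i ∧ b ∉ zpowers i ∧ a⁻¹ * b ∉ zpowers i ∧
      x * a * x⁻¹ * a⁻¹ ∈ zpowers i ∧ x * b * x⁻¹ * b⁻¹ ∈ zpowers i) ∧
    ∃ v ∈ B, v * v = 1 ∧ v ∉ zpowers i ∧ x * v = v * x ∧
      ∀ w ∈ B, w * w = 1 → x * w = w * x → w ∈ zpowers i ∨ v⁻¹ * w ∈ zpowers i

/-- A subgroup above `B`, elementary abelian of rank at least three modulo `⟨i⟩`. -/
structure Over (S : Sylow 2 G) (i : G) (B R : Subgroup G) : Prop where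
  base : B ≤ R
  le : R ≤ (S : Subgroup G)
  comm_i : ∀ b ∈ R, b * i = i * b
  sq : ∀ b ∈ R, b * b ∈ zpowers i
  comm : ∀ a ∈ R, ∀ b ∈ R, a * b * a⁻¹ * b⁻¹ ∈ zpowers i
  card : 32 ≤ Nat.card R

/-- the element `i` in its centralizer -/
def iC (i : G) : centralizer ({i} : Set G) := ⟨i, mem_centralizer_singleton_iff.2 rfl⟩

instance iC_normal (i : G) : (zpowers (iC i)).Normal := ⟨fun a ha b => by
  have h : iC i ∈ center (centralizer ({i} : Set G)) :=
    mem_center_iff.2 fun c => Subtype.ext (mem_centralizer_singleton_iff.1 c.2)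
  rwa [mem_center_iff.1 (zpowers_le.2 h ha) b, mul_inv_cancel_right]⟩

/-- the projection -/
abbrev proj (i : G) : centralizer ({i} : Set G) →* centralizer ({i} : Set G) ⧸ zpowers (iC i) :=
  QuotientGroup.mk' _

/-- the image of a subgroup of `C(i)` -/
abbrev bar (i : G) (B : Subgroup G) : Subgroup (centralizer ({i} : Set G) ⧸ zpowers (iC i)) :=
  (B.subgroupOf (centralizer ({i} : Set G))).map (proj i)

theorem proj_eq_iff {i : G} {a b : centralizer ({i} : Set G)} :
    proj i a = proj i b ↔ (a : G)⁻¹ * b ∈ zpowers i := by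
  rw [QuotientGroup.mk'_apply, QuotientGroup.mk'_apply, QuotientGroup.eq]
  constructor
  · rintro ⟨k, hk⟩
    exact ⟨k, by simpa [iC] using congrArg Subtype.val hk⟩
  · rintro ⟨k, hk⟩
    exact ⟨k, Subtype.ext (by simpa [iC] using hk)⟩

theorem proj_eq_one_iff {i : G} {a : centralizer ({i} : Set G)} : proj i a = 1 ↔ (a : G) ∈ zpowers i := by
  rw [← map_one (proj i), eq_comm, proj_eq_iff]
  simp

theorem mem_bar {i : G} {B : Subgroup G} (hi : i ∈ B) {a : centralizer ({i} : Set G)} :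
    proj i a ∈ bar i B ↔ (a : G) ∈ B := by
  refine ⟨?_, fun h => ⟨a, h, rfl⟩⟩
  rintro ⟨b, hb, hba⟩
  have h := mul_mem (mem_subgroupOf.1 hb) (zpowers_le.2 hi (proj_eq_iff.1 hba))
  rwa [mul_inv_cancel_left] at h

theorem card_bar {i : G} (hi : i ^ 4 = 1) {B : Subgroup G} (hB : ∀ b ∈ B, b * i = i * b) :
    Nat.card B ≤ 4 * Nat.card (bar i B) := by
  have hBC : B ≤ centralizer ({i} : Set G) := fun b hb => mem_centralizer_singleton_iff.2 (hB b hb)
  set f := (proj i).comp (B.subgroupOf (centralizer ({i} : Set G))).subtype with hf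
  have hr : f.range = bar i B := by rw [hf, MonoidHom.range_comp, range_subtype]
  have h := Subgroup.card_eq_card_quotient_mul_card_subgroup f.ker
  rw [Nat.card_congr (QuotientGroup.quotientKerEquivRange f).toEquiv, hr,
    Nat.card_congr (subgroupOfEquivOfLe hBC).toEquiv] at h
  have hk : Nat.card f.ker ≤ Nat.card (zpowers i) :=
    Nat.card_le_card_of_injective (fun a => ⟨((a.1 : centralizer ({i} : Set G)) : G), proj_eq_one_iff.1 a.2⟩)
      fun a b e => by
        simp only [Subtype.mk.injEq] at e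
        exact Subtype.ext (Subtype.ext (Subtype.ext e))
  rw [Nat.card_zpowers] at hk
  rw [h, mul_comm]
  exact Nat.mul_le_mul_right _ (hk.trans (Nat.le_of_dvd (by norm_num) (orderOf_dvd_of_pow_eq_one hi)))

namespace Band

variable {S : Sylow 2 G} {z i : G} {B : Subgroup G} (P : Band S z i B) (D : Root S z i)
include D

/-- an element of `⟨i⟩` squaring to one -/
theorem inner_invol {c : G} (hc : c ∈ zpowers i) (h : c * c = 1) : c = 1 ∨ c = z := by
  rcases D.mem_zpowers_cases hc with e | e | e | e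
  · exact Or.inl e
  · exact absurd (D.i_sq.symm.trans (e ▸ h)) D.z_ne
  · exact Or.inr e
  · refine absurd ?_ D.z_ne
    rw [e, ← mul_inv_rev, D.i_sq, inv_eq_one] at h
    exact h

theorem commute_z {c : G} (hc : c * i = i * c) : c * z = z * c := by
  rw [← D.i_sq, ← mul_assoc, hc, mul_assoc, hc, ← mul_assoc]

/-- conjugates equal modulo `⟨i⟩` of an involution -/
theorem conj_cases {x g : centralizer ({i} : Set G)} (hx : (x : G) * x = 1)
    (h : proj i g * proj i x * (proj i g)⁻¹ = proj i x) :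
    (g : G) * x * (g : G)⁻¹ = x ∨ (g : G) * x * (g : G)⁻¹ = x * z := by
  rw [← map_inv, ← map_mul, ← map_mul, eq_comm, proj_eq_iff, Subgroup.coe_mul, Subgroup.coe_mul, Subgroup.coe_inv] at h
  have hxi := mem_centralizer_singleton_iff.1 x.2
  set c := (x : G)⁻¹ * ((g : G) * x * (g : G)⁻¹) with hc
  have hcm : Commute (x : G) c := by
    obtain ⟨k, hk⟩ := mem_zpowers_iff.1 h
    have hk' : i ^ k = c := hk
    rw [← hk']
    exact Commute.zpow_right hxi k
  have hxc : (g : G) * x * (g : G)⁻¹ = x * c := by rw [hc, mul_inv_cancel_left]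
  have hsq : c * c = 1 := by
    have e : (x : G) * c * (x * c) = 1 := by
      rw [← hxc, show (g : G) * x * (g : G)⁻¹ * ((g : G) * x * (g : G)⁻¹) = (g : G) * (x * x) * (g : G)⁻¹ by group,
        hx, mul_one, mul_inv_cancel]
    rwa [show (x : G) * c * (x * c) = x * (c * x) * c by group, ← hcm.eq,
      show (x : G) * (x * c) * c = (x * x) * (c * c) by group, hx, one_mul] at e
  rcases inner_invol D h hsq with e | e <;> rw [hxc, e]
  · exact Or.inl (mul_one _)
  · exact Or.inr rfl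

theorem fix_of_odd {x g : centralizer ({i} : Set G)} (hx : (x : G) * x = 1) (hg : Odd (orderOf g))
    (h : proj i g * proj i x * (proj i g)⁻¹ = proj i x) : g ∈ centralizer ({x} : Set _) := by
  refine mem_of_pow_two hg (m := 1) ?_
  rw [pow_one, pow_two, mem_centralizer_singleton_iff]
  refine Subtype.ext ?_
  show (g : G) * g * x = x * ((g : G) * g)
  have hgz := commute_z D (mem_centralizer_singleton_iff.1 g.2)
  rcases conj_cases D hx h with e | e
  · rw [mul_inv_eq_iff_eq_mul] at e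
    rw [mul_assoc, e, ← mul_assoc, e, mul_assoc]
  · rw [mul_inv_eq_iff_eq_mul] at e
    rw [mul_assoc, e, ← mul_assoc, ← mul_assoc, e, mul_assoc ((x : G) * z * g) z, ← hgz,
      show (x : G) * z * g * (g * z) = x * (z * g) * (g * z) by group, ← hgz,
      show (x : G) * (g * z) * (g * z) = x * g * (z * g) * z by group, ← hgz,
      show (x : G) * g * (g * z) * z = x * (g * g) * (z * z) by group, D.z_sq, mul_one]

/-- centralizers modulo `⟨i⟩` of involutions with good centralizers -/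
theorem twoNil_cent {v : centralizer ({i} : Set G)} (hv : (v : G) * v = 1)
    (h : TwoNil ↥(centralizer ({z, (v : G)} : Set G))) :
    TwoNil ↥(centralizer ({proj i v} : Set (centralizer ({i} : Set G) ⧸ zpowers (iC i)))) := by
  set L := centralizer ({proj i v} : Set (centralizer ({i} : Set G) ⧸ zpowers (iC i)))
  set E := L.comap (proj i)
  have hE : TwoNil E := by
    refine TwoNil.of_odd_mem (N := (centralizer ({v} : Set _)).subgroupOf E) ?_ fun x hx => ?_
    · let f : (centralizer ({v} : Set _)).subgroupOf E →* centralizer ({z, (v : G)} : Set G) :=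
        { toFun := fun a => ⟨((a.1.1 : centralizer ({i} : Set G)) : G), mem_centralizer_iff.2 (by
            rintro y (rfl | rfl)
            · exact (commute_z D (mem_centralizer_singleton_iff.1 a.1.1.2)).symm
            · exact (congrArg Subtype.val (mem_centralizer_singleton_iff.1 (mem_subgroupOf.1 a.2))).symm)⟩
          map_one' := rfl
          map_mul' := fun _ _ => rfl }
      exact h.of_injective (f := f) fun a b e => by
        have e' := congrArg Subtype.val e
        exact Subtype.ext (Subtype.ext (Subtype.ext e'))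
    · refine mem_subgroupOf.2 (fix_of_odd D hv (by rwa [Subgroup.orderOf_coe]) ?_)
      have hxL : proj i x.1 ∈ L := x.2
      rw [mem_centralizer_singleton_iff.1 hxL, mul_inv_cancel_right]
  refine hE.of_surjective (f := ((proj i).comp E.subtype).codRestrict L fun a => a.2) fun q => ?_
  obtain ⟨c, hc⟩ := QuotientGroup.mk'_surjective _ q.1
  exact ⟨⟨c, show proj i c ∈ L by rw [show proj i c = q.1 from hc]; exact q.2⟩, Subtype.ext hc⟩

theorem sylow_cent : ∃ T : Sylow 2 ↥(centralizer ({i} : Set G)),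
    (T : Subgroup _) = (S : Subgroup G).subgroupOf (centralizer ({i} : Set G)) := by
  set C := centralizer ({i} : Set G)
  obtain ⟨Q, hQ⟩ := (S.2.comap_subtype (K := C)).exists_le_sylow
  refine ⟨Q, (eq_of_le_of_card_ge hQ ?_).symm⟩
  obtain ⟨k, hk, hkS⟩ := D.into_S (R := (Q : Subgroup C).map C.subtype)
    ((map_subtype_le _).trans D.cent_le) (Q.2.map _)
  have hmem : ∀ r : (Q : Subgroup C), k * ((r.1 : C) : G) * k⁻¹ ∈ C := fun r => by
    have hr := mem_centralizer_singleton_iff.1 r.1.2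
    have hki : k * i * k⁻¹ = i ∨ k * i * k⁻¹ = i⁻¹ := hk
    have e : (k * ((r.1 : C) : G) * k⁻¹) * (k * i * k⁻¹) = (k * i * k⁻¹) * (k * ((r.1 : C) : G) * k⁻¹) := by
      rw [show (k * ((r.1 : C) : G) * k⁻¹) * (k * i * k⁻¹) = k * (((r.1 : C) : G) * i) * k⁻¹ by group, hr]
      group
    rcases hki with e' | e' <;> rw [e'] at e
    · exact mem_centralizer_singleton_iff.2 e
    · exact mem_centralizer_singleton_iff.2 (Commute.inv_right_iff.1 e).eq
  refine Nat.card_le_card_of_injective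
    (fun r : (Q : Subgroup C) => (⟨⟨_, hmem r⟩, hkS _ ⟨r.1, r.2, rfl⟩⟩ : (S : Subgroup G).subgroupOf C))
    fun a b e => ?_
  exact Subtype.ext (Subtype.ext (mul_left_cancel (mul_right_cancel (congrArg (fun y => ((y.1 : C) : G)) e))))

/-- moving a 2-subgroup of the quotient into the band -/
theorem into_bar {R : Subgroup (centralizer ({i} : Set G) ⧸ zpowers (iC i))} (hR : IsPGroup 2 R) :
    ∃ k : centralizer ({i} : Set G), ∀ a, proj i a ∈ R → ((k * a * k⁻¹ : centralizer ({i} : Set G)) : G) ∈ (S : Subgroup G) := by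
  haveI : Fact (Nat.Prime 2) := ⟨Nat.prime_two⟩
  obtain ⟨T, hT⟩ := sylow_cent D
  obtain ⟨R', hR'⟩ := hR.exists_le_sylow
  obtain ⟨q, hq⟩ := MulAction.exists_smul_eq (centralizer ({i} : Set G) ⧸ zpowers (iC i)) R'
    (T.mapSurjective (QuotientGroup.mk'_surjective (zpowers (iC i))))
  obtain ⟨k, rfl⟩ := QuotientGroup.mk'_surjective _ q
  refine ⟨k, fun a ha => ?_⟩
  have h : proj i k * proj i a * (proj i k)⁻¹ ∈
      ((T.mapSurjective (QuotientGroup.mk'_surjective (zpowers (iC i)))) : Subgroup _) := by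
    rw [← hq]
    exact ⟨_, hR' ha, rfl⟩
  obtain ⟨t, ht, hte⟩ := h
  rw [← map_inv, ← map_mul, ← map_mul] at hte
  have htS : ((t : centralizer ({i} : Set G)) : G) ∈ (S : Subgroup G) := by
    rw [hT] at ht
    exact mem_subgroupOf.1 ht
  have h2 := mul_mem htS (zpowers_le.2 D.i_mem (proj_eq_iff.1 hte))
  rwa [mul_inv_cancel_left] at h2

include P

theorem exists_lift {u : centralizer ({i} : Set G)} (hu : (u : G) ∈ (S : Subgroup G)) (h : proj i u * proj i u = 1) :
    ∃ x : centralizer ({i} : Set G), (x : G) ∈ (S : Subgroup G) ∧ (x : G) * x = 1 ∧ proj i x = proj i u := by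
  rw [← map_mul, proj_eq_one_iff] at h
  by_cases hui : (u : G) ∈ zpowers i
  · exact ⟨1, one_mem _, by simp, by rw [map_one, proj_eq_one_iff.2 hui]⟩
  obtain ⟨x, hx, hx2, hxu⟩ := P.lift u hu (mem_centralizer_singleton_iff.1 u.2) h hui
  have hxC : x ∈ centralizer ({i} : Set G) := by
    have := mul_mem u.2 (zpowers_le.2 (mem_centralizer_singleton_iff.2 (rfl : i * i = i * i)) hxu)
    rwa [mul_inv_cancel_left] at this
  exact ⟨⟨x, hxC⟩, hx, hx2, (proj_eq_iff.2 hxu).symm⟩

theorem mem_of_conj_z {x : centralizer ({i} : Set G)} (hx : (x : G) ∈ (S : Subgroup G)) (h2 : (x : G) * x = 1)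
    (hc : IsConj z (x : G)) : (x : G) ∈ B := by
  rcases eq_or_ne (x : G) 1 with e | e
  · exact e ▸ one_mem B
  · exact (P.type x hx (mem_centralizer_singleton_iff.1 x.2) h2 e).2 hc

theorem conj_z_of_mem {x : centralizer ({i} : Set G)} (hx : (x : G) ∈ B) (h2 : (x : G) * x = 1)
    (h1 : (x : G) ≠ 1) : IsConj z (x : G) :=
  (P.type x (P.le hx) (mem_centralizer_singleton_iff.1 x.2) h2 h1).1 hx

/-- a closed element commuting with an outer involution fixes the distinguished coset -/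
theorem isolated_of_out {x v g : centralizer ({i} : Set G)} (hx : (x : G) ∈ (S : Subgroup G))
    (hx2 : (x : G) * x = 1) (hxB : (x : G) ∉ B) (hv : (v : G) ∈ B) (hv2 : (v : G) * v = 1)
    (hvi : (v : G) ∉ zpowers i) (hxv : (x : G) * v = v * x)
    (hg : proj i g * proj i x * (proj i g)⁻¹ = proj i x)
    (hc : Commute (proj i v) (proj i g * proj i v * (proj i g)⁻¹)) :
    proj i g * proj i v * (proj i g)⁻¹ = proj i v := by
  set w := g * v * g⁻¹ with hw
  have hxC := mem_centralizer_singleton_iff.1 x.2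
  have hx1 : (x : G) ≠ 1 := fun e => hxB (e ▸ one_mem B)
  have hv1 : (v : G) ≠ 1 := fun e => hvi (e ▸ one_mem _)
  have hw2 : (w : G) * w = 1 := by
    show (g : G) * v * (g : G)⁻¹ * ((g : G) * v * (g : G)⁻¹) = 1
    rw [show (g : G) * v * (g : G)⁻¹ * ((g : G) * v * (g : G)⁻¹) = (g : G) * (v * v) * (g : G)⁻¹ by group, hv2,
      mul_one, mul_inv_cancel]
  have hgz := commute_z D (mem_centralizer_singleton_iff.1 g.2)
  have hwz := commute_z D (mem_centralizer_singleton_iff.1 w.2)
  have hxw : (x : G) * w = w * x := by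
    have e0 : ((g : G) * x * (g : G)⁻¹) * w = w * ((g : G) * x * (g : G)⁻¹) := by
      show ((g : G) * x * (g : G)⁻¹) * ((g : G) * v * (g : G)⁻¹) = ((g : G) * v * (g : G)⁻¹) * ((g : G) * x * (g : G)⁻¹)
      rw [show ((g : G) * x * (g : G)⁻¹) * ((g : G) * v * (g : G)⁻¹) = (g : G) * (x * v) * (g : G)⁻¹ by group, hxv]
      group
    rcases conj_cases D hx2 hg with e | e <;> rw [e] at e0
    · exact e0
    · rw [mul_assoc, ← hwz, ← mul_assoc, ← mul_assoc] at e0
      exact mul_right_cancel e0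
  have hR : IsPGroup 2 (closure ({proj i x, proj i v, proj i w} : Set _)) := by
    have hcx : ∀ a b : centralizer ({i} : Set G), (a : G) * b = b * a → proj i a * proj i b = proj i b * proj i a :=
      fun a b e => by rw [← map_mul, ← map_mul, show a * b = b * a from Subtype.ext e]
    have hvw : proj i v * proj i w = proj i w * proj i v := by
      rw [hw, map_mul, map_mul, map_inv]
      exact hc.eq
    haveI := isMulCommutative_closure (k := ({proj i x, proj i v, proj i w} : Set _)) (by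
      rintro a (rfl | rfl | rfl) b (rfl | rfl | rfl)
      all_goals first
        | rfl
        | exact hcx _ _ hxv
        | exact (hcx _ _ hxv).symm
        | exact hcx _ _ hxw
        | exact (hcx _ _ hxw).symm
        | exact hvw
        | exact hvw.symm)
    intro q
    refine ⟨1, Subtype.ext ?_⟩
    rw [pow_one, pow_two]
    have hq : ∀ y ∈ closure ({proj i x, proj i v, proj i w} : Set _), y * y = 1 := by
      intro y hy
      induction hy using closure_induction with
      | mem y hy =>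
        rcases hy with rfl | rfl | rfl
        · rw [← map_mul, show x * x = 1 from Subtype.ext hx2, map_one]
        · rw [← map_mul, show v * v = 1 from Subtype.ext hv2, map_one]
        · rw [← map_mul, show w * w = 1 from Subtype.ext hw2, map_one]
      | one => exact one_mul 1
      | mul a b ha hb h1 h2 =>
        have hcm := congrArg Subtype.val
          (IsMulCommutative.is_comm.comm (⟨a, ha⟩ : closure ({proj i x, proj i v, proj i w} : Set _)) ⟨b, hb⟩)
        rw [show a * b * (a * b) = a * (b * a) * b by group, ← show a * b = b * a from hcm,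
          show a * (a * b) * b = (a * a) * (b * b) by group, h1, h2, mul_one]
      | inv a _ h1 => rw [← mul_inv_rev, h1, inv_one]
    exact hq q.1 q.2
  obtain ⟨k, hk⟩ := into_bar D hR
  have hsq : ∀ a : centralizer ({i} : Set G), (a : G) * a = 1 →
      ((k * a * k⁻¹ : centralizer ({i} : Set G)) : G) * (k * a * k⁻¹ : centralizer ({i} : Set G)) = 1 := fun a ha => by
    rw [← Subgroup.coe_mul, show k * a * k⁻¹ * (k * a * k⁻¹) = k * (a * a) * k⁻¹ by group,
      show a * a = 1 from Subtype.ext ha, mul_one, mul_inv_cancel, OneMemClass.coe_one]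
  have hxS := hk x (subset_closure (by simp))
  have hvS := hk v (subset_closure (by simp))
  have hwS := hk w (subset_closure (by simp))
  have hconj : ∀ a : centralizer ({i} : Set G), IsConj (a : G) ((k * a * k⁻¹ : centralizer ({i} : Set G)) : G) :=
    fun a => isConj_iff.2 ⟨k, rfl⟩
  have hvz := P.conj_z_of_mem D hv hv2 hv1
  have hvB := P.mem_of_conj_z D hvS (hsq v hv2) (hvz.trans (hconj v))
  have hwB := P.mem_of_conj_z D hwS (hsq w hw2)
    ((hvz.trans (isConj_iff.2 ⟨g, rfl⟩ : IsConj (v : G) (w : G))).trans (hconj w))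
  have hxB' : ((k * x * k⁻¹ : centralizer ({i} : Set G)) : G) ∉ B := fun h => by
    have hne : ((k * x * k⁻¹ : centralizer ({i} : Set G)) : G) ≠ 1 := fun e => hx1 (conj_eq_one_iff.1 e)
    exact hxB (P.mem_of_conj_z D hx hx2 ((P.conj_z_of_mem D h (hsq x hx2) hne).trans (hconj x).symm))
  obtain ⟨-, v', -, -, -, -, huniq⟩ := P.fix _ hxS (mem_centralizer_singleton_iff.1 (k * x * k⁻¹).2) (hsq x hx2) hxB'
  have hcc : ∀ a : centralizer ({i} : Set G), (x : G) * a = a * x →
      ((k * x * k⁻¹ : centralizer ({i} : Set G)) : G) * (k * a * k⁻¹ : centralizer ({i} : Set G)) =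
        (k * a * k⁻¹ : centralizer ({i} : Set G)) * (k * x * k⁻¹ : centralizer ({i} : Set G)) := fun a ha => by
    rw [← Subgroup.coe_mul, ← Subgroup.coe_mul, show k * x * k⁻¹ * (k * a * k⁻¹) = k * (x * a) * k⁻¹ by group,
      show x * a = a * x from Subtype.ext ha]
    congr 1
    group
  have hnot : ∀ a : centralizer ({i} : Set G), (a : G) ∉ zpowers i →
      ((k * a * k⁻¹ : centralizer ({i} : Set G)) : G) ∉ zpowers i := fun a ha h => by
    refine ha ?_
    rw [← proj_eq_one_iff] at h ⊢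
    rwa [map_mul, map_mul, map_inv, conj_eq_one_iff] at h
  have hwi : (w : G) ∉ zpowers i := fun h => hvi (by
    rw [← proj_eq_one_iff] at h ⊢
    rwa [hw, map_mul, map_mul, map_inv, conj_eq_one_iff] at h)
  have h1 := (huniq _ hvB (hsq v hv2) (hcc v hxv)).resolve_left (hnot v hvi)
  have h2 := (huniq _ hwB (hsq w hw2) (hcc w hxw)).resolve_left (hnot w hwi)
  have h3 := mul_mem (inv_mem h1) h2
  rw [show (v'⁻¹ * ((k * v * k⁻¹ : centralizer ({i} : Set G)) : G))⁻¹ *
    (v'⁻¹ * ((k * w * k⁻¹ : centralizer ({i} : Set G)) : G)) = ((k * v * k⁻¹ : centralizer ({i} : Set G)) : G)⁻¹ *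
      ((k * w * k⁻¹ : centralizer ({i} : Set G)) : G) by group, ← proj_eq_iff, map_mul, map_mul, map_inv, map_mul, map_mul,
    map_inv] at h3
  rw [← map_inv, ← map_mul, ← map_mul, ← hw]
  exact (mul_left_cancel (mul_right_cancel h3)).symm

theorem sq_bar {R : Subgroup G} (hsq : ∀ b ∈ R, b * b ∈ zpowers i) :
    ∀ q ∈ bar i R, q * q = 1 := by
  rintro _ ⟨a, ha, rfl⟩
  rw [← map_mul, proj_eq_one_iff]
  exact hsq _ (mem_subgroupOf.1 ha)

theorem comm_bar {R : Subgroup G} (hc : ∀ a ∈ R, ∀ b ∈ R, a * b * a⁻¹ * b⁻¹ ∈ zpowers i) :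
    ∀ p ∈ bar i R, ∀ q ∈ bar i R, p * q = q * p := by
  rintro _ ⟨a, ha, rfl⟩ _ ⟨b, hb, rfl⟩
  have h := hc _ (mem_subgroupOf.1 ha) _ (mem_subgroupOf.1 hb)
  have h2 : proj i (a * b * a⁻¹ * b⁻¹) = 1 := proj_eq_one_iff.2 h
  rw [map_mul, map_mul, map_mul, map_inv, map_inv, mul_inv_eq_one, mul_inv_eq_iff_eq_mul] at h2
  exact h2

variable {R : Subgroup G} (hR : Over S i B R)
  (hT : ∀ v ∈ B, v * v = 1 → v ∉ zpowers i → TwoNil ↥(centralizer ({z, v} : Set G)))

include hT in
theorem twoNil_band {v : centralizer ({i} : Set G)} (hv : (v : G) ∈ B) (hv1 : proj i v ≠ 1) :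
    TwoNil ↥(centralizer ({proj i v} : Set (centralizer ({i} : Set G) ⧸ zpowers (iC i)))) := by
  obtain ⟨x, -, hx2, hxe⟩ := P.exists_lift D (P.le hv) (P.sq_bar D P.sq _ ⟨v, hv, rfl⟩)
  rw [← hxe]
  refine twoNil_cent D hx2 (hT x ?_ hx2 fun h => hv1 (hxe ▸ proj_eq_one_iff.2 h))
  exact (mem_bar P.i_mem).1 (hxe ▸ (mem_bar P.i_mem).2 hv)

include hT in
/-- the centralizer of an outer involution has a normal 2-complement as well -/
theorem twoNil_out {u : centralizer ({i} : Set G)} (hu : (u : G) ∈ (S : Subgroup G))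
    (hu2 : proj i u * proj i u = 1) (huB : (u : G) ∉ B) :
    TwoNil ↥(centralizer ({proj i u} : Set (centralizer ({i} : Set G) ⧸ zpowers (iC i)))) := by
  haveI : Fact (Nat.Prime 2) := ⟨Nat.prime_two⟩
  obtain ⟨x, hxS, hx2, hxe⟩ := P.exists_lift D hu hu2
  have hxB : (x : G) ∉ B := fun h => huB ((mem_bar P.i_mem).1 (hxe ▸ (mem_bar P.i_mem).2 h))
  obtain ⟨-, v, hv, hv2, hvi, hxv, -⟩ := P.fix x hxS (mem_centralizer_singleton_iff.1 x.2) hx2 hxB
  rw [← hxe]
  set vC : centralizer ({i} : Set G) := ⟨v, mem_centralizer_singleton_iff.2 (P.comm_i v hv)⟩ with hvC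
  set L := centralizer ({proj i x} : Set (centralizer ({i} : Set G) ⧸ zpowers (iC i))) with hL
  have hvL : proj i vC ∈ L := mem_centralizer_singleton_iff.2 (by
    rw [← map_mul, ← map_mul, show vC * x = x * vC from Subtype.ext hxv.symm])
  set vL : L := ⟨proj i vC, hvL⟩ with hvL'
  have hv1 : proj i vC ≠ 1 := fun e => hvi (proj_eq_one_iff.1 e)
  have hiso : Cfsg.IsIsolatedInvolution vL := by
    refine ⟨orderOf_eq_prime (Subtype.ext ?_) (fun e => hv1 (congrArg Subtype.val e)), fun q hq => Subtype.ext ?_⟩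
    · rw [SubmonoidClass.coe_pow, pow_two]
      exact P.sq_bar D P.sq _ ⟨vC, hv, rfl⟩
    · obtain ⟨g, hg⟩ := QuotientGroup.mk'_surjective _ q.1
      have hgx : proj i g * proj i x * (proj i g)⁻¹ = proj i x := by
        rw [show proj i g = q.1 from hg, mem_centralizer_singleton_iff.1 q.2, mul_inv_cancel_right]
      have h := P.isolated_of_out D hxS hx2 hxB (v := vC) hv hv2 hvi hxv hgx (by
        rw [show proj i g = q.1 from hg]
        exact congrArg Subtype.val hq.eq)
      rwa [show proj i g = q.1 from hg] at h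
  refine TwoNil.of_fix (K := centralizer ({vL} : Set L)) ?_ fun g => ?_
  · let f : centralizer ({vL} : Set L) →*
        centralizer ({proj i vC} : Set (centralizer ({i} : Set G) ⧸ zpowers (iC i))) :=
      { toFun := fun a => ⟨a.1.1, mem_centralizer_singleton_iff.2
          (congrArg Subtype.val (mem_centralizer_singleton_iff.1 a.2))⟩
        map_one' := rfl
        map_mul' := fun _ _ => rfl }
    exact (P.twoNil_band D hT hv hv1).of_injective (f := f) fun a b e => by
      have e' := congrArg Subtype.val e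
      exact Subtype.ext (Subtype.ext e')
  obtain ⟨j, -, -, -, hj⟩ := Isolated.exists_sqrt hiso g
  refine ⟨(g * vL * g⁻¹ * vL) ^ j, pow_mem ?_ j, ((g * vL * g⁻¹ * vL) ^ j)⁻¹ * g,
    mem_centralizer_singleton_iff.2 ?_, (mul_inv_cancel_left _ _).symm⟩
  · have h := inv_mem (Invol.zstar hiso g)
    have hvv : vL⁻¹ = vL := inv_eq_of_mul_eq_one_right (by
      rw [← pow_two, ← hiso.1, pow_orderOf_eq_one])
    rw [mul_inv_rev, mul_inv_rev, mul_inv_rev, inv_inv, inv_inv, hvv, ← mul_assoc, ← mul_assoc] at h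
    exact h
  · set m := (g * vL * g⁻¹ * vL) ^ j
    calc m⁻¹ * g * vL = m⁻¹ * (g * vL * g⁻¹) * g := by group
      _ = vL * (m⁻¹ * g) := by rw [← show m * vL * m⁻¹ = g * vL * g⁻¹ from hj]; group

include hR hT in
/-- the band is normal in `C(i)/⟨i⟩` modulo the core -/
theorem closed_bar (T : Sylow 2 ↥(centralizer ({i} : Set G)))
    (hTS : (T : Subgroup _) = (S : Subgroup G).subgroupOf (centralizer ({i} : Set G))) :
    Closed (T.mapSurjective (QuotientGroup.mk'_surjective (zpowers (iC i)))) (bar i B) := by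
  haveI : Fact (Nat.Prime 2) := ⟨Nat.prime_two⟩
  have hmemT : ∀ {q}, q ∈ ((T.mapSurjective (QuotientGroup.mk'_surjective (zpowers (iC i)))) : Subgroup _) →
      ∃ a : centralizer ({i} : Set G), (a : G) ∈ (S : Subgroup G) ∧ proj i a = q := by
    rintro q ⟨a, ha, rfl⟩
    rw [hTS] at ha
    exact ⟨a, mem_subgroupOf.1 ha, rfl⟩
  have hle : bar i B ≤ ((T.mapSurjective (QuotientGroup.mk'_surjective (zpowers (iC i)))) : Subgroup _) := by
    rintro _ ⟨b, hb, rfl⟩
    exact ⟨b, by rw [hTS]; exact P.le (mem_subgroupOf.1 hb), rfl⟩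
  have hcl : ∀ q ∈ bar i B, ∀ g, g * q * g⁻¹ ∈ ((T.mapSurjective (QuotientGroup.mk'_surjective (zpowers (iC i)))) : Subgroup _) →
      g * q * g⁻¹ ∈ bar i B := by
    rintro _ ⟨b, hb, rfl⟩ g hg
    obtain ⟨c, rfl⟩ := QuotientGroup.mk'_surjective _ g
    obtain ⟨v, -, hv2, hve⟩ := P.exists_lift D (P.le hb) (P.sq_bar D P.sq _ ⟨b, hb, rfl⟩)
    obtain ⟨a, haS, hae⟩ := hmemT hg
    rw [← hve, ← map_inv, ← map_mul, ← map_mul] at hg hae ⊢
    have hmS : ((c * v * c⁻¹ : centralizer ({i} : Set G)) : G) ∈ (S : Subgroup G) := by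
      have h := mul_mem haS (zpowers_le.2 D.i_mem (proj_eq_iff.1 hae))
      rwa [mul_inv_cancel_left] at h
    refine (mem_bar P.i_mem).2 ?_
    have hm2 : ((c * v * c⁻¹ : centralizer ({i} : Set G)) : G) * (c * v * c⁻¹ : centralizer ({i} : Set G)) = 1 := by
      rw [← Subgroup.coe_mul, show c * v * c⁻¹ * (c * v * c⁻¹) = c * (v * v) * c⁻¹ by group,
        show v * v = 1 from Subtype.ext hv2, mul_one, mul_inv_cancel, OneMemClass.coe_one]
    rcases eq_or_ne (v : G) 1 with e | e
    · rw [show v = 1 from Subtype.ext e, mul_one, mul_inv_cancel, OneMemClass.coe_one]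
      exact one_mem B
    · exact P.mem_of_conj_z D hmS hm2
        ((P.conj_z_of_mem D ((mem_bar P.i_mem).1 (hve ▸ (mem_bar P.i_mem).2 hb)) hv2 e).trans
          (isConj_iff.2 ⟨c, rfl⟩))
  have hcardi : 4 ≤ Nat.card (bar i B) := by
    have h1 := card_bar D.i_four P.comm_i
    have h2 := P.card
    omega
  refine ⟨hle, P.comm_bar D P.comm, P.sq_bar D P.sq, hcardi, hcl, ?_, ?_, ?_, ?_⟩
  · rintro _ ⟨b, hb, rfl⟩ hb1 c hc
    set L := centralizer ({proj i b} : Set (centralizer ({i} : Set G) ⧸ zpowers (iC i)))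
    have hBL : bar i B ≤ L := fun y hy =>
      mem_centralizer_singleton_iff.2 (P.comm_bar D P.comm _ hy _ ⟨b, hb, rfl⟩)
    obtain ⟨Q, hQ⟩ := (((T.mapSurjective (QuotientGroup.mk'_surjective (zpowers (iC i)))).2.to_le hle).comap_subtype
      (K := L)).exists_le_sylow
    obtain ⟨o, ho, t, ht, he⟩ := (P.twoNil_band D hT hb hb1).exists_mul Q ⟨c, mem_centralizer_singleton_iff.2 hc⟩
    obtain ⟨T', hT'⟩ := (Q.2.map L.subtype).exists_le_sylow
    refine ⟨_, ⟨o, ho, rfl⟩, (t : L), sylow_le_normalizer hle hcl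
      (fun v hv => hT' ⟨⟨v, hBL hv⟩, hQ (mem_subgroupOf.2 hv), rfl⟩) (hT' ⟨t, ht, rfl⟩), ?_⟩
    exact congrArg Subtype.val he
  · set A := bar i R
    have hBA : bar i B ≤ A := Subgroup.map_mono fun a ha => mem_subgroupOf.2 (hR.base (mem_subgroupOf.1 ha))
    have hA8 : 2 ^ 3 ≤ Nat.card A := by
      have h1 : Nat.card R ≤ 4 * Nat.card A := card_bar D.i_four hR.comm_i
      have h2 := hR.card
      omega
    have hnil : ∀ a ∈ A, a ≠ 1 →
        TwoNil ↥(centralizer ({a} : Set (centralizer ({i} : Set G) ⧸ zpowers (iC i)))) := by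
      rintro _ ⟨a, ha, rfl⟩ ha1
      by_cases haB : (a : G) ∈ B
      · exact P.twoNil_band D hT haB ha1
      · exact P.twoNil_out D hT (hR.le ha) (P.sq_bar D hR.sq _ ⟨a, ha, rfl⟩) haB
    obtain ⟨hodd, -⟩ := S0217.result (p := 2) A (P.comm_bar D hR.comm)
      (fun a ha => by rw [pow_two]; exact P.sq_bar D hR.sq a ha) hA8 theta
      (fun a _ _ => SylJ2.theta_le a) (fun a _ _ => SylJ2.core_odd _)
      (fun a ha _ b hb x hx => SylJ2.core_conj (mem_centralizer_singleton_iff.2 (P.comm_bar D hR.comm b hb a ha)) hx)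
      (fun a _ _ => S0205.result (Nat.odd_iff.2 (Nat.two_dvd_ne_zero.1 (SylJ2.core_odd _))))
      (fun a _ _ b hb hb1 => (hnil b hb hb1).balance)
    intro h2
    refine hodd (h2.trans (card_dvd_of_le (iSup_le fun q => ?_)))
    exact le_iSup (fun c : {a // a ∈ A ∧ a ≠ 1} => theta c.1) ⟨q.1, hBA q.2.1, q.2.2⟩
  · intro u hu huB hu2
    obtain ⟨a, haS, rfl⟩ := hmemT hu
    obtain ⟨x, hxS, hx2, hxe⟩ := P.exists_lift D haS hu2
    rw [← hxe] at huB ⊢
    have hxB : (x : G) ∉ B := fun h => huB ((mem_bar P.i_mem).2 h)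
    obtain ⟨⟨p, hp, r, hr, hpi, hri, hpr, hxp, hxr⟩, v, hv, hv2, hvi, hxv, huniq⟩ :=
      P.fix x hxS (mem_centralizer_singleton_iff.1 x.2) hx2 hxB
    set pC : centralizer ({i} : Set G) := ⟨p, mem_centralizer_singleton_iff.2 (P.comm_i p hp)⟩
    set rC : centralizer ({i} : Set G) := ⟨r, mem_centralizer_singleton_iff.2 (P.comm_i r hr)⟩
    set vC : centralizer ({i} : Set G) := ⟨v, mem_centralizer_singleton_iff.2 (P.comm_i v hv)⟩
    have hcm : ∀ c : centralizer ({i} : Set G), (x : G) * c * (x : G)⁻¹ * (c : G)⁻¹ ∈ zpowers i →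
        proj i x * proj i c = proj i c * proj i x := fun c hc => by
      have h2 : proj i (x * c * x⁻¹ * c⁻¹) = 1 := proj_eq_one_iff.2 hc
      rw [map_mul, map_mul, map_mul, map_inv, map_inv, mul_inv_eq_one, mul_inv_eq_iff_eq_mul] at h2
      exact h2
    refine ⟨⟨proj i pC, ⟨pC, hp, rfl⟩, proj i rC, ⟨rC, hr, rfl⟩, fun e => hpi (proj_eq_one_iff.1 e),
      fun e => hri (proj_eq_one_iff.1 e), fun e => hpr (proj_eq_iff.1 e), hcm pC hxp, hcm rC hxr⟩,
      proj i vC, ⟨vC, hv, rfl⟩, fun e => hvi (proj_eq_one_iff.1 e), ?_, ?_⟩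
    · rw [← map_mul, ← map_mul, show x * vC = vC * x from Subtype.ext hxv]
    intro n hn w hw hwodd hnw
    obtain ⟨g, rfl⟩ := QuotientGroup.mk'_surjective _ n
    obtain ⟨c, rfl⟩ := QuotientGroup.mk'_surjective _ w
    obtain ⟨m, hm⟩ := exists_odd_part c
    have hgv : ((g * vC * g⁻¹ : centralizer ({i} : Set G)) : G) ∈ B := by
      refine (mem_bar P.i_mem).1 ?_
      rw [map_mul, map_mul, map_inv]
      exact (mem_normalizer_iff.1 hn _).1 ⟨vC, hv, rfl⟩
    set v' := g * vC * g⁻¹ with hv'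
    have hv'2 : (v' : G) * v' = 1 := by
      rw [← Subgroup.coe_mul, hv', show g * vC * g⁻¹ * (g * vC * g⁻¹) = g * (vC * vC) * g⁻¹ by group,
        show vC * vC = 1 from Subtype.ext hv2, mul_one, mul_inv_cancel, OneMemClass.coe_one]
    have hv'c : proj i v' * proj i c = proj i c * proj i v' :=
      mem_centralizer_iff.1 hw _ ((mem_bar P.i_mem).2 hgv)
    have hcv : proj i (c ^ 2 ^ m) * proj i v' * (proj i (c ^ 2 ^ m))⁻¹ = proj i v' := by
      rw [map_pow, (Commute.pow_left (show Commute (proj i c) (proj i v') from hv'c.symm) _).eq, mul_inv_cancel_right]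
    have hcfix := fix_of_odd D hv'2 hm hcv
    obtain ⟨e, he⟩ : ∃ e : ℕ, proj i (c ^ 2 ^ m) ^ e = proj i c := by
      rw [map_pow]
      obtain ⟨e, he⟩ := exists_pow_eq_self_of_coprime
        ((Nat.coprime_two_left.2 hwodd).pow_left m : (2 ^ m).Coprime (orderOf (proj i c)))
      exact ⟨e, he⟩
    set c' := (c ^ 2 ^ m) ^ e with hc'
    have hc'v : c' * v' = v' * c' :=
      mem_centralizer_singleton_iff.1 (pow_mem hcfix e)
    have hc'e : proj i c' = proj i c := by rw [hc', map_pow]; exact he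
    have hx' : ∀ k ∈ zpowers i, (v' : G) * k = k * v' := fun k hk => by
      obtain ⟨l, rfl⟩ := mem_zpowers_iff.1 hk
      exact ((show Commute (v' : G) i from mem_centralizer_singleton_iff.1 v'.2).zpow_right l).eq
    have hgx : proj i (g * x * g⁻¹) = proj i (c' * x) := by
      rw [map_mul, map_mul, map_inv, map_mul, hc'e]
      exact hnw
    have hk := proj_eq_iff.1 hgx
    have hxv' : (x : G) * v' = v' * x := by
      have e1 : ((g * x * g⁻¹ : centralizer ({i} : Set G)) : G) * v' = v' * (g * x * g⁻¹ : centralizer ({i} : Set G)) := by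
        rw [← Subgroup.coe_mul, ← Subgroup.coe_mul, hv',
          show g * x * g⁻¹ * (g * vC * g⁻¹) = g * (x * vC) * g⁻¹ by group,
          show x * vC = vC * x from Subtype.ext hxv]
        congr 1
        group
      have e2 : Commute (v' : G) ((c' * x : centralizer ({i} : Set G)) : G) := by
        have h1 : Commute (v' : G) ((g * x * g⁻¹ : centralizer ({i} : Set G)) : G) := e1.symm
        have h2 := h1.mul_right (hx' _ hk)
        rwa [mul_inv_cancel_left] at h2
      have e3 : Commute (v' : G) (c' : G) := (congrArg Subtype.val hc'v).symm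
      have h4 := e3.inv_right.mul_right e2
      have h4 : Commute (v' : G) (x : G) := by simpa using h4
      exact h4.eq.symm
    have hv'i : (v' : G) ∉ zpowers i := fun h => hvi (by
      have h1 : proj i v' = 1 := proj_eq_one_iff.2 h
      rw [hv', map_mul, map_mul, map_inv, conj_eq_one_iff] at h1
      exact proj_eq_one_iff.1 h1)
    have h5 := (huniq _ hgv hv'2 hxv').resolve_left hv'i
    have h6 : proj i vC = proj i v' := proj_eq_iff.2 h5
    rw [hv', map_mul, map_mul, map_inv] at h6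
    exact h6.symm
  · obtain ⟨x, hx, hxi, hx2, hxB⟩ := P.out
    refine ⟨proj i ⟨x, mem_centralizer_singleton_iff.2 hxi⟩, ⟨⟨x, mem_centralizer_singleton_iff.2 hxi⟩, ?_, rfl⟩,
      fun h => hxB ((mem_bar P.i_mem).1 h), ?_⟩
    · rw [hTS]; exact hx
    · rw [← map_mul, show (⟨x, _⟩ : centralizer ({i} : Set G)) * ⟨x, mem_centralizer_singleton_iff.2 hxi⟩ = 1 from
        Subtype.ext hx2, map_one]

include hR hT in
/-- `C(z)` normalizes the band modulo its odd core -/
theorem covers {g : G} (hg : g * z = z * g) :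
    ∃ o ∈ theta z, ∃ n ∈ fixInv i, n ∈ normalizer (B : Set G) ∧ g = o * n := by
  haveI : Fact (Nat.Prime 2) := ⟨Nat.prime_two⟩
  obtain ⟨o, ho, n, hn, rfl⟩ := D.covers hg
  obtain ⟨s, hs, c, hc, rfl⟩ : ∃ s ∈ (S : Subgroup G), ∃ c ∈ centralizer ({i} : Set G), n = c * s := by
    rcases hn with e | e
    · exact ⟨1, one_mem _, n, mem_centralizer_singleton_iff.2 (mul_inv_eq_iff_eq_mul.1 e), (mul_one n).symm⟩
    · obtain ⟨s, hs, hse⟩ := D.inverted
      refine ⟨s, hs, n * s⁻¹, mem_centralizer_singleton_iff.2 (mul_inv_eq_iff_eq_mul.1 ?_), by group⟩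
      have h1 : s⁻¹ * i * s = i⁻¹ := by
        calc s⁻¹ * i * s = s⁻¹ * (s * i * s⁻¹)⁻¹ * s := by rw [hse, inv_inv]
          _ = i⁻¹ := by group
      calc n * s⁻¹ * i * (n * s⁻¹)⁻¹ = n * (s⁻¹ * i * s) * n⁻¹ := by group
        _ = (n * i * n⁻¹)⁻¹ := by rw [h1]; group
        _ = i := by rw [e, inv_inv]
  obtain ⟨T, hTS⟩ := sylow_cent D
  obtain ⟨q, hq, m, hm, he⟩ := (P.closed_bar D hR hT T hTS).main (proj i ⟨c, hc⟩)
  have hZc : zpowers (iC i) ≤ center (centralizer ({i} : Set G)) := zpowers_le.2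
    (mem_center_iff.2 fun d => Subtype.ext (mem_centralizer_singleton_iff.1 d.2))
  have hZ2 : IsPGroup 2 (zpowers (iC i)) := by
    have h4 : iC i ^ 2 ^ 2 = 1 := Subtype.ext (by rw [SubmonoidClass.coe_pow]; exact D.i_four)
    intro y
    obtain ⟨k, hk⟩ := mem_zpowers_iff.1 y.2
    refine ⟨2, Subtype.ext ?_⟩
    rw [SubmonoidClass.coe_pow, ← hk, ← zpow_natCast, ← zpow_mul, mul_comm, zpow_mul, zpow_natCast, h4, one_zpow,
      OneMemClass.coe_one]
  obtain ⟨p, hp, hpq⟩ := lift_core hZc hZ2 hq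
  have hpn : p⁻¹ * ⟨c, hc⟩ ∈ (normalizer (bar i B : Set _)).comap (proj i) := by
    rw [mem_comap, map_mul, map_inv, he, ← hpq, inv_mul_cancel_left]
    exact hm
  refine ⟨o * (p : G), mul_mem ho (D.theta_le ⟨p, hp, rfl⟩), (p : G)⁻¹ * c * s, ?_, ?_, by group⟩
  · exact mul_mem (mul_mem (inv_mem (D.cent_le p.2)) (D.cent_le hc)) (D.S_le hs)
  · refine mul_mem ?_ (P.norm hs)
    refine Invol.mem_normalizer_of_conj_le ?_
    rintro _ ⟨b, hb, rfl⟩
    have hbC : b ∈ centralizer ({i} : Set G) := mem_centralizer_singleton_iff.2 (P.comm_i b hb)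
    have h1 : proj i ((p⁻¹ * ⟨c, hc⟩) * ⟨b, hbC⟩ * (p⁻¹ * ⟨c, hc⟩)⁻¹) ∈ bar i B := by
      rw [map_mul, map_mul _ (p⁻¹ * ⟨c, hc⟩) ⟨b, hbC⟩, map_inv]
      exact (mem_normalizer_iff.1 (mem_comap.1 hpn) _).1 ⟨⟨b, hbC⟩, hb, rfl⟩
    exact (mem_bar P.i_mem).1 h1

end Band

end Cfsg.Agent.HSSylow
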