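import Mathlib

/-!
The Sylow 2-subgroup of the Higman-Sims group on 512 codes: the code `64 h + v` stands for the translation by the
vector `v` of `(ℤ/4)³` (two bits for each coordinate) times the `h`-th element of a dihedral group of order eight.
-/

set_option autoImplicit false
set_option maxRecDepth 100000
set_option linter.all false

namespace Cfsg.Agent.HSSylow

/-- The images of the 64 vectors under the eight linear maps, six bits each. -/
def actTab : ℕ := 0xcb3c31db7d35ebbe39fbff3dbecb6e8e08629e4966ae8a6a61969b71d79f4114935155971461c424a2c834e3cc0420c085107178efae2fbadbd24504955175482ca23ffbdfe28608a59279586da60f38d3f2c70cb5d37d68aeaa1f79d7c2040061c41465d45569e4966df4d7be39ebb20928b61969ba29aacb6ebecf7effc34e3cc75e7d14934118a3821cb3c3108300a560fc646cec2768dce664cc9523f8542fe8172bd8d627c885e2f444eee407ead4c6e6c4b5a1f074ade037a9d0f6a5c0934114ecb6eb39ebbe461c41975155e086283dfbff4a2c829b6196e4966931cb3c4e3cc39f71d7e8a6aa35db7d420c009b9313d89723199b335a9f039783d2d487e2158bf2568fc293b391d0b7a111bbb152bf819fa350dca7601dab705eaf407db5d379a592759551718510beb9e3baa9a2b69961b28920ffbdf3fbadb2f79d71f38d303cb1c338a182349141308100ffef7cefae78df6d74cf2c70beeb6caeaa689e69648e28607de75c6da6585d65544d24503ce34c2ca2481c61440c2040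

/-- The multiplication table of the dihedral group, three bits each. -/
def dihTab : ℕ := 0x10e4ef7572262839bd458bf4de5053831f5aafad01fac688

/-- The sum of two vectors. -/
def addV (a b : ℕ) : ℕ := a ^^^ b ^^^ (((a &&& b) &&& 21) <<< 1)

/-- The image of a vector under a linear map. -/
def actV (h v : ℕ) : ℕ := (actTab >>> (6 * (64 * h + v))) &&& 63

/-- The product in the dihedral group. -/
def mulH (h k : ℕ) : ℕ := (dihTab >>> (3 * (8 * h + k))) &&& 7

/-- The product of two codes. -/
def mulN (a b : ℕ) : ℕ :=
  ((mulH (a >>> 6) (b >>> 6)) <<< 6) ||| addV (a &&& 63) (actV (a >>> 6) (b &&& 63))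

/-- The inverse in the dihedral group. -/
def invH (h : ℕ) : ℕ := (15386504 >>> (3 * h)) &&& 7

/-- The inverse of a code. -/
def invN (a : ℕ) : ℕ :=
  mulN (invH (a >>> 6) <<< 6) (addV (addV (a &&& 63) (a &&& 63)) (a &&& 63))

/-- The conjugate of a code. -/
def cjN (g a : ℕ) : ℕ := mulN (mulN g a) (invN g)

/-- Commuting codes. -/
def cm (a b : ℕ) : Bool := mulN a b == mulN b a

/-- A set of codes given by its bit mask. -/
def inM (m a : ℕ) : Bool := (m >>> a) &&& 1 == 1

/-- All codes. -/
abbrev allN (p : ℕ → Bool) : Bool := (List.range 512).all p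

/-- Some code. -/
abbrev anyN (p : ℕ → Bool) : Bool := (List.range 512).any p

end Cfsg.Agent.HSSylow
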