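import Cfsg.Agent.HSRecog.Ident
import Cfsg.Agent.HSRecog.MBound
import Cfsg.Agent.HSSylow.Model

/-!
The codes parametrize a Sylow 2-subgroup of the Higman-Sims group.
-/

set_option autoImplicit false
set_option maxRecDepth 100000
set_option maxHeartbeats 1000000
set_option linter.all false

namespace Cfsg.Agent.HSSylow

open HSRecog HSRecog.MRel

section

variable {G : Type*} [Group G]

/-- The vector of a code. -/
def tri (v : ℕ) : Fin 4 × Fin 4 × Fin 4 :=
  (Fin.ofNat 4 (v >>> 4), Fin.ofNat 4 (v >>> 2), Fin.ofNat 4 v)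

/-- The elements of the dihedral group as words. -/
def hEl (d f r : G) : ℕ → G
  | 1 => r
  | 2 => d * r * d * d
  | 3 => d * r * d * d * r
  | 4 => r * d * r * d * d
  | 5 => d * d * d * r * d * f
  | 6 => r * d * r * d * d * r
  | 7 => d * d * d * r * d * f * r
  | _ => 1

/-- The element with a code. -/
def psi (c d f r : G) (a : ℕ) : G := nfW c d (tri (a &&& 63)) * hEl d f r (a >>> 6)

end

theorem tri_add : ∀ a : Fin 64, ∀ b : Fin 64, tri (addV a b) = tri a + tri b ∧ addV a b < 64 := by decide +kernel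

theorem small_facts : (∀ h : Fin 8, ∀ k : Fin 8, mulH h k < 8) ∧ ∀ h : Fin 8, ∀ v : Fin 64, actV h v < 64 := by
  decide +kernel

/-- The three basis vectors. -/
def basV : Fin 3 → ℕ := ![16, 4, 1]

theorem basis_perm : ∀ h : Fin 8, ∀ k : Fin 3, ∀ x : Fin 100,
    (hEl (fivePerm 1) (fivePerm 2) (fivePerm 3) h *
        (![fivePerm 0, HSRecog.e1 (fivePerm 0) (fivePerm 1), HSRecog.e2 (fivePerm 0) (fivePerm 1)] k)) x =
      (nfW (fivePerm 0) (fivePerm 1) (tri (actV h (basV k))) * hEl (fivePerm 1) (fivePerm 2) (fivePerm 3) h) x := by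
  decide +kernel

theorem lin_fact : ∀ h : Fin 8, ∀ v : Fin 64,
    ((tri v).1 : ℕ) • tri (actV h 16) + ((tri v).2.1 : ℕ) • tri (actV h 4) + ((tri v).2.2 : ℕ) • tri (actV h 1) =
      tri (actV h v) := by
  decide +kernel

/-- The normal forms as a homomorphism. -/
def nfHom : Multiplicative (Fin 4 × Fin 4 × Fin 4) →* Equiv.Perm (Fin 100) where
  toFun a := nfW (fivePerm 0) (fivePerm 1) a.toAdd
  map_one' := by simp [nfW]
  map_mul' a b := (fivePerm_rel.toMRel.nfW_mul a.toAdd b.toAdd).symm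

theorem nfW_nsmul (n : ℕ) (a : Fin 4 × Fin 4 × Fin 4) :
    nfW (fivePerm 0) (fivePerm 1) (n • a) = nfW (fivePerm 0) (fivePerm 1) a ^ n :=
  map_pow nfHom (Multiplicative.ofAdd a) n

theorem conj_perm (h : Fin 8) (v : Fin 64) :
    hEl (fivePerm 1) (fivePerm 2) (fivePerm 3) h * nfW (fivePerm 0) (fivePerm 1) (tri v) =
      nfW (fivePerm 0) (fivePerm 1) (tri (actV h v)) * hEl (fivePerm 1) (fivePerm 2) (fivePerm 3) h := by
  set H := hEl (fivePerm 1) (fivePerm 2) (fivePerm 3) (h : ℕ)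
  have hb0 : H * fivePerm 0 * H⁻¹ = nfW (fivePerm 0) (fivePerm 1) (tri (actV h 16)) :=
    mul_inv_eq_iff_eq_mul.2 (Equiv.ext (basis_perm h 0))
  have hb1 : H * HSRecog.e1 (fivePerm 0) (fivePerm 1) * H⁻¹ = nfW (fivePerm 0) (fivePerm 1) (tri (actV h 4)) :=
    mul_inv_eq_iff_eq_mul.2 (Equiv.ext (basis_perm h 1))
  have hb2 : H * HSRecog.e2 (fivePerm 0) (fivePerm 1) * H⁻¹ = nfW (fivePerm 0) (fivePerm 1) (tri (actV h 1)) :=
    mul_inv_eq_iff_eq_mul.2 (Equiv.ext (basis_perm h 2))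
  have e : H * nfW (fivePerm 0) (fivePerm 1) (tri v) * H⁻¹ = nfW (fivePerm 0) (fivePerm 1) (tri (actV h v)) := by
    conv_rhs => rw [← lin_fact h v]
    rw [← fivePerm_rel.toMRel.nfW_mul, ← fivePerm_rel.toMRel.nfW_mul, nfW_nsmul, nfW_nsmul, nfW_nsmul, ← hb0,
      ← hb1, ← hb2, conj_pow, conj_pow, conj_pow]
    simp only [nfW]
    group
  exact mul_inv_eq_iff_eq_mul.1 e

theorem mul_perm : ∀ h : Fin 8, ∀ k : Fin 8, ∀ x : Fin 100,
    (hEl (fivePerm 1) (fivePerm 2) (fivePerm 3) h * hEl (fivePerm 1) (fivePerm 2) (fivePerm 3) k) x =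
      hEl (fivePerm 1) (fivePerm 2) (fivePerm 3) (mulH h k) x := by
  decide +kernel

theorem psi_ker : ∀ a : Fin 512, (∀ x : Fin 100,
    psi (fivePerm 0) (fivePerm 1) (fivePerm 2) (fivePerm 3) a x = x) → a = 0 := by
  decide +kernel

theorem psi_mul_perm {a b : ℕ} (ha : a < 512) (hb : b < 512) :
    psi (fivePerm 0) (fivePerm 1) (fivePerm 2) (fivePerm 3) a *
      psi (fivePerm 0) (fivePerm 1) (fivePerm 2) (fivePerm 3) b =
      psi (fivePerm 0) (fivePerm 1) (fivePerm 2) (fivePerm 3) (mulN a b) ∧ mulN a b < 512 := by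
  have hv : ∀ n : ℕ, n &&& 63 < 64 := fun n => Nat.and_le_right.trans_lt (by norm_num)
  have hh : ∀ n : ℕ, n < 512 → n >>> 6 < 8 := fun n hn => by rw [Nat.shiftRight_eq_div_pow]; omega
  set h := a >>> 6
  set k := b >>> 6
  set v := actV h (b &&& 63)
  have hv' : v < 64 := small_facts.2 ⟨h, hh a ha⟩ ⟨_, hv b⟩
  have hs : addV (a &&& 63) v < 64 := (tri_add ⟨_, hv a⟩ ⟨v, hv'⟩).2
  have hm : mulH h k < 8 := small_facts.1 ⟨h, hh a ha⟩ ⟨k, hh b hb⟩
  have hN : mulN a b = 64 * mulH h k + addV (a &&& 63) v := by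
    show (mulH h k <<< 6) ||| addV (a &&& 63) v = _
    rw [← Nat.shiftLeft_add_eq_or_of_lt (i := 6) (by simpa using hs), Nat.shiftLeft_eq]
    omega
  have e1 : mulN a b &&& 63 = addV (a &&& 63) v := by
    rw [Nat.and_two_pow_sub_one_eq_mod _ 6, hN]; omega
  have e2 : mulN a b >>> 6 = mulH h k := by
    rw [Nat.shiftRight_eq_div_pow, hN]; omega
  refine ⟨?_, by rw [hN]; omega⟩
  have hc := conj_perm ⟨h, hh a ha⟩ ⟨_, hv b⟩
  have hk := Equiv.ext (mul_perm ⟨h, hh a ha⟩ ⟨k, hh b hb⟩)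
  simp only at hc hk
  simp only [psi, e1, e2]
  rw [(tri_add ⟨_, hv a⟩ ⟨v, hv'⟩).1, ← fivePerm_rel.toMRel.nfW_mul, ← hk]
  calc _ = nfW _ _ (tri (a &&& 63)) * (hEl _ _ _ h * nfW _ _ (tri (b &&& 63))) * hEl _ _ _ k := by
        simp only [mul_assoc]; rfl
    _ = _ := by rw [hc]; simp only [mul_assoc]; rfl

/-- The element of the Higman-Sims group with a code. -/
noncomputable def code (a : ℕ) : ↥Spor.HS := psi (fiveEl 0) (fiveEl 1) (fiveEl 2) (fiveEl 3) a

theorem iota_code (a : ℕ) :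
    HigSims.ι (code a) = psi (fivePerm 0) (fivePerm 1) (fivePerm 2) (fivePerm 3) a := by
  have e : ∀ i : Fin 5, HigSims.ι (fiveEl i.1) = fivePerm i := iota_fiveEl
  have h0 := e 0
  have h1 := e 1
  have h2 := e 2
  have h3 := e 3
  simp only [Fin.val_zero, Fin.val_one, Fin.val_two] at h0 h1 h2
  rw [show ((3 : Fin 5) : ℕ) = 3 from rfl] at h3
  rw [code, psi, psi, map_mul]
  simp only [nfW, HSRecog.e1, HSRecog.e2, map_mul, map_pow, map_inv, h0, h1]
  congr 1
  generalize a >>> 6 = m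
  rcases m with _ | _ | _ | _ | _ | _ | _ | _ | m <;> simp [hEl, h1, h2, h3]

theorem code_mul {a b : ℕ} (ha : a < 512) (hb : b < 512) : code a * code b = code (mulN a b) :=
  HigSims.ι_injective (by
    rw [map_mul, iota_code, iota_code, iota_code]
    exact (psi_mul_perm ha hb).1)

theorem mulN_lt {a b : ℕ} (ha : a < 512) (hb : b < 512) : mulN a b < 512 := (psi_mul_perm ha hb).2

end Cfsg.Agent.HSSylow

namespace Cfsg.Agent.HSSylow

theorem code_zero : code 0 = 1 := by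
  have h := code_mul (a := 0) (b := 0) (by norm_num) (by norm_num)
  rw [show mulN 0 0 = 0 by decide +kernel] at h
  exact mul_eq_left.1 h

/-- The kernel of the parametrization is trivial. -/
theorem code_eq_one {a : ℕ} (ha : a < 512) (h : code a = 1) : a = 0 := by
  simpa using congrArg Fin.val (psi_ker ⟨a, ha⟩ fun x => by rw [← iota_code, h, map_one]; rfl)

theorem inv_fact : (allN fun a => decide (invN a < 512) && (mulN (invN a) a == 0) && (mulN a (invN a) == 0)) = true := by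
  decide +kernel

theorem inv_spec {a : ℕ} (ha : a < 512) : invN a < 512 ∧ mulN (invN a) a = 0 ∧ mulN a (invN a) = 0 := by
  simpa [and_assoc] using List.all_eq_true.1 inv_fact a (List.mem_range.2 ha)

theorem inv_uniq : ∀ h : Fin 8, (∀ k : Fin 8, mulH (invH h) k = 0 → k = h) ∧
    ∀ v : Fin 64, ∀ w : Fin 64, mulN (invN (64 * h + v)) (64 * h + w) = 0 → w = v := by
  decide +kernel

theorem code_inj {a b : ℕ} (ha : a < 512) (hb : b < 512) (e : code a = code b) : a = b := by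
  obtain ⟨hi, hia, -⟩ := inv_spec ha
  have h0 : mulN (invN a) b = 0 := code_eq_one (mulN_lt hi hb) (by
    rw [← code_mul hi hb, ← e, code_mul hi ha, hia, code_zero])
  have hH : ∀ h : Fin 8, ∀ v : Fin 64, invN (64 * h + v) >>> 6 = invH h := by decide +kernel
  have hm : ∀ x y : ℕ, mulN x y = 0 → mulH (x >>> 6) (y >>> 6) = 0 := fun x y h => by
    rw [mulN] at h
    have := congrArg (fun n => n >>> 6) h
    simp only [Nat.shiftRight_or_distrib, Nat.zero_shiftRight] at this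
    have h1 := (Nat.or_eq_zero_iff.1 this).1
    rwa [Nat.shiftLeft_shiftRight] at h1
  have hb8 : b >>> 6 < 8 := by rw [Nat.shiftRight_eq_div_pow]; omega
  have ha8 : a / 64 < 8 := by omega
  have hea : a = 64 * (a / 64) + a % 64 := (Nat.div_add_mod a 64).symm
  have hk : b >>> 6 = a / 64 := by
    refine congrArg Fin.val ((inv_uniq ⟨a / 64, ha8⟩).1 ⟨b >>> 6, hb8⟩ ?_)
    have := hm _ _ h0
    rwa [hea, hH ⟨a / 64, ha8⟩ ⟨a % 64, Nat.mod_lt _ (by norm_num)⟩] at this
  have heb : b = 64 * (a / 64) + b % 64 := by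
    rw [← hk, Nat.shiftRight_eq_div_pow]; exact (Nat.div_add_mod b 64).symm
  have hw := (inv_uniq ⟨a / 64, ha8⟩).2 ⟨a % 64, Nat.mod_lt _ (by norm_num)⟩ ⟨b % 64, Nat.mod_lt _ (by norm_num)⟩
    (by simp only; rw [← hea, ← heb]; exact h0)
  rw [hea, heb, show b % 64 = a % 64 from congrArg Fin.val hw]

/-- The Sylow 2-subgroup given by the codes. -/
noncomputable def sylSub : Subgroup ↥Spor.HS where
  carrier := {g | ∃ a < 512, code a = g}
  one_mem' := ⟨0, by norm_num, code_zero⟩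
  mul_mem' := by
    rintro _ _ ⟨a, ha, rfl⟩ ⟨b, hb, rfl⟩
    exact ⟨_, mulN_lt ha hb, (code_mul ha hb).symm⟩
  inv_mem' := by
    rintro _ ⟨a, ha, rfl⟩
    refine ⟨invN a, (inv_spec ha).1, ?_⟩
    rw [eq_inv_iff_mul_eq_one, code_mul (inv_spec ha).1 ha, (inv_spec ha).2.1, code_zero]

theorem card_sylSub : Nat.card sylSub = 512 := by
  rw [← Nat.card_fin 512]
  refine (Nat.card_congr (Equiv.ofBijective (fun i : Fin 512 => (⟨code i, i, i.2, rfl⟩ : sylSub)) ⟨?_, ?_⟩)).symm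
  · exact fun i j h => Fin.ext (code_inj i.2 j.2 (congrArg Subtype.val h))
  · rintro ⟨g, a, ha, rfl⟩
    exact ⟨⟨a, ha⟩, rfl⟩

/-- Any Sylow 2-subgroup of the Higman-Sims group is parametrized by the codes. -/
theorem exists_param (P : Sylow 2 ↥Spor.HS) : ∃ χ : ℕ → (P : Subgroup ↥Spor.HS),
    (∀ a < 512, ∀ b < 512, χ a * χ b = χ (mulN a b)) ∧ (∀ a < 512, ∀ b < 512, χ a = χ b → a = b) ∧
      ∀ g, ∃ a < 512, χ a = g := by
  haveI : Fact (Nat.Prime 2) := ⟨Nat.prime_two⟩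
  let P0 : Sylow 2 ↥Spor.HS := (IsPGroup.of_card (n := 9) (card_sylSub.trans (by norm_num))).toSylow (by
    intro h2
    have h := sylSub.card_mul_index
    rw [card_sylSub, HigSims.card_hs] at h
    omega)
  let e := P0.equiv P
  classical
  let χ : ℕ → (P : Subgroup ↥Spor.HS) := fun a =>
    if h : a < 512 then e ⟨code a, a, h, rfl⟩ else 1
  refine ⟨χ, fun a ha b hb => ?_, fun a ha b hb h => ?_, fun g => ?_⟩
  · simp only [χ, dif_pos ha, dif_pos hb, dif_pos (mulN_lt ha hb), ← map_mul]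
    exact congrArg e (Subtype.ext (code_mul ha hb))
  · simp only [χ, dif_pos ha, dif_pos hb] at h
    exact code_inj ha hb (congrArg Subtype.val (e.injective h))
  · obtain ⟨⟨x, a, ha, rfl⟩, rfl⟩ := e.surjective g
    exact ⟨a, ha, by simp only [χ, dif_pos ha]⟩

end Cfsg.Agent.HSSylow
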