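import Cfsg.Agent.HSSylow.Bridge
import Cfsg.Agent.HSSylow.Model

/-!
A group with the Sylow 2-subgroup of the Higman-Sims group: the parametrization and the distinguished elements and
subgroups.
-/

set_option autoImplicit false
set_option maxRecDepth 100000
set_option linter.all false

namespace Cfsg.Agent.HSSylow

theorem allN_spec {p : ℕ → Bool} (h : allN p = true) {a : ℕ} (ha : a < 512) : p a = true :=
  List.all_eq_true.1 h a (List.mem_range.2 ha)

theorem anyN_spec {p : ℕ → Bool} (h : anyN p = true) : ∃ a < 512, p a = true := by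
  obtain ⟨a, ha, hp⟩ := List.any_eq_true.1 h
  exact ⟨a, List.mem_range.1 ha, hp⟩

theorem anyN_intro {p : ℕ → Bool} {a : ℕ} (ha : a < 512) (h : p a = true) : anyN p = true :=
  List.any_eq_true.2 ⟨a, List.mem_range.2 ha, h⟩

/-- The mask `m` is closed under products and inverses. -/
def closedM (m : ℕ) : Bool :=
  inM m 0 && allN fun a => !inM m a || (inM m (invN a) && allN fun b => !inM m b || inM m (mulN a b))

/-- The elementary subgroup of order eight. -/
def mV : ℕ := 0x50500000505

/-- The abelian subgroup of order 64. -/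
def mA : ℕ := 2 ^ 64 - 1

/-- The normal subgroup of order 64 of the centralizer of the central involution. -/
def mR : ℕ :=
  0xa5a50000a5a500000000000000000000a5a50000a5a50000000000000000000000000000000000000000000000000000a5a50000a5a50000a5a50000a5a5

/-- The centralizer of the root of the central involution. -/
def mP : ℕ :=
  0xffffffffffffffff0000000000000000ffffffffffffffff000000000000000000000000000000000000000000000000ffffffffffffffffffffffffffffffff

theorem closed_mV : closedM mV = true := by decide +kernel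

theorem closed_mA : closedM mA = true := by decide +kernel

theorem closed_mR : closedM mR = true := by decide +kernel

/-- A Sylow 2-subgroup parametrized by the codes. -/
structure Syl (G : Type*) [Group G] where
  φ : ℕ → G
  mul : ∀ a < 512, ∀ b < 512, φ a * φ b = φ (mulN a b)
  inj : ∀ a < 512, ∀ b < 512, φ a = φ b → a = b
  S : Sylow 2 G
  range : ∀ g : G, g ∈ (S : Subgroup G) ↔ ∃ a < 512, φ a = g

/-- A group with a Sylow 2-subgroup isomorphic to that of the Higman-Sims group is parametrized. -/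
theorem exists_syl {G : Type*} [Group G] (S : Sylow 2 G) (P : Sylow 2 ↥Spor.HS)
    (e : ↥(S : Subgroup G) ≃* ↥(P : Subgroup ↥Spor.HS)) : Nonempty (Syl G) := by
  obtain ⟨χ, hm, hi, hs⟩ := exists_param P
  refine ⟨{ φ := fun a => (e.symm (χ a) : G), mul := fun a ha b hb => ?_, inj := fun a ha b hb h => ?_, S := S,
            range := fun g => ?_ }⟩
  · rw [← hm a ha b hb, map_mul, Subgroup.coe_mul]
  · exact hi a ha b hb (e.symm.injective (Subtype.ext h))
  · constructor
    · intro hg
      obtain ⟨a, ha, h⟩ := hs (e ⟨g, hg⟩)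
      exact ⟨a, ha, by simp [h]⟩
    · rintro ⟨a, -, rfl⟩
      exact (e.symm (χ a)).2

namespace Syl

variable {G : Type*} [Group G] (L : Syl G)

theorem lt {a b : ℕ} (ha : a < 512) (hb : b < 512) : mulN a b < 512 := mulN_lt ha hb

theorem mem {a : ℕ} (ha : a < 512) : L.φ a ∈ (L.S : Subgroup G) := (L.range _).2 ⟨a, ha, rfl⟩

theorem φ_zero : L.φ 0 = 1 := by
  have h := L.mul 0 (by norm_num) 0 (by norm_num)
  rw [show mulN 0 0 = 0 by decide +kernel] at h
  exact mul_eq_left.1 h

theorem φ_inv {a : ℕ} (ha : a < 512) : L.φ (invN a) = (L.φ a)⁻¹ := by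
  obtain ⟨h1, h2, -⟩ := inv_spec ha
  rw [eq_inv_iff_mul_eq_one, L.mul _ h1 a ha, h2, L.φ_zero]

theorem cjN_lt {g a : ℕ} (hg : g < 512) (ha : a < 512) : cjN g a < 512 :=
  mulN_lt (mulN_lt hg ha) (inv_spec hg).1

theorem φ_cj {g a : ℕ} (hg : g < 512) (ha : a < 512) : L.φ g * L.φ a * (L.φ g)⁻¹ = L.φ (cjN g a) := by
  rw [← L.φ_inv hg, L.mul g hg a ha, L.mul _ (lt hg ha) _ (inv_spec hg).1, cjN]

theorem one_iff {a : ℕ} (ha : a < 512) : L.φ a = 1 ↔ a = 0 :=
  ⟨fun h => L.inj a ha 0 (by norm_num) (h.trans L.φ_zero.symm), fun h => h ▸ L.φ_zero⟩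

theorem eq_iff {a b : ℕ} (ha : a < 512) (hb : b < 512) : L.φ a = L.φ b ↔ a = b :=
  ⟨L.inj a ha b hb, fun h => h ▸ rfl⟩

theorem cm_iff {a b : ℕ} (ha : a < 512) (hb : b < 512) : cm a b = true ↔ L.φ a * L.φ b = L.φ b * L.φ a := by
  rw [cm, beq_iff_eq, L.mul a ha b hb, L.mul b hb a ha]
  exact (L.eq_iff (lt ha hb) (lt hb ha)).symm

theorem sq_iff {a c : ℕ} (ha : a < 512) (hc : c < 512) : mulN a a = c ↔ L.φ a * L.φ a = L.φ c := by
  rw [L.mul a ha a ha]
  exact (L.eq_iff (lt ha ha) hc).symm

theorem card_S : Nat.card (L.S : Subgroup G) = 512 := by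
  rw [← Nat.card_fin 512]
  refine (Nat.card_congr (Equiv.ofBijective (fun k : Fin 512 => (⟨L.φ k, L.mem k.2⟩ : (L.S : Subgroup G))) ⟨?_, ?_⟩)).symm
  · exact fun a b h => Fin.ext (L.inj _ a.2 _ b.2 (congrArg Subtype.val h))
  · rintro ⟨g, hg⟩
    obtain ⟨a, ha, rfl⟩ := (L.range g).1 hg
    exact ⟨⟨a, ha⟩, rfl⟩

/-- The subgroup given by a closed mask. -/
def sub (m : ℕ) (h : closedM m = true) : Subgroup G where
  carrier := {g | ∃ a < 512, inM m a = true ∧ L.φ a = g}
  one_mem' := ⟨0, by norm_num, (Bool.and_eq_true_iff.1 h).1, L.φ_zero⟩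
  mul_mem' := by
    rintro _ _ ⟨a, ha, hma, rfl⟩ ⟨b, hb, hmb, rfl⟩
    have h1 := allN_spec (Bool.and_eq_true_iff.1 h).2 ha
    rw [hma, Bool.not_true, Bool.false_or, Bool.and_eq_true] at h1
    have h2 := allN_spec h1.2 hb
    rw [hmb, Bool.not_true, Bool.false_or] at h2
    exact ⟨_, lt ha hb, h2, (L.mul a ha b hb).symm⟩
  inv_mem' := by
    rintro _ ⟨a, ha, hma, rfl⟩
    have h1 := allN_spec (Bool.and_eq_true_iff.1 h).2 ha
    rw [hma, Bool.not_true, Bool.false_or, Bool.and_eq_true] at h1
    exact ⟨_, (inv_spec ha).1, h1.1, L.φ_inv ha⟩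

theorem mem_sub {m : ℕ} (h : closedM m = true) {a : ℕ} (ha : a < 512) :
    L.φ a ∈ L.sub m h ↔ inM m a = true :=
  ⟨fun ⟨b, hb, hmb, e⟩ => L.inj b hb a ha e ▸ hmb, fun hm => ⟨a, ha, hm, rfl⟩⟩

theorem sub_le {m : ℕ} (h : closedM m = true) : L.sub m h ≤ (L.S : Subgroup G) := by
  rintro _ ⟨a, ha, -, rfl⟩
  exact L.mem ha

/-- The elementary subgroup of order eight. -/
def V : Subgroup G := L.sub mV closed_mV

/-- The abelian subgroup of order 64, the centralizer of `V`. -/
def A : Subgroup G := L.sub mA closed_mA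

/-- The normal subgroup of order 64 of the centralizer of the central involution. -/
def R : Subgroup G := L.sub mR closed_mR

/-- The central involution. -/
def z : G := L.φ 10

/-- An involution of `V` with centralizer of order 256. -/
def a : G := L.φ 34

/-- An involution of `V` with centralizer of order 128. -/
def b : G := L.φ 2

/-- The root of `z` in the centre of `R`. -/
def i : G := L.φ 37

end Syl

end Cfsg.Agent.HSSylow
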