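import Mathlib
import Cfsg.Agent.HSSylow.Setup
import Cfsg.Agent.HSSylow.Band

/-!
The centralizer of `z` in a group with a Sylow 2-subgroup of Higman-Sims type: `i` is isolated modulo `z`, and
`R`, resp. `V⟨i⟩`, is normal modulo the core once it is closed on the class of `z`.
-/

set_option autoImplicit false
set_option maxRecDepth 100000
set_option linter.all false

namespace Cfsg.Agent.HSSylow

open Subgroup
open Cfsg.Agent.SylJ2 (theta)

/-- membership in `⟨i⟩` -/
def inI (c : ℕ) : Bool := c == 0 || c == 37 || c == 10 || c == 47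

/-- the commutator -/
def comN (a b : ℕ) : ℕ := mulN (cjN a b) (invN b)

/-- the mask of `V⟨i⟩` -/
def mVI : ℕ := 0xa5a50000a5a5

theorem closed_mVI : closedM mVI = true := by decide +kernel

/-- The facts about `i`. -/
def rootOk : Bool :=
  allN fun y =>
    cm y 10 && (cjN y 37 == 37 || cjN y 37 == 47) && (mulN y y != 37 && mulN y y != 47) &&
    (!(mulN y y == 10) || cjN y 37 != 47) &&
    (!(mulN y y == 10) || y == 37 || y == 47 ||
      anyN fun u => mulN u u == y || (mulN u u == 10 && cjN u y == invN y))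

theorem root_ok : rootOk = true := by decide +kernel

theorem root_inv : anyN (fun s => cjN s 37 == 47) = true := by decide +kernel

/-- The facts about a subgroup of `C(i)` elementary abelian modulo `⟨i⟩`. -/
def elOk (m : ℕ) : Bool :=
  allN fun a => !inM m a ||
    (cm a 37 && inI (mulN a a) && allN fun b => !inM m b || inI (comN a b))

/-- The facts about a band. -/
def bandOk (m : ℕ) : Bool :=
  inM m 37 &&
  allN fun x =>
    (allN fun b => !inM m b || inM m (cjN x b)) &&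
    (!(cm x 37 && inI (mulN x x)) || inI x || anyN fun u => mulN u u == 0 && inI (mulN (invN x) u)) &&
    (!(cm x 37 && mulN x x == 0 && !inM m x) ||
      ((anyN fun a => inM m a && !inI a && inI (comN x a) &&
          anyN fun b => inM m b && !inI b && !inI (mulN (invN a) b) && inI (comN x b)) &&
        anyN fun v => inM m v && mulN v v == 0 && !inI v && cm x v &&
          allN fun w => !(inM m w && mulN w w == 0 && cm x w) || inI w || inI (mulN (invN v) w)))

/-- An involution outside a band. -/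
def outOk (m : ℕ) : Bool := anyN fun x => cm x 37 && mulN x x == 0 && !inM m x

theorem el_mR : elOk mR = true := by decide +kernel

theorem el_mVI : elOk mVI = true := by decide +kernel

theorem band_mR : bandOk mR = true := by decide +kernel

theorem band_mVI : bandOk mVI = true := by decide +kernel

theorem out_mR : outOk mR = true := by decide +kernel

theorem out_mVI : outOk mVI = true := by decide +kernel

theorem card_mR : ((List.range 512).filter (inM mR)).length = 64 := by decide +kernel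

theorem card_mVI : ((List.range 512).filter (inM mVI)).length = 16 := by decide +kernel

theorem mVI_le_mR : allN (fun a => !inM mVI a || inM mR a) = true := by decide +kernel

theorem i_codes : mulN 37 37 = 10 ∧ invN 37 = 47 ∧ mulN 10 10 = 0 := by decide +kernel

namespace Syl

variable {G : Type*} [Group G] (L : Syl G)

theorem φ_com {a b : ℕ} (ha : a < 512) (hb : b < 512) :
    L.φ a * L.φ b * (L.φ a)⁻¹ * (L.φ b)⁻¹ = L.φ (comN a b) := by
  rw [L.φ_cj ha hb, ← L.φ_inv hb, L.mul _ (cjN_lt ha hb) _ (inv_spec hb).1, comN]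

theorem i_mem : L.i ∈ (L.S : Subgroup G) := L.mem (by norm_num)

theorem mem_inner {c : ℕ} (hc : c < 512) (h : inI c = true) : L.φ c ∈ zpowers L.i := by
  simp only [inI, Bool.or_eq_true, beq_iff_eq] at h
  rcases h with ((rfl | rfl) | rfl) | rfl
  · rw [L.φ_zero]; exact one_mem _
  · exact mem_zpowers _
  · rw [← i_codes.1, ← L.mul 37 (by norm_num) 37 (by norm_num)]
    exact mul_mem (mem_zpowers _) (mem_zpowers _)
  · rw [← i_codes.2.1, L.φ_inv (by norm_num)]
    exact inv_mem (mem_zpowers _)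

theorem root [Finite G] : Root L.S L.z L.i := by
  have h10 : (10 : ℕ) < 512 := by norm_num
  have h37 : (37 : ℕ) < 512 := by norm_num
  have hinv : (L.φ 37)⁻¹ = L.φ 47 := by rw [← L.φ_inv h37, i_codes.2.1]
  have hr := root_ok
  unfold rootOk at hr
  have spec := fun {y : ℕ} (hy : y < 512) => allN_spec hr hy
  simp only [Bool.and_eq_true, Bool.or_eq_true, beq_iff_eq, bne_iff_ne, Bool.not_eq_true', beq_eq_false_iff_ne] at spec
  refine ⟨fun h => ?_, ?_, L.i_mem, ?_, ?_, ?_, ?_, ?_, ?_, ?_⟩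
  · have := (L.one_iff h10).1 h
    norm_num at this
  · rw [Syl.z, L.mul 10 h10 10 h10, i_codes.2.2, L.φ_zero]
  · rw [Syl.i, L.mul 37 h37 37 h37, i_codes.1]
    rfl
  · intro s hs
    obtain ⟨a, ha, rfl⟩ := (L.range s).1 hs
    exact (L.cm_iff ha h10).1 (spec ha).1.1.1.1
  · intro s hs
    obtain ⟨a, ha, rfl⟩ := (L.range s).1 hs
    rw [Syl.i, L.φ_cj ha h37, hinv]
    exact (spec ha).1.1.1.2.imp (fun h => by rw [h]) fun h => by rw [h]
  · obtain ⟨a, ha, h⟩ := anyN_spec root_inv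
    exact ⟨L.φ a, L.mem ha, by rw [Syl.i, L.φ_cj ha h37, hinv, beq_iff_eq.1 h]⟩
  · intro y hy h1 h2 h3
    obtain ⟨a, ha, rfl⟩ := (L.range y).1 hy
    have hsq : mulN a a = 10 := (L.sq_iff ha h10).2 h1
    have hna : a ≠ 37 := fun e => h2 (by rw [e]; rfl)
    have hnb : a ≠ 47 := fun e => h3 (by rw [e, Syl.i, hinv])
    rcases (spec ha).2 with ((h | h) | h) | h
    · exact absurd hsq h
    · exact absurd h hna
    · exact absurd h hnb
    obtain ⟨u, hu, hu'⟩ := anyN_spec h
    simp only [Bool.and_eq_true, Bool.or_eq_true, beq_iff_eq] at hu'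
    rcases hu' with e | ⟨e1, e2⟩
    · exact Or.inl ⟨L.φ u, L.mem hu, (L.sq_iff hu ha).1 e⟩
    · exact Or.inr ⟨L.φ u, L.mem hu, (L.sq_iff hu h10).1 e1, by rw [L.φ_cj hu ha, e2, L.φ_inv ha]⟩
  · intro u hu
    obtain ⟨a, ha, rfl⟩ := (L.range u).1 hu
    refine ⟨fun e => (spec ha).1.1.2.1 ((L.sq_iff ha h37).2 e), fun e => (spec ha).1.1.2.2 ?_⟩
    rw [Syl.i, hinv] at e
    exact (L.sq_iff ha (by norm_num)).2 e
  · intro u hu h e
    obtain ⟨a, ha, rfl⟩ := (L.range u).1 hu
    rw [Syl.i, L.φ_cj ha h37, hinv] at e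
    rcases (spec ha).1.2 with h' | h'
    · exact h' ((L.sq_iff ha h10).2 h)
    · exact h' ((L.eq_iff (cjN_lt ha h37) (by norm_num)).1 e)

theorem card_sub {m : ℕ} (h : closedM m = true) :
    Nat.card (L.sub m h) = ((List.range 512).filter (inM m)).length := by
  set l := (List.range 512).filter (inM m) with hl
  have hnd : l.Nodup := List.nodup_range.filter _
  have hspec : ∀ k : Fin l.length, l.get k < 512 ∧ inM m (l.get k) = true := fun k => by
    have := List.mem_filter.1 (show l.get k ∈ (List.range 512).filter (inM m) from List.get_mem l k)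
    exact ⟨List.mem_range.1 this.1, this.2⟩
  rw [← Nat.card_fin l.length]
  refine (Nat.card_congr (Equiv.ofBijective
    (fun k : Fin l.length => (⟨L.φ (l.get k), (L.mem_sub h (hspec k).1).2 (hspec k).2⟩ : L.sub m h)) ⟨?_, ?_⟩)).symm
  · intro x y e
    exact hnd.injective_get (L.inj _ (hspec x).1 _ (hspec y).1 (congrArg Subtype.val e))
  · rintro ⟨g, a, ha, hm, rfl⟩
    obtain ⟨k, hk⟩ := List.mem_iff_get.1 (show a ∈ l from List.mem_filter.2 ⟨List.mem_range.2 ha, hm⟩)
    exact ⟨k, Subtype.ext (congrArg L.φ hk)⟩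

/-- the subgroup `V⟨i⟩` -/
def VI : Subgroup G := L.sub mVI closed_mVI

theorem el {m : ℕ} (hc : closedM m = true) (h : elOk m = true) :
    (∀ b ∈ L.sub m hc, b * L.i = L.i * b) ∧ (∀ b ∈ L.sub m hc, b * b ∈ zpowers L.i) ∧
      ∀ a ∈ L.sub m hc, ∀ b ∈ L.sub m hc, a * b * a⁻¹ * b⁻¹ ∈ zpowers L.i := by
  unfold elOk at h
  have spec := fun {a : ℕ} (ha : a < 512) => allN_spec h ha
  simp only [Bool.and_eq_true, Bool.or_eq_true, Bool.not_eq_true'] at spec
  refine ⟨?_, ?_, ?_⟩
  · rintro _ ⟨a, ha, hm, rfl⟩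
    exact (L.cm_iff ha (by norm_num)).1 ((spec ha).resolve_left (by rw [hm]; simp)).1.1
  · rintro _ ⟨a, ha, hm, rfl⟩
    rw [L.mul a ha a ha]
    exact L.mem_inner (lt ha ha) ((spec ha).resolve_left (by rw [hm]; simp)).1.2
  · rintro _ ⟨a, ha, hm, rfl⟩ _ ⟨b, hb, hmb, rfl⟩
    rw [L.φ_com ha hb]
    have h2 := allN_spec ((spec ha).resolve_left (by rw [hm]; simp)).2 hb
    rw [hmb, Bool.not_true, Bool.false_or] at h2
    exact L.mem_inner (lt (cjN_lt ha hb) (inv_spec hb).1) h2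

theorem inI_of_mem [Finite G] {c : ℕ} (hc : c < 512) (h : L.φ c ∈ zpowers L.i) : inI c = true := by
  simp only [inI, Bool.or_eq_true, beq_iff_eq]
  rcases L.root.mem_zpowers_cases h with e | e | e | e
  · exact Or.inl (Or.inl (Or.inl ((L.one_iff hc).1 e)))
  · exact Or.inl (Or.inl (Or.inr ((L.eq_iff hc (by norm_num)).1 e)))
  · exact Or.inl (Or.inr ((L.eq_iff hc (by norm_num)).1 e))
  · rw [Syl.i, ← L.φ_inv (by norm_num), i_codes.2.1] at e
    exact Or.inr ((L.eq_iff hc (by norm_num)).1 e)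

/-- A mask with the finite facts is a band once it is closed on the class of `z`. -/
theorem band [Finite G] {m : ℕ} (hc : closedM m = true) (he : elOk m = true) (hb : bandOk m = true)
    (ho : outOk m = true) (hcard : 16 ≤ ((List.range 512).filter (inM m)).length)
    (htype : ∀ c < 512, cm c 37 = true → mulN c c = 0 → c ≠ 0 → (inM m c = true ↔ IsConj L.z (L.φ c))) :
    Band L.S L.z L.i (L.sub m hc) := by
  unfold outOk at ho
  unfold bandOk at hb
  obtain ⟨hb1, hb2⟩ := Bool.and_eq_true_iff.1 hb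
  have spec := fun {x : ℕ} (hx : x < 512) => allN_spec hb2 hx
  simp only [Bool.and_eq_true, Bool.or_eq_true, Bool.not_eq_true'] at spec
  obtain ⟨e1, e2, e3⟩ := L.el hc he
  have hni : ∀ {c : ℕ}, c < 512 → inI c = false → L.φ c ∉ zpowers L.i := fun hc h h' => by
    rw [L.inI_of_mem hc h'] at h
    simp at h
  refine ⟨L.sub_le hc, ⟨37, by norm_num, hb1, rfl⟩, e1, e2, e3, by rwa [L.card_sub hc], ?_, ?_, ?_, ?_, ?_⟩
  · intro s hs
    obtain ⟨x, hx, rfl⟩ := (L.range s).1 hs
    refine Invol.mem_normalizer_of_conj_le ?_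
    rintro _ ⟨_, ⟨b, hb', hmb, rfl⟩, rfl⟩
    show L.φ x * L.φ b * (L.φ x)⁻¹ ∈ _
    rw [L.φ_cj hx hb', L.mem_sub hc (cjN_lt hx hb')]
    have h := allN_spec (spec hx).1.1 hb'
    rwa [hmb, Bool.not_true, Bool.false_or] at h
  · intro s hs hsi hs2 hsn
    obtain ⟨x, hx, rfl⟩ := (L.range s).1 hs
    rw [L.mul x hx x hx] at hs2
    rcases (spec hx).1.2 with (h | h) | h
    · rw [(L.cm_iff hx (by norm_num)).2 hsi, L.inI_of_mem (lt hx hx) hs2] at h
      simp at h
    · exact absurd (L.mem_inner hx h) hsn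
    obtain ⟨u, hu, hu'⟩ := anyN_spec h
    rw [Bool.and_eq_true, beq_iff_eq] at hu'
    refine ⟨L.φ u, L.mem hu, by rw [L.mul u hu u hu, hu'.1, L.φ_zero], ?_⟩
    rw [← L.φ_inv hx, L.mul _ (inv_spec hx).1 u hu]
    exact L.mem_inner (lt (inv_spec hx).1 hu) hu'.2
  · intro s hs hsi hs2 hs1
    obtain ⟨x, hx, rfl⟩ := (L.range s).1 hs
    rw [L.mem_sub hc hx]
    refine htype x hx ((L.cm_iff hx (by norm_num)).2 hsi) ((L.sq_iff hx (by norm_num)).2 ?_)
      fun e => hs1 (by rw [e, L.φ_zero])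
    rw [hs2, L.φ_zero]
  · obtain ⟨x, hx, h⟩ := anyN_spec ho
    simp only [Bool.and_eq_true, beq_iff_eq, Bool.not_eq_true'] at h
    refine ⟨L.φ x, L.mem hx, (L.cm_iff hx (by norm_num)).1 h.1.1, ?_, fun h' => ?_⟩
    · rw [L.mul x hx x hx, h.1.2, L.φ_zero]
    · rw [(L.mem_sub hc hx).1 h'] at h
      simp at h
  · intro s hs hsi hs2 hsn
    obtain ⟨x, hx, rfl⟩ := (L.range s).1 hs
    have hsq : mulN x x = 0 := (L.sq_iff hx (by norm_num)).2 (by rw [hs2, L.φ_zero])
    have hxm : inM m x = false := by rwa [← Bool.not_eq_true, ← L.mem_sub hc hx]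
    rcases (spec hx).2 with h | h
    · simp [(L.cm_iff hx (show 37 < 512 by norm_num)).2 hsi, hsq, hxm] at h
    obtain ⟨hp, hq⟩ := h
    obtain ⟨a, ha, hp⟩ := anyN_spec hp
    simp only [Bool.and_eq_true, Bool.not_eq_true'] at hp
    obtain ⟨⟨⟨a1, a2⟩, a3⟩, hp⟩ := hp
    obtain ⟨b, hb', hp⟩ := anyN_spec hp
    simp only [Bool.and_eq_true, Bool.not_eq_true'] at hp
    obtain ⟨⟨⟨b1, b2⟩, b3⟩, b4⟩ := hp
    obtain ⟨v, hv, hq⟩ := anyN_spec hq
    simp only [Bool.and_eq_true, Bool.not_eq_true', beq_iff_eq] at hq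
    obtain ⟨⟨⟨⟨v1, v2⟩, v3⟩, v4⟩, v5⟩ := hq
    refine ⟨⟨L.φ a, (L.mem_sub hc ha).2 a1, L.φ b, (L.mem_sub hc hb').2 b1, hni ha a2, hni hb' b2, ?_, ?_, ?_⟩,
      L.φ v, (L.mem_sub hc hv).2 v1, ?_, hni hv v3, (L.cm_iff hx hv).1 v4, ?_⟩
    · rw [← L.φ_inv ha, L.mul _ (inv_spec ha).1 b hb']
      exact hni (lt (inv_spec ha).1 hb') b3
    · rw [L.φ_com hx ha]
      exact L.mem_inner (lt (cjN_lt hx ha) (inv_spec ha).1) a3
    · rw [L.φ_com hx hb']
      exact L.mem_inner (lt (cjN_lt hx hb') (inv_spec hb').1) b4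
    · rw [L.mul v hv v hv, v2, L.φ_zero]
    rintro _ ⟨w, hw, hwm, rfl⟩ hw2 hxw
    have h5 := allN_spec v5 hw
    have hw3 : mulN w w = 0 := (L.sq_iff hw (by norm_num)).2 (by rw [hw2, L.φ_zero])
    simp [hwm, hw3, (L.cm_iff hx hw).2 hxw] at h5
    rcases h5 with h5 | h5
    · exact Or.inl (L.mem_inner hw h5)
    · refine Or.inr ?_
      rw [← L.φ_inv hv, L.mul _ (inv_spec hv).1 w hw]
      exact L.mem_inner (lt (inv_spec hv).1 hw) h5

theorem over_R [Finite G] {B : Subgroup G} (hB : B ≤ L.R) : Over L.S L.i B L.R := by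
  obtain ⟨e1, e2, e3⟩ := L.el closed_mR el_mR
  exact ⟨hB, L.sub_le _, e1, e2, e3, by rw [Syl.R, L.card_sub, card_mR]; norm_num⟩

theorem VI_le_R : L.VI ≤ L.R := by
  rintro _ ⟨a, ha, hm, rfl⟩
  have h := allN_spec mVI_le_mR ha
  rw [hm, Bool.not_true, Bool.false_or] at h
  exact (L.mem_sub _ ha).2 h

/-- `C(z)` normalizes `R` modulo its core, when `R` is closed on the class of `z`. -/
theorem covers_R [Finite G]
    (htype : ∀ c < 512, cm c 37 = true → mulN c c = 0 → c ≠ 0 → (inM mR c = true ↔ IsConj L.z (L.φ c)))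
    (hT : ∀ v ∈ L.R, v * v = 1 → v ∉ zpowers L.i → TwoNil ↥(centralizer ({L.z, v} : Set G)))
    {g : G} (hg : g * L.z = L.z * g) :
    ∃ o ∈ theta L.z, ∃ n ∈ fixInv L.i, n ∈ normalizer (L.R : Set G) ∧ g = o * n :=
  (L.band closed_mR el_mR band_mR out_mR (by rw [card_mR]; norm_num) htype).covers L.root
    (L.over_R le_rfl) hT hg

/-- `C(z)` normalizes `V⟨i⟩` modulo its core, when it is closed on the class of `z`. -/
theorem covers_VI [Finite G]
    (htype : ∀ c < 512, cm c 37 = true → mulN c c = 0 → c ≠ 0 → (inM mVI c = true ↔ IsConj L.z (L.φ c)))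
    (hT : ∀ v ∈ L.VI, v * v = 1 → v ∉ zpowers L.i → TwoNil ↥(centralizer ({L.z, v} : Set G)))
    {g : G} (hg : g * L.z = L.z * g) :
    ∃ o ∈ theta L.z, ∃ n ∈ fixInv L.i, n ∈ normalizer (L.VI : Set G) ∧ g = o * n :=
  (L.band closed_mVI el_mVI band_mVI out_mVI (by rw [card_mVI]) htype).covers L.root
    (L.over_R L.VI_le_R) hT hg

end Syl

end Cfsg.Agent.HSSylow
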