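import Cfsg.Agent.HSSylow.Setup
import Cfsg.Agent.HSSylow.Generic

/-!
The fusion facts passed between the parts of the proof.
-/

set_option autoImplicit false

namespace Cfsg.Agent.HSSylow

namespace Syl

variable {G : Type*} [Group G] (L : Syl G)

/-- An element is conjugate to the central involution. -/
def Zc (x : G) : Prop := IsConj L.z x

/-- The involution of `R` with centralizer of order 64 in the Sylow subgroup. -/
def x8 : G := L.φ 320

/-- The involution of `R` with centralizer of order 32 in the Sylow subgroup. -/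
def x16 : G := L.φ 64

/-- An involution of the second class with centralizer of order 64. -/
def q : G := L.φ 339

/-- An involution of the second class outside `R`. -/
def p : G := L.φ 80

/-- The fusion of the involutions. -/
structure Fus : Prop where
  zV : ∀ v ∈ L.V, v ≠ 1 → L.Zc v
  not_q : ¬ L.Zc L.q
  not_p : ¬ L.Zc L.p
  x_iff : L.Zc L.x8 ↔ L.Zc L.x16
  gl : ∀ u ∈ L.V, ∀ v ∈ L.V, ∀ w ∈ L.V, u ≠ 1 → v ≠ 1 → v ≠ u → w ≠ 1 → w ≠ u → w ≠ v → w ≠ u * v →
    ∃ n ∈ Subgroup.normalizer (L.A : Set G), n * L.z * n⁻¹ = u ∧ n * L.a * n⁻¹ = v ∧ n * L.b * n⁻¹ = w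

/-- The centralizers in `C(z)` of the involutions of `V`, and of `R` when `x8` is conjugate to `z`. -/
structure Loc : Prop where
  nilV : ∀ v ∈ L.V, v ≠ 1 → v ≠ L.z → TwoNil ↥(Subgroup.centralizer ({L.z, v} : Set G))
  nilR : L.Zc L.x8 → ∀ v ∈ L.R, v * v = 1 → v ≠ 1 → v ≠ L.z →
    TwoNil ↥(Subgroup.centralizer ({L.z, v} : Set G))

end Syl

end Cfsg.Agent.HSSylow
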