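import Mathlib
import Cfsg.Agent.HSSylow.CentData
import Cfsg.Agent.HSSylow.Defs

/-!
The band theorems from the fusion of the involutions.
-/

set_option autoImplicit false
set_option maxRecDepth 100000
set_option linter.all false

namespace Cfsg.Agent.HSSylow

open Subgroup
open Cfsg.Agent.SylJ2 (theta)

/-- representatives of the involution classes in `C(i)` -/
def classOk : Bool :=
  allN fun c => !(cm c 37 && mulN c c == 0 && !(c == 0)) ||
    anyN fun s => let r := cjN s c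
      (inM mVI c && inM mR c && inM mV c && (r == 10 || r == 34 || r == 2)) ||
        (!inM mVI c && inM mR c && (r == 320 || r == 64)) ||
        (!inM mVI c && !inM mR c && (r == 339 || r == 80))

theorem class_ok : classOk = true := by decide +kernel

theorem mV_codes : inM mV 10 = true ∧ inM mV 34 = true ∧ inM mV 2 = true := by decide +kernel

namespace Syl

variable {G : Type*} [Group G] (L : Syl G)

theorem class_cases {c : ℕ} (hc : c < 512) (hi : cm c 37 = true) (h2 : mulN c c = 0) (h0 : c ≠ 0) :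
    (inM mVI c = true ∧ inM mR c = true ∧ inM mV c = true) ∨
      (inM mVI c = false ∧ inM mR c = true ∧ (IsConj L.x8 (L.φ c) ∨ IsConj L.x16 (L.φ c))) ∨
      (inM mVI c = false ∧ inM mR c = false ∧ (IsConj L.q (L.φ c) ∨ IsConj L.p (L.φ c))) := by
  have h := class_ok
  unfold classOk at h
  have h1 := allN_spec h hc
  simp [hi, h2, h0] at h1
  obtain ⟨s, hs, hs'⟩ := h1
  have hconj : ∀ r, cjN s c = r → IsConj (L.φ r) (L.φ c) := fun r e => by
    refine IsConj.symm (isConj_iff.2 ⟨L.φ s, ?_⟩)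
    rw [L.φ_cj hs hc, e]
  rcases hs' with (⟨⟨⟨a1, a2⟩, a3⟩, -⟩ | ⟨⟨a1, a2⟩, a3⟩) | ⟨⟨a1, a2⟩, a3⟩
  · exact Or.inl ⟨a1, a2, a3⟩
  · exact Or.inr (Or.inl ⟨a1, a2, a3.imp (hconj 320) (hconj 64)⟩)
  · exact Or.inr (Or.inr ⟨a1, a2, a3.imp (hconj 339) (hconj 80)⟩)

variable (F : L.Fus)
include F

theorem zc_of_mem_mV {c : ℕ} (hc : c < 512) (h : inM mV c = true) (h0 : c ≠ 0) : IsConj L.z (L.φ c) :=
  F.zV _ ⟨c, hc, h, rfl⟩ fun e => h0 ((L.one_iff hc).1 e)

theorem not_zc_out {c : ℕ} (h : IsConj L.q (L.φ c) ∨ IsConj L.p (L.φ c)) : ¬ IsConj L.z (L.φ c) := fun h' => by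
  rcases h with h | h
  · exact F.not_q (h'.trans h.symm)
  · exact F.not_p (h'.trans h.symm)

theorem type_R (hx : L.Zc L.x8) {c : ℕ} (hc : c < 512) (hi : cm c 37 = true) (h2 : mulN c c = 0) (h0 : c ≠ 0) :
    inM mR c = true ↔ IsConj L.z (L.φ c) := by
  rcases L.class_cases hc hi h2 h0 with ⟨-, a2, a3⟩ | ⟨-, a2, h⟩ | ⟨-, a2, h⟩
  · exact iff_of_true a2 (L.zc_of_mem_mV F hc a3 h0)
  · exact iff_of_true a2 (h.elim (fun h => hx.trans h) fun h => (F.x_iff.1 hx).trans h)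
  · exact iff_of_false (by simp [a2]) (L.not_zc_out F h)

theorem type_VI (hx : ¬ L.Zc L.x8) {c : ℕ} (hc : c < 512) (hi : cm c 37 = true) (h2 : mulN c c = 0) (h0 : c ≠ 0) :
    inM mVI c = true ↔ IsConj L.z (L.φ c) := by
  rcases L.class_cases hc hi h2 h0 with ⟨a1, -, a3⟩ | ⟨a1, -, h⟩ | ⟨a1, -, h⟩
  · exact iff_of_true a1 (L.zc_of_mem_mV F hc a3 h0)
  · exact iff_of_false (by simp [a1]) fun h' => by
      rcases h with h | h
      · exact hx (h'.trans h.symm)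
      · exact hx (F.x_iff.2 (h'.trans h.symm))
  · exact iff_of_false (by simp [a1]) (L.not_zc_out F h)

omit F in
theorem invol_mem_V [Finite G] {v : G} (hv : v ∈ L.VI) (h2 : v * v = 1) (h1 : v ≠ 1) : v ∈ L.V := by
  obtain ⟨c, hc, hm, rfl⟩ := hv
  have hi : cm c 37 = true :=
    (L.cm_iff hc (by norm_num)).2 ((L.el closed_mVI el_mVI).1 _ ⟨c, hc, hm, rfl⟩)
  have hsq : mulN c c = 0 := (L.sq_iff hc (by norm_num)).2 (by rw [h2, L.φ_zero])
  rcases L.class_cases hc hi hsq (fun e => h1 (by rw [e, L.φ_zero])) with ⟨-, -, a3⟩ | ⟨a1, -⟩ | ⟨a1, -⟩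
  · exact ⟨c, hc, a3, rfl⟩
  · simp [hm] at a1
  · simp [hm] at a1

variable (Lc : L.Loc)
include Lc

/-- case HS: `C(z)` normalizes `R` modulo its core -/
theorem cent_cover [Finite G] (hx : L.Zc L.x8) {g : G} (hg : g * L.z = L.z * g) :
    ∃ o ∈ theta L.z, ∃ n ∈ normalizer (L.R : Set G), n * L.z = L.z * n ∧ n ∈ fixInv L.i ∧ g = o * n := by
  obtain ⟨o, ho, n, hn, hnR, he⟩ := L.covers_R (fun c hc hi h2 h0 => L.type_R F hx hc hi h2 h0)
    (fun v hv h2 hvi => Lc.nilR hx v hv h2 (fun e => hvi (e ▸ one_mem _))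
      fun e => hvi (by rw [e]; exact L.root.z_mem_zpowers)) hg
  exact ⟨o, ho, n, hnR, L.root.fix_comm hn, hn, he⟩

/-- the other case: `C(z)` normalizes `V⟨i⟩` modulo its core -/
theorem cent_cover_VI [Finite G] (hx : ¬ L.Zc L.x8) {g : G} (hg : g * L.z = L.z * g) :
    ∃ o ∈ theta L.z, ∃ n ∈ normalizer (L.VI : Set G), n * L.z = L.z * n ∧ n ∈ fixInv L.i ∧ g = o * n := by
  obtain ⟨o, ho, n, hn, hnR, he⟩ := L.covers_VI (fun c hc hi h2 h0 => L.type_VI F hx hc hi h2 h0)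
    (fun v hv h2 hvi => Lc.nilV v (L.invol_mem_V hv h2 fun e => hvi (e ▸ one_mem _))
      (fun e => hvi (e ▸ one_mem _)) fun e => hvi (by rw [e]; exact L.root.z_mem_zpowers)) hg
  exact ⟨o, ho, n, hnR, L.root.fix_comm hn, hn, he⟩

end Syl

end Cfsg.Agent.HSSylow
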