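import Mathlib
import Cfsg.Agent.HSSylow.Inst

/-!
If the involutions of `R` outside `V` are not conjugate to `z`, then `V` is strongly closed, hence normal modulo
the odd core; so this case does not occur in a simple group.
-/

set_option autoImplicit false
set_option maxRecDepth 100000
set_option linter.all false

namespace Cfsg.Agent.HSSylow

open Subgroup
open Cfsg.Agent.SylJ2 (theta)

/-- facts about `V` inside the Sylow subgroup -/
def vOk : Bool :=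
  allN fun x =>
    (!(inM mV x) || (inM mA x && mulN x x == 0 && allN fun w => !inM mV w || cm x w)) &&
    (!(inM mA x && mulN x x == 0) || inM mV x) &&
    (!(inM mV x && !(x == 0)) || anyN fun v => inM mV v && !(v == 0) && !(v == x) &&
      anyN fun w => inM mV w && !(w == 0) && !(w == x) && !(w == v) && !(w == mulN x v)) &&
    (let q := mulN x x; !(mulN q q == 0) || cm q 37) &&
    (!(mulN x x == 0 && !inM mV x) || cm x 37 ||
      anyN fun u => cm x u && inM mV (mulN u u) && !(mulN u u == 0) && mulN (mulN u u) (mulN u u) == 0) &&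
    (!(mulN x x == 0 && !inM mV x) ||
      ((anyN fun a => inM mV a && !(a == 0) && cm x a &&
          anyN fun b => inM mV b && !(b == 0) && !(b == a) && cm x b) &&
        anyN fun v => inM mV v && !(v == 0) && cm x v &&
          (allN fun w => !inM mV w || comN x w == 0 || comN x w == v) &&
          anyN fun w => inM mV w && comN x w == v))

theorem v_ok : vOk = true := by decide +kernel

theorem card_mV : ((List.range 512).filter (inM mV)).length = 8 := by decide +kernel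

theorem mV_le : allN (fun c => !inM mV c || inM mVI c) = true := by decide +kernel

theorem q_codes : mulN 339 339 = 0 ∧ inM mV 339 = false := by decide +kernel

namespace Syl

variable {G : Type*} [Group G] (L : Syl G)

theorem v_spec {x : ℕ} (hx : x < 512) :
    (inM mV x = true → inM mA x = true ∧ mulN x x = 0 ∧ ∀ w < 512, inM mV w = true → cm x w = true) ∧
    (inM mA x = true → mulN x x = 0 → inM mV x = true) ∧
    (inM mV x = true → x ≠ 0 → ∃ v < 512, ∃ w < 512, inM mV v = true ∧ v ≠ 0 ∧ v ≠ x ∧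
      inM mV w = true ∧ w ≠ 0 ∧ w ≠ x ∧ w ≠ v ∧ w ≠ mulN x v) ∧
    (mulN (mulN x x) (mulN x x) = 0 → cm (mulN x x) 37 = true) ∧
    (mulN x x = 0 → inM mV x = false → cm x 37 = true ∨ ∃ u < 512, cm x u = true ∧ inM mV (mulN u u) = true ∧
      mulN u u ≠ 0 ∧ mulN (mulN u u) (mulN u u) = 0) ∧
    (mulN x x = 0 → inM mV x = false →
      (∃ a < 512, ∃ b < 512, inM mV a = true ∧ a ≠ 0 ∧ cm x a = true ∧ inM mV b = true ∧ b ≠ 0 ∧ b ≠ a ∧
        cm x b = true) ∧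
      ∃ v < 512, inM mV v = true ∧ v ≠ 0 ∧ cm x v = true ∧
        (∀ w < 512, inM mV w = true → comN x w = 0 ∨ comN x w = v) ∧ ∃ w < 512, inM mV w = true ∧ comN x w = v) := by
  have h := v_ok
  unfold vOk at h
  have h1 := allN_spec h hx
  simp only [Bool.and_eq_true] at h1
  obtain ⟨⟨⟨⟨⟨c1, c2⟩, c3⟩, c4⟩, c5⟩, c6⟩ := h1
  refine ⟨fun e => ?_, fun e e' => ?_, fun e e' => ?_, fun e => ?_, fun e e' => ?_, fun e e' => ?_⟩
  · simp [e] at c1
    exact ⟨c1.1.1, c1.1.2, fun w hw hwV => (c1.2 w hw).resolve_left (by simp [hwV])⟩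
  · simp [e, e'] at c2
    exact c2
  · simp [e, e'] at c3
    obtain ⟨v, hv, ⟨⟨v1, v2⟩, v3⟩, w, hw, ⟨⟨⟨w1, w2⟩, w3⟩, w4⟩, w5⟩ := c3
    exact ⟨v, hv, w, hw, v1, v2, v3, w1, w2, w3, w4, w5⟩
  · simp [e] at c4
    exact c4
  · simp [e, e'] at c5
    rcases c5 with c5 | ⟨u, hu, ⟨⟨u1, u2⟩, u3⟩, u4⟩
    · exact Or.inl c5
    · exact Or.inr ⟨u, hu, u1, u2, u3, u4⟩
  · simp [e, e'] at c6
    obtain ⟨⟨a, ha, ⟨⟨a1, a2⟩, a3⟩, b, hb, ⟨⟨b1, b2⟩, b3⟩, b4⟩, w, hv, ⟨⟨⟨v1, v2⟩, v3⟩, v4⟩, hw, w1⟩ := c6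
    exact ⟨⟨a, ha, b, hb, a1, a2, a3, b1, b2, b3, b4⟩, _, hv, v1, v2, v3, fun w' hw' hwV =>
      ((or_assoc.1 (v4 w' hw')).resolve_left (by simp [hwV])), w, hw, w1, rfl⟩

theorem sq_V {v : G} (hv : v ∈ L.V) : v * v = 1 := by
  obtain ⟨c, hc, hm, rfl⟩ := hv
  rw [L.mul c hc c hc, ((v_spec hc).1 hm).2.1, L.φ_zero]

theorem comm_V {v w : G} (hv : v ∈ L.V) (hw : w ∈ L.V) : v * w = w * v := by
  obtain ⟨c, hc, hm, rfl⟩ := hv
  obtain ⟨d, hd, hd', rfl⟩ := hw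
  exact (L.cm_iff hc hd).1 (((v_spec hc).1 hm).2.2 d hd hd')

theorem z_mem_V : L.z ∈ L.V := ⟨10, by norm_num, mV_codes.1, rfl⟩

theorem normalizer_A [Finite G] : normalizer (L.A : Set G) ≤ normalizer (L.V : Set G) := fun n hn =>
  Invol.mem_normalizer_of_conj_le (by
    rintro _ ⟨v, hv, rfl⟩
    show n * v * n⁻¹ ∈ L.V
    have hvA : v ∈ L.A := by
      obtain ⟨c, hc, hm, rfl⟩ := hv
      exact ⟨c, hc, ((v_spec hc).1 hm).1, rfl⟩
    obtain ⟨d, hd, hdA, hde⟩ := (mem_normalizer_iff.1 hn v).1 hvA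
    refine ⟨d, hd, (v_spec hd).2.1 hdA ((L.sq_iff hd (by norm_num)).2 ?_), hde⟩
    rw [hde, show n * v * n⁻¹ * (n * v * n⁻¹) = n * (v * v) * n⁻¹ by group, L.sq_V hv, L.φ_zero, mul_one,
      mul_inv_cancel])

theorem sq_eq_one_of_odd [Finite G] {D : Subgroup G} (hD : ¬ 2 ∣ Nat.card D) {P : Subgroup G} (hP : IsPGroup 2 P)
    {x : G} (h1 : x ∈ D) (h2 : x ∈ P) : x = 1 := by
  obtain ⟨k, hk⟩ := hP ⟨x, h2⟩
  have hk' : x ^ 2 ^ k = 1 := congrArg Subtype.val hk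
  exact mem_bot.1 (mem_of_pow_two (D := ⊥) (SylJ2.odd_orderOf hD h1) (m := k) (by rw [hk']; exact one_mem _))

variable [Finite G] (F : L.Fus)
include F

theorem exists_to {u : G} (hu : u ∈ L.V) (h1 : u ≠ 1) :
    ∃ n ∈ normalizer (L.A : Set G), n * L.z * n⁻¹ = u := by
  obtain ⟨c, hc, hm, rfl⟩ := hu
  obtain ⟨v, hv, w, hw, v1, v2, v3, w1, w2, w3, w4, w5⟩ :=
    (v_spec hc).2.2.1 hm fun e => h1 (by rw [e, L.φ_zero])
  have hne : ∀ {a b : ℕ}, a < 512 → b < 512 → a ≠ b → L.φ a ≠ L.φ b := fun ha hb h e => h ((L.eq_iff ha hb).1 e)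
  obtain ⟨n, hn, hnz, -, -⟩ := F.gl _ ⟨c, hc, hm, rfl⟩ _ ⟨v, hv, v1, rfl⟩ _ ⟨w, hw, w1, rfl⟩ h1
    (fun e => v2 ((L.one_iff hv).1 e)) (hne hv hc v3) (fun e => w2 ((L.one_iff hw).1 e)) (hne hw hc w3)
    (hne hw hv w4) (by rw [L.mul c hc v hv]; exact hne hw (lt hc hv) w5)
  exact ⟨n, hn, hnz⟩

variable (Lc : L.Loc) (hx : ¬ L.Zc L.x8)
include Lc hx

theorem cover_V {g : G} (hg : g * L.z = L.z * g) :
    ∃ o ∈ theta L.z, ∃ n ∈ normalizer (L.V : Set G), n * L.z = L.z * n ∧ g = o * n := by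
  obtain ⟨o, ho, n, hn, hnz, hni, he⟩ := L.cent_cover_VI F Lc hx hg
  refine ⟨o, ho, n, Invol.mem_normalizer_of_conj_le ?_, hnz, he⟩
  rintro _ ⟨v, hv, rfl⟩
  show n * v * n⁻¹ ∈ L.V
  rcases eq_or_ne v 1 with rfl | h1
  · rw [mul_one, mul_inv_cancel]
    exact one_mem _
  have hvI : v ∈ L.VI := by
    obtain ⟨c, hc, hm, rfl⟩ := hv
    have h := allN_spec mV_le hc
    rw [hm, Bool.not_true, Bool.false_or] at h
    exact ⟨c, hc, h, rfl⟩
  refine L.invol_mem_V ((mem_normalizer_iff.1 hn v).1 hvI) ?_ fun e => h1 (conj_eq_one_iff.1 e)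
  rw [show n * v * n⁻¹ * (n * v * n⁻¹) = n * (v * v) * n⁻¹ by group, L.sq_V hv, mul_one, mul_inv_cancel]

/-- `V` is strongly closed in `C(z)` with respect to any 2-subgroup above it -/
theorem closed_cent {P : Subgroup G} (hP : IsPGroup 2 P) (hVP : L.V ≤ P) {v g : G} (hv : v ∈ L.V)
    (hg : g * L.z = L.z * g) (h : g * v * g⁻¹ ∈ P) : g * v * g⁻¹ ∈ L.V := by
  obtain ⟨o, ho, n, hn, -, rfl⟩ := L.cover_V F Lc hx hg
  set v' := n * v * n⁻¹ with hv'
  have hv'V : v' ∈ L.V := (mem_normalizer_iff.1 hn v).1 hv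
  rw [show o * n * v * (o * n)⁻¹ = o * v' * o⁻¹ by rw [hv']; group] at h ⊢
  have h1 : o * v' * o⁻¹ * v'⁻¹ ∈ theta L.z := by
    rw [show o * v' * o⁻¹ * v'⁻¹ = o * (v' * o⁻¹ * v'⁻¹) by group]
    exact mul_mem ho (SylJ2.core_conj (mem_centralizer_singleton_iff.2 (L.comm_V hv'V L.z_mem_V)) (inv_mem ho))
  have h2 := sq_eq_one_of_odd (SylJ2.core_odd _) hP h1 (mul_mem h (inv_mem (hVP hv'V)))
  rw [mul_inv_eq_one] at h2
  rwa [h2]

/-- the involutions of `S` conjugate to `z` lie in `V` -/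
theorem zc_mem_V {u : G} (hu : u ∈ (L.S : Subgroup G)) (h2 : u * u = 1) (hc : IsConj L.z u) : u ∈ L.V := by
  haveI : Fact (Nat.Prime 2) := ⟨Nat.prime_two⟩
  obtain ⟨x, hxlt, rfl⟩ := (L.range u).1 hu
  by_cases hxV : inM mV x = true
  · exact ⟨x, hxlt, hxV, rfl⟩
  exfalso
  rw [Bool.not_eq_true] at hxV
  have hsq : mulN x x = 0 := (L.sq_iff hxlt (by norm_num)).2 (by rw [h2, L.φ_zero])
  have key : ∀ {c : ℕ}, c < 512 → cm c 37 = true → mulN c c = 0 → c ≠ 0 → IsConj L.z (L.φ c) →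
      inM mV c = true := fun hc hi h2 h0 hz => by
    rcases L.class_cases hc hi h2 h0 with ⟨-, -, a3⟩ | ⟨-, -, h | h⟩ | ⟨-, -, h⟩
    · exact a3
    · exact absurd (hz.trans h.symm) hx
    · exact absurd (F.x_iff.2 (hz.trans h.symm)) hx
    · exact absurd hz (L.not_zc_out F h)
  have hx0 : x ≠ 0 := fun e => by
    rw [e] at hxV
    exact absurd hxV (by decide +kernel)
  rcases (v_spec hxlt).2.2.2.2.1 hsq hxV with hi | ⟨w, hw, hxw, hwV, hw0, hw2⟩
  · rw [key hxlt hi hsq hx0 hc] at hxV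
    exact Bool.noConfusion hxV
  -- an extremal conjugation of `u` onto `z`
  obtain ⟨g, hg⟩ := isConj_iff.1 hc.symm
  set C := centralizer ({L.z} : Set G)
  have hSC : (L.S : Subgroup G) ≤ C := fun s hs => mem_centralizer_singleton_iff.2 (L.root.z_comm s hs)
  set K := (closure ({L.φ x, L.φ w} : Set G)).map (MulAut.conj g).toMonoidHom
  have hcl : closure ({L.φ x, L.φ w} : Set G) ≤ (L.S : Subgroup G) :=
    (closure_le _).2 (by rintro y (rfl | rfl); exacts [L.mem hxlt, L.mem hw])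
  have hK2 : IsPGroup 2 K := (L.S.2.to_le hcl).map _
  have hcommK : ∀ y ∈ closure ({L.φ x, L.φ w} : Set G), y * L.φ x = L.φ x * y := by
    intro y hy
    have : closure ({L.φ x, L.φ w} : Set G) ≤ centralizer ({L.φ x} : Set G) := (closure_le _).2 (by
      rintro y (rfl | rfl)
      · exact mem_centralizer_singleton_iff.2 rfl
      · exact mem_centralizer_singleton_iff.2 ((L.cm_iff hxlt hw).1 hxw).symm)
    exact mem_centralizer_singleton_iff.1 (this hy)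
  have hKC : K ≤ C := by
    rintro _ ⟨y, hy, rfl⟩
    refine mem_centralizer_singleton_iff.2 ?_
    show g * y * g⁻¹ * L.z = L.z * (g * y * g⁻¹)
    rw [← hg, show g * y * g⁻¹ * (g * L.φ x * g⁻¹) = g * (y * L.φ x) * g⁻¹ by group, hcommK y hy]
    group
  obtain ⟨K', hK'⟩ := (hK2.comap_subtype (K := C)).exists_le_sylow
  obtain ⟨k, hk⟩ := MulAction.exists_smul_eq C K' (L.S.subtype hSC)
  have hmove : ∀ y ∈ closure ({L.φ x, L.φ w} : Set G),
      ((k : G) * g) * y * ((k : G) * g)⁻¹ ∈ (L.S : Subgroup G) := by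
    intro y hy
    have hyK : g * y * g⁻¹ ∈ K := ⟨y, hy, rfl⟩
    have h2' : k * ⟨_, hKC hyK⟩ * k⁻¹ ∈ (L.S.subtype hSC : Subgroup C) := by
      rw [← hk]
      exact ⟨_, hK' (mem_subgroupOf.2 hyK), rfl⟩
    rw [show (k : G) * g * y * ((k : G) * g)⁻¹ = (k : G) * (g * y * g⁻¹) * (k : G)⁻¹ by group]
    exact mem_subgroupOf.1 h2'
  have hh : ((k : G) * g) * L.φ x * ((k : G) * g)⁻¹ = L.z := by
    rw [show (k : G) * g * L.φ x * ((k : G) * g)⁻¹ = (k : G) * (g * L.φ x * g⁻¹) * (k : G)⁻¹ by group, hg,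
      mem_centralizer_singleton_iff.1 k.2, mul_inv_cancel_right]
  set h := (k : G) * g
  obtain ⟨d, hd, hde⟩ := (L.range _).1 (hmove (L.φ w) (subset_closure (by simp)))
  set a' := mulN w w
  have ha' : L.φ a' = L.φ w * L.φ w := (L.mul w hw w hw).symm
  have ha'1 : L.φ a' ≠ 1 := fun e => hw0 ((L.one_iff (lt hw hw)).1 e)
  have hd2 : L.φ (mulN d d) = h * L.φ a' * h⁻¹ := by
    rw [← L.mul d hd d hd, hde, ha']
    group
  have hd4 : mulN (mulN d d) (mulN d d) = 0 := (L.sq_iff (lt hd hd) (by norm_num)).2 (by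
    rw [hd2, show h * L.φ a' * h⁻¹ * (h * L.φ a' * h⁻¹) = h * (L.φ a' * L.φ a') * h⁻¹ by group,
      (L.sq_iff (lt hw hw) (by norm_num)).1 hw2, L.φ_zero, mul_one, mul_inv_cancel])
  have hdV : inM mV (mulN d d) = true := key (lt hd hd) ((v_spec hd).2.2.2.1 hd4) hd4
    (fun e => ha'1 (by rw [e, L.φ_zero] at hd2; exact conj_eq_one_iff.1 hd2.symm))
    ((F.zV _ ⟨a', lt hw hw, hwV, rfl⟩ ha'1).trans (hd2 ▸ isConj_iff.2 ⟨h, rfl⟩))
  obtain ⟨n, hn, hnz⟩ := L.exists_to F ⟨mulN d d, lt hd hd, hdV, rfl⟩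
    (fun e => ha'1 (by rw [e] at hd2; exact conj_eq_one_iff.1 hd2.symm))
  obtain ⟨m, hm, hmz⟩ := L.exists_to F ⟨a', lt hw hw, hwV, rfl⟩ ha'1
  set f := n⁻¹ * h * m with hf
  have hfz : f * L.z = L.z * f := by
    refine mul_inv_eq_iff_eq_mul.1 ?_
    calc f * L.z * f⁻¹ = n⁻¹ * (h * (m * L.z * m⁻¹) * h⁻¹) * n := by rw [hf]; group
      _ = n⁻¹ * (n * L.z * n⁻¹) * n := by rw [hmz, ← hd2, hnz]
      _ = L.z := by group
  have hy : f * (m⁻¹ * L.φ x * m) * f⁻¹ = n⁻¹ * L.z * n := by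
    rw [← hh, hf]
    group
  have hv : n⁻¹ * L.z * n ∈ L.V := by
    have := (mem_normalizer_iff.1 (L.normalizer_A (inv_mem hn)) L.z).1 L.z_mem_V
    rwa [inv_inv] at this
  have hP : IsPGroup 2 ((L.S : Subgroup G).map (MulAut.conj m⁻¹).toMonoidHom) := L.S.2.map _
  have hmV := L.normalizer_A hm
  have hfi : f⁻¹ * L.z = L.z * f⁻¹ := by
    calc f⁻¹ * L.z = f⁻¹ * (L.z * f) * f⁻¹ := by group
      _ = L.z * f⁻¹ := by rw [← hfz]; group
  have hmem := L.closed_cent F Lc hx hP (fun v hv => ⟨m * v * m⁻¹, L.sub_le _ ((mem_normalizer_iff.1 hmV v).1 hv),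
      show m⁻¹ * (m * v * m⁻¹) * m⁻¹⁻¹ = v by group⟩) hv hfi (by
    rw [← hy, show f⁻¹ * (f * (m⁻¹ * L.φ x * m) * f⁻¹) * f⁻¹⁻¹ = m⁻¹ * L.φ x * m by group]
    exact ⟨L.φ x, L.mem hxlt, show m⁻¹ * L.φ x * m⁻¹⁻¹ = _ by rw [inv_inv]⟩)
  rw [← hy, show f⁻¹ * (f * (m⁻¹ * L.φ x * m) * f⁻¹) * f⁻¹⁻¹ = m⁻¹ * L.φ x * m by group] at hmem
  have h3 := (mem_normalizer_iff.1 hmV _).1 hmem
  rw [show m * (m⁻¹ * L.φ x * m) * m⁻¹ = L.φ x by group] at h3
  obtain ⟨c, hc', hcm, hce⟩ := h3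
  rw [(L.eq_iff hc' hxlt).1 hce, hxV] at hcm
  exact Bool.noConfusion hcm

/-- the cores of the centralizers on `V` are balanced -/
theorem balance_V {a b : G} (ha : a ∈ L.V) (ha1 : a ≠ 1) (hb : b ∈ L.V) (hb1 : b ≠ 1) :
    theta a ⊓ centralizer ({b} : Set G) ≤ theta b := by
  rintro x ⟨hxa, hxb⟩
  obtain ⟨n, hn, rfl⟩ := L.exists_to F hb hb1
  have hnV := L.normalizer_A hn
  set a' := n⁻¹ * a * n with ha'
  set x' := n⁻¹ * x * n with hx'
  suffices hx'z : x' ∈ theta L.z by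
    have := SylJ2.theta_conj (g := n) hx'z
    rwa [show n * x' * n⁻¹ = x by rw [hx']; group] at this
  have ha'V : a' ∈ L.V := by
    have := (mem_normalizer_iff.1 (inv_mem hnV) a).1 ha
    rwa [inv_inv] at this
  have hx'a : x' ∈ theta a' := by
    have := SylJ2.theta_conj (g := n⁻¹) hxa
    rwa [inv_inv] at this
  rcases eq_or_ne a' L.z with e | hne
  · rwa [← e]
  have hz : x' * L.z = L.z * x' := by
    have h := mem_centralizer_singleton_iff.1 hxb
    calc x' * L.z = n⁻¹ * (x * (n * L.z * n⁻¹)) * n := by rw [hx']; group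
      _ = n⁻¹ * ((n * L.z * n⁻¹) * x) * n := by rw [h]
      _ = L.z * x' := by rw [hx']; group
  have ha'1 : a' ≠ 1 := fun e => ha1 (by
    calc a = n * a' * n⁻¹ := by rw [ha']; group
      _ = 1 := by rw [e]; group)
  set Cz := centralizer ({L.z, a'} : Set G) with hCz
  have hnil := Lc.nilV a' ha'V ha'1 hne
  have hxC : ∀ {y : G}, y * L.z = L.z * y → y * a' = a' * y → y ∈ Cz := fun h1 h2 =>
    mem_centralizer_iff.2 (by rintro _ (rfl | rfl); exacts [h1.symm, h2.symm])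
  have hD : ∀ {y : G}, y ∈ Cz → Odd (orderOf y) → y ∈ SylJ2.core Cz := fun {y} hy ho =>
    ⟨⟨y, hy⟩, hnil _ (by rwa [Subgroup.orderOf_mk]), rfl⟩
  obtain ⟨o, ho, m, hm, hmz, he⟩ := L.cover_V F Lc hx hz
  have hxa' := mem_centralizer_singleton_iff.1 (SylJ2.theta_le _ hx'a)
  have hma : m * a' = a' * m := by
    have h1 : m * a' * m⁻¹ ∈ L.V := (mem_normalizer_iff.1 hm a').1 ha'V
    set a'' := m * a' * m⁻¹ with ha''
    have h2 : a' = o * a'' * o⁻¹ := by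
      calc a' = x' * a' * x'⁻¹ := by rw [hxa', mul_inv_cancel_right]
        _ = o * a'' * o⁻¹ := by rw [he, ha'']; group
    have h3 : a' * a''⁻¹ ∈ theta L.z := by
      rw [h2, show o * a'' * o⁻¹ * a''⁻¹ = o * (a'' * o⁻¹ * a''⁻¹) by group]
      exact mul_mem ho (SylJ2.core_conj (mem_centralizer_singleton_iff.2 (L.comm_V h1 L.z_mem_V)) (inv_mem ho))
    have h4 := sq_eq_one_of_odd (SylJ2.core_odd _) L.S.2 h3
      (L.sub_le _ (mul_mem ha'V (inv_mem h1)) : a' * a''⁻¹ ∈ (L.S : Subgroup G))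
    rw [mul_inv_eq_one, ha''] at h4
    exact (mul_inv_eq_iff_eq_mul.1 h4.symm)
  have hoa : o * a' = a' * o := by
    rw [show o = x' * m⁻¹ by rw [he]; group]
    exact ((show Commute x' a' from hxa').mul_left (show Commute m a' from hma).inv_left).eq
  have hoC : o ∈ Cz := hxC (mem_centralizer_singleton_iff.1 (SylJ2.theta_le _ ho)) hoa
  have hmD : m ∈ SylJ2.core Cz := by
    have h1 := hD (hxC hz hxa') (SylJ2.odd_orderOf (SylJ2.core_odd _) hx'a)
    have h2 := hD hoC (SylJ2.odd_orderOf (SylJ2.core_odd _) ho)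
    have := mul_mem (inv_mem h2) h1
    rwa [he, inv_mul_cancel_left] at this
  have hmV : m ∈ centralizer (L.V : Set G) := mem_centralizer_iff.2 fun v hv => by
    have hvC : v ∈ Cz := hxC (L.comm_V hv L.z_mem_V) (L.comm_V hv ha'V)
    have h1 : v * m * v⁻¹ * m⁻¹ ∈ SylJ2.core Cz := mul_mem (SylJ2.core_conj hvC hmD) (inv_mem hmD)
    have h2 : v * m * v⁻¹ * m⁻¹ ∈ L.V := by
      rw [show v * m * v⁻¹ * m⁻¹ = v * (m * v⁻¹ * m⁻¹) by group]
      exact mul_mem hv ((mem_normalizer_iff.1 hm _).1 (inv_mem hv))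
    have h3 := sq_eq_one_of_odd (SylJ2.core_odd _) L.S.2 h1 (L.sub_le _ h2)
    exact mul_inv_eq_iff_eq_mul.1 (mul_inv_eq_one.1 h3)
  set N := normalizer (L.V : Set G) ⊓ centralizer ({L.z} : Set G) with hN
  set D := SylJ2.core (centralizer (L.V : Set G)) with hDdef
  have hVle : centralizer (L.V : Set G) ≤ Cz := fun y hy => hxC
    (mem_centralizer_iff.1 hy _ L.z_mem_V).symm (mem_centralizer_iff.1 hy _ ha'V).symm
  have hmD' : m ∈ D := ⟨⟨m, hmV⟩, hnil.of_le hVle _ (by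
    rw [Subgroup.orderOf_mk]; exact SylJ2.odd_orderOf (SylJ2.core_odd _) hmD), rfl⟩
  have hDN : D ≤ N := fun y hy => by
    have hyV : y ∈ centralizer (L.V : Set G) := SylJ2.core_le _ hy
    refine ⟨Invol.mem_normalizer_of_conj_le ?_, mem_centralizer_singleton_iff.2
      (mem_centralizer_iff.1 hyV _ L.z_mem_V).symm⟩
    rintro _ ⟨v, hv, rfl⟩
    show y * v * y⁻¹ ∈ L.V
    rwa [← mem_centralizer_iff.1 hyV v hv, mul_inv_cancel_right]
  have hcore : m ∈ SylJ2.core N := by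
    refine SylJ2.le_core hDN (SylJ2.core_odd _) (fun k hk y hy => ?_) hmD'
    refine SylJ2.le_core (K := centralizer (L.V : Set G)) (D := D.map (MulAut.conj k).toMonoidHom) ?_ ?_ ?_
      ⟨y, hy, rfl⟩
    · rintro _ ⟨w, hw, rfl⟩
      refine mem_centralizer_iff.2 fun v hv => ?_
      have hv' := (mem_normalizer_iff.1 (inv_mem hk.1) v).1 hv
      rw [inv_inv] at hv'
      have h1 := mem_centralizer_iff.1 (SylJ2.core_le _ hw) _ hv'
      show v * (k * w * k⁻¹) = k * w * k⁻¹ * v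
      calc v * (k * w * k⁻¹) = k * ((k⁻¹ * v * k) * w) * k⁻¹ := by group
        _ = k * (w * (k⁻¹ * v * k)) * k⁻¹ := by rw [h1]
        _ = k * w * k⁻¹ * v := by group
    · rw [card_map_of_injective (MulAut.conj k).injective]
      exact SylJ2.core_odd _
    · intro c hc _ hw
      obtain ⟨w, hw, rfl⟩ := hw
      refine ⟨k⁻¹ * c * k * w * (k⁻¹ * c * k)⁻¹, SylJ2.core_conj (mem_centralizer_iff.2 fun v hv => ?_) hw,
        show k * _ * k⁻¹ = c * (k * w * k⁻¹) * c⁻¹ by group⟩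
      have hv' := (mem_normalizer_iff.1 hk.1 v).1 hv
      have h1 := mem_centralizer_iff.1 hc _ hv'
      calc v * (k⁻¹ * c * k) = k⁻¹ * (k * v * k⁻¹ * c) * k := by group
        _ = k⁻¹ * (c * (k * v * k⁻¹)) * k := by rw [h1]
        _ = k⁻¹ * c * k * v := by group
  obtain ⟨b', hb', rfl⟩ := hcore
  set C := centralizer ({L.z} : Set G)
  set π := (QuotientGroup.mk' (Cfsg.oddCore C)).comp (inclusion (inf_le_right : N ≤ C)) with hπ
  have hπs : Function.Surjective π := by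
    intro q
    obtain ⟨c, rfl⟩ := QuotientGroup.mk'_surjective _ q
    obtain ⟨o, ⟨o', ho', rfl⟩, k, hk, hkz, he⟩ := L.cover_V F Lc hx (mem_centralizer_singleton_iff.1 c.2)
    refine ⟨⟨k, hk, mem_centralizer_singleton_iff.2 hkz⟩, ?_⟩
    rw [show c = o' * inclusion (inf_le_right : N ≤ C) ⟨k, hk, mem_centralizer_singleton_iff.2 hkz⟩ from
      Subtype.ext he, map_mul,
      (show QuotientGroup.mk' (Cfsg.oddCore C) o' = 1 from (QuotientGroup.eq_one_iff o').2 ho'), one_mul]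
    rfl
  have h1 := Core.map_pPrimeCore_le_of_surjective (p := 2) hπs ⟨b', hb', rfl⟩
  rw [Core.pPrimeCore_quotient_eq_bot, mem_bot] at h1
  rw [he]
  exact mul_mem ho ⟨inclusion inf_le_right b', (QuotientGroup.eq_one_iff _).1 h1, rfl⟩

theorem closed_G : Closed L.S L.V := by
  haveI : Fact (Nat.Prime 2) := ⟨Nat.prime_two⟩
  refine ⟨L.sub_le _, fun a ha b hb => L.comm_V ha hb, fun a ha => L.sq_V ha,
    by rw [Syl.V, L.card_sub, card_mV]; norm_num, fun v hv g hg => ?_, ?_, ?_, ?_, ?_⟩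
  · rcases eq_or_ne v 1 with rfl | h1
    · rw [mul_one, mul_inv_cancel]; exact one_mem _
    refine L.zc_mem_V F Lc hx hg ?_ ((F.zV v hv h1).trans (isConj_iff.2 ⟨g, rfl⟩))
    rw [show g * v * g⁻¹ * (g * v * g⁻¹) = g * (v * v) * g⁻¹ by group, L.sq_V hv, mul_one, mul_inv_cancel]
  · intro x hxV hx1 c hc
    obtain ⟨n, hn, rfl⟩ := L.exists_to F hxV hx1
    have hnV := L.normalizer_A hn
    obtain ⟨o, ho, m, hm, -, he⟩ := L.cover_V F Lc hx (g := n⁻¹ * c * n) (by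
      calc n⁻¹ * c * n * L.z = n⁻¹ * (c * (n * L.z * n⁻¹)) * n := by group
        _ = n⁻¹ * (n * L.z * n⁻¹ * c) * n := by rw [hc]
        _ = L.z * (n⁻¹ * c * n) := by group)
    refine ⟨n * o * n⁻¹, SylJ2.theta_conj ho, n * m * n⁻¹, mul_mem (mul_mem hnV hm) (inv_mem hnV), ?_⟩
    calc c = n * (n⁻¹ * c * n) * n⁻¹ := by group
      _ = n * o * n⁻¹ * (n * m * n⁻¹) := by rw [he]; group
  · exact (S0217.result (p := 2) L.V (fun a ha b hb => L.comm_V ha hb) (fun a ha => by rw [pow_two, L.sq_V ha])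
      (by rw [Syl.V, L.card_sub, card_mV]; norm_num) theta
      (fun a _ _ => SylJ2.theta_le a) (fun a _ _ => SylJ2.core_odd _)
      (fun a ha _ b hb x hx => SylJ2.core_conj (mem_centralizer_singleton_iff.2 (L.comm_V hb ha)) hx)
      (fun a _ _ => S0205.result (Nat.odd_iff.2 (Nat.two_dvd_ne_zero.1 (SylJ2.core_odd _))))
      (fun a ha ha1 b hb hb1 => L.balance_V F Lc hx ha ha1 hb hb1)).1
  · intro u hu huV hu2
    obtain ⟨c, hc, rfl⟩ := (L.range u).1 hu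
    have hcV : inM mV c = false := by
      rw [← Bool.not_eq_true]
      exact fun h => huV ⟨c, hc, h, rfl⟩
    obtain ⟨⟨a, ha, b, hb, a1, a2, a3, b1, b2, b3, b4⟩, v, hv, v1, v2, v3, v4, w0, hw0, w1, w2⟩ :=
      (v_spec hc).2.2.2.2.2 ((L.sq_iff hc (by norm_num)).2 (by rw [hu2, L.φ_zero])) hcV
    refine ⟨⟨L.φ a, ⟨a, ha, a1, rfl⟩, L.φ b, ⟨b, hb, b1, rfl⟩, fun e => a2 ((L.one_iff ha).1 e),
      fun e => b2 ((L.one_iff hb).1 e), fun e => b3 ((L.eq_iff hb ha).1 e.symm), (L.cm_iff hc ha).1 a3,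
      (L.cm_iff hc hb).1 b4⟩, L.φ v, ⟨v, hv, v1, rfl⟩, fun e => v2 ((L.one_iff hv).1 e), (L.cm_iff hc hv).1 v3,
      fun n hn w hw _ hnw => ?_⟩
    set y := n * L.φ w0 * n⁻¹ with hy
    have hyV : y ∈ L.V := (mem_normalizer_iff.1 hn _).1 ⟨w0, hw0, w1, rfl⟩
    have hcom : L.φ c * L.φ w0 * (L.φ c)⁻¹ * (L.φ w0)⁻¹ = L.φ v := by rw [L.φ_com hc hw0, w2]
    obtain ⟨yc, hyc, hycV, hye⟩ := hyV
    have hval : n * L.φ v * n⁻¹ = L.φ c * y * (L.φ c)⁻¹ * y⁻¹ := by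
      have hu' : L.φ c * y * (L.φ c)⁻¹ ∈ L.V := by
        rw [← hye, L.φ_cj hc hyc]
        have h := v4 yc hyc hycV
        have e := L.φ_com hc hyc
        rw [L.φ_cj hc hyc] at e
        have : L.φ (cjN c yc) = L.φ (comN c yc) * L.φ yc := by rw [← e, inv_mul_cancel_right]
        rw [this]
        refine mul_mem ?_ ⟨yc, hyc, hycV, rfl⟩
        rcases h with h | h <;> rw [h]
        · rw [L.φ_zero]; exact one_mem _
        · exact ⟨v, hv, v1, rfl⟩
      calc n * L.φ v * n⁻¹ = (n * L.φ c * n⁻¹) * y * (n * L.φ c * n⁻¹)⁻¹ * y⁻¹ := by rw [← hcom, hy]; group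
        _ = w * (L.φ c * y * (L.φ c)⁻¹) * w⁻¹ * y⁻¹ := by rw [hnw]; group
        _ = _ := by rw [← mem_centralizer_iff.1 hw _ hu', mul_inv_cancel_right]
    rw [hval, ← hye, L.φ_com hc hyc]
    rcases v4 yc hyc hycV with h | h
    · refine absurd ?_ v2
      rw [← hye, L.φ_com hc hyc, h, L.φ_zero, conj_eq_one_iff] at hval
      exact (L.one_iff hv).1 hval
    · rw [h]
  · exact ⟨L.q, L.mem (by norm_num), fun h => by
      rw [Syl.V, Syl.q, L.mem_sub _ (by norm_num), q_codes.2] at h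
      exact Bool.noConfusion h, by rw [Syl.q, L.mul 339 (by norm_num) 339 (by norm_num), q_codes.1, L.φ_zero]⟩

omit hx in
/-- the involution `x8` is conjugate to `z` -/
theorem no_caseA [IsSimpleGroup G] : L.Zc L.x8 := by
  haveI : Fact (Nat.Prime 2) := ⟨Nat.prime_two⟩
  by_contra hx
  have hcl := L.closed_G F Lc hx
  have hz2 : orderOf L.z = 2 := orderOf_eq_prime (by rw [pow_two]; exact L.root.z_sq) L.root.z_ne
  rcases (inferInstance : (Cfsg.oddCore G).Normal).eq_bot_or_eq_top with h | h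
  swap
  · have h1 := card_oddCore (H := G)
    rw [h, card_top] at h1
    exact absurd (h1.of_dvd_nat (orderOf_dvd_natCard L.z)) (by rw [hz2]; decide)
  haveI : L.V.Normal := normalizer_eq_top_iff.1 (eq_top_iff.2 fun g _ => by
    obtain ⟨o, ho, n, hn, rfl⟩ := hcl.main g
    rw [h, mem_bot] at ho
    rwa [ho, one_mul])
  rcases (inferInstance : L.V.Normal).eq_bot_or_eq_top with h | h
  · exact L.root.z_ne (mem_bot.1 (h ▸ L.z_mem_V))
  · have h1 : Nat.card (L.S : Subgroup G) ≤ Nat.card L.V := by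
      rw [h]
      exact Subgroup.card_le_of_le le_top
    rw [L.card_S, Syl.V, L.card_sub, card_mV] at h1
    norm_num at h1

end Syl

end Cfsg.Agent.HSSylow
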