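import Cfsg.Agent.HSSylow.Full
import Cfsg.Agent.HSSylow.CaseA
import Cfsg.Agent.SylJ2.Generic
import Cfsg.Agent.FTCons.Basic

/-!
The odd core of `C(z)` is trivial: the cores on `V` are balanced, the normalizer of their join contains `C(z)` and
`N(A)`, hence is the whole group.
-/

set_option autoImplicit false
set_option maxRecDepth 100000
set_option linter.unusedSectionVars false
set_option linter.style.haveILetI false

namespace Cfsg.Agent.HSSylow

open Subgroup
open Cfsg.Agent.SylJ2 (theta)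

theorem core_facts : ((allN fun s => !(isInv s) || anyN fun a => inM mV a && !(a == 0) && cm s a &&
      anyN fun b => inM mV b && !(b == 0) && !(b == a) && cm s b) &&
    (allN fun a => !inM mV a || inM mR a) &&
    (allN fun a => !inM mR a || mulN (mulN (mulN a a) (mulN a a)) (mulN (mulN a a) (mulN a a)) == 0)) = true := by
  decide +kernel

namespace Syl

variable {G : Type*} [Group G] [Finite G] (L : Syl G)

theorem mem_R_of_mem_V {v : G} (hv : v ∈ L.V) : v ∈ L.R := by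
  obtain ⟨c, hc, hm, rfl⟩ := hv
  have h := core_facts
  simp only [Bool.and_eq_true] at h
  have h' := allN_spec h.1.2 hc
  simp only [hm, Bool.not_true, Bool.false_or] at h'
  exact (L.mem_sub closed_mR hc).2 h'

theorem R_pow_eight {r : G} (hr : r ∈ L.R) : r ^ 8 = 1 := by
  obtain ⟨c, hc, hm, rfl⟩ := hr
  have h := core_facts
  simp only [Bool.and_eq_true] at h
  have h' := allN_spec h.2 hc
  simp only [hm, Bool.not_true, Bool.false_or, beq_iff_eq] at h'
  have h2 := lt hc hc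
  have h4 := lt h2 h2
  calc L.φ c ^ 8 = L.φ c * L.φ c * (L.φ c * L.φ c) * (L.φ c * L.φ c * (L.φ c * L.φ c)) := by
        simp only [pow_succ, pow_zero, one_mul, mul_assoc]
    _ = 1 := by rw [L.mul c hc c hc, L.mul _ h2 _ h2, L.mul _ h4 _ h4, h', L.φ_zero]

theorem mem_R_comm_i {r : G} (hr : r ∈ L.R) : r * L.i = L.i * r := (L.el closed_mR el_mR).1 r hr

theorem z_mem_R : L.z ∈ L.R := L.mem_R_of_mem_V L.z_mem_V

theorem R_comm_z {r : G} (hr : r ∈ L.R) : r * L.z = L.z * r := (L.z_comm (L.sub_le _ hr)).symm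

/-- Two elements of `C(z)` differing by the core. -/
theorem eq_one_of_core {x e : centralizer ({L.z} : Set G)} (hx : (x : G) ∈ L.R) (he : Odd (orderOf e))
    (h : QuotientGroup.mk' (Cfsg.oddCore (centralizer ({L.z} : Set G))) x = QuotientGroup.mk' _ e) : x = 1 := by
  have h8 : x ^ 2 ^ 3 = 1 := Subtype.ext (by rw [SubmonoidClass.coe_pow]; exact L.R_pow_eight hx)
  have h1 : orderOf (QuotientGroup.mk' (Cfsg.oddCore (centralizer ({L.z} : Set G))) x) ∣ 2 ^ 3 :=
    orderOf_dvd_of_pow_eq_one (by rw [← map_pow, h8, map_one])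
  have h2 : Odd (orderOf (QuotientGroup.mk' (Cfsg.oddCore (centralizer ({L.z} : Set G))) x)) := by
    rw [h]
    exact he.of_dvd_nat (orderOf_map_dvd _ _)
  have h3 := Nat.eq_one_of_dvd_coprimes (((Nat.coprime_two_left.2 h2).pow_left 3)) h1 dvd_rfl
  have h4 := (QuotientGroup.eq_one_iff x).1 (orderOf_eq_one_iff.1 h3)
  refine Subtype.ext (Syl.sq_eq_one_of_odd (D := theta L.z) (SylJ2.core_odd _) L.S.2 ⟨x, h4, rfl⟩ (L.sub_le _ hx))

theorem normalizer_cent_R {k : G} (hk : k ∈ normalizer (L.R : Set G)) :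
    k ∈ normalizer ((centralizer (L.R : Set G) : Subgroup G) : Set G) := by
  refine Invol.mem_normalizer_of_conj_le ?_
  rintro _ ⟨y, hy, rfl⟩
  refine mem_centralizer_iff.2 fun v hv => ?_
  have hv' := (mem_normalizer_iff.1 (inv_mem hk) v).1 hv
  rw [inv_inv] at hv'
  have h1 := mem_centralizer_iff.1 hy _ hv'
  show v * (k * y * k⁻¹) = k * y * k⁻¹ * v
  calc v * (k * y * k⁻¹) = k * ((k⁻¹ * v * k) * y) * k⁻¹ := by group
    _ = k * (y * (k⁻¹ * v * k)) * k⁻¹ := by rw [h1]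
    _ = k * y * k⁻¹ * v := by group

variable (F : L.Fus) (Lc : L.Loc) (hx : L.Zc L.x8)
include F Lc hx

/-- Elements of odd order centralizing `R` lie in the core of `C(z)`. -/
theorem cent_R_odd {y : G} (hy : y ∈ centralizer (L.R : Set G)) (hyo : Odd (orderOf y)) : y ∈ theta L.z := by
  set CR := centralizer (L.R : Set G) with hCR
  set C := centralizer ({L.z} : Set G) with hC
  have hle : CR ≤ centralizer ({L.z, L.a} : Set G) := centralizer_le (by
    rintro w (rfl | rfl)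
    exacts [L.z_mem_R, L.mem_R_of_mem_V ⟨34, by norm_num, mV_codes.2.1, rfl⟩])
  have hnil : TwoNil ↥(centralizer ({L.z, L.a} : Set G)) := Lc.nilV L.a ⟨34, by norm_num, mV_codes.2.1, rfl⟩
    (fun e => by have := (L.one_iff (a := 34) (by norm_num)).1 e; norm_num at this)
    (fun e => by have := (L.eq_iff (a := 34) (b := 10) (by norm_num) (by norm_num)).1 e; norm_num at this)
  have hy' : y ∈ SylJ2.core CR := ⟨⟨y, hy⟩, hnil.of_le hle _ (by rwa [Subgroup.orderOf_mk]), rfl⟩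
  set N := normalizer (L.R : Set G) ⊓ C
  have hCRC : CR ≤ C := hle.trans (centralizer_le (by simp))
  have hRN : CR ≤ N := fun c hc => ⟨Invol.mem_normalizer_of_conj_le (by
    rintro _ ⟨v, hv, rfl⟩
    show c * v * c⁻¹ ∈ L.R
    rwa [← mem_centralizer_iff.1 hc v hv, mul_inv_cancel_right]), hCRC hc⟩
  have hcore : y ∈ SylJ2.core N := SylJ2.le_core ((SylJ2.core_le _).trans hRN) (SylJ2.core_odd _)
    (fun k hk c hc => SylJ2.core_stable (L.normalizer_cent_R hk.1) hc) hy'
  obtain ⟨y', hy'', rfl⟩ := hcore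
  set π := (QuotientGroup.mk' (Cfsg.oddCore C)).comp (inclusion (inf_le_right : N ≤ C)) with hπ
  have hπs : Function.Surjective π := by
    intro q
    obtain ⟨c, rfl⟩ := QuotientGroup.mk'_surjective _ q
    obtain ⟨o, ⟨o', ho', rfl⟩, k, hk, hkz, -, he⟩ := L.cent_cover F Lc hx (mem_centralizer_singleton_iff.1 c.2)
    refine ⟨⟨k, hk, mem_centralizer_singleton_iff.2 hkz⟩, ?_⟩
    rw [show c = o' * inclusion (inf_le_right : N ≤ C) ⟨k, hk, mem_centralizer_singleton_iff.2 hkz⟩ from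
      Subtype.ext he, map_mul,
      (show QuotientGroup.mk' (Cfsg.oddCore C) o' = 1 from (QuotientGroup.eq_one_iff o').2 ho'), one_mul]
    rfl
  have h1 := Core.map_pPrimeCore_le_of_surjective (p := 2) hπs ⟨y', hy'', rfl⟩
  rw [Core.pPrimeCore_quotient_eq_bot, mem_bot] at h1
  exact ⟨inclusion inf_le_right y', (QuotientGroup.eq_one_iff _).1 h1, rfl⟩

/-- Elements of odd order centralizing `z` and an involution of `R` lie in the core of `C(z)`. -/
theorem pair_odd {v : G} (hv : v ∈ L.R) (h2 : v * v = 1) (h1 : v ≠ 1) (hz : v ≠ L.z) {d : G}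
    (hdz : d * L.z = L.z * d) (hdv : d * v = v * d) (hdo : Odd (orderOf d)) : d ∈ theta L.z := by
  set C := centralizer ({L.z} : Set G) with hC
  set Cz := centralizer ({L.z, v} : Set G) with hCz
  set π := QuotientGroup.mk' (Cfsg.oddCore C) with hπ
  obtain ⟨o, ho, n, hn, hnz, hni, he⟩ := L.cent_cover F Lc hx hdz
  obtain ⟨o', ho', hoe⟩ := ho
  set dC : C := ⟨d, mem_centralizer_singleton_iff.2 hdz⟩
  set nC : C := ⟨n, mem_centralizer_singleton_iff.2 hnz⟩
  have hdn : π dC = π nC := by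
    rw [show dC = o' * nC from Subtype.ext (by show d = (o' : G) * n; rw [he, ← hoe]; rfl), map_mul,
      (show π o' = 1 from (QuotientGroup.eq_one_iff o').2 ho'), one_mul]
  have hmem : ∀ {y : G}, y * L.z = L.z * y → y * v = v * y → y ∈ Cz := fun h1 h2 =>
    mem_centralizer_iff.2 (by rintro _ (rfl | rfl); exacts [h1.symm, h2.symm])
  have hD : d ∈ SylJ2.core Cz :=
    ⟨⟨d, hmem hdz hdv⟩, Lc.nilR hx v hv h2 h1 hz _ (by rwa [Subgroup.orderOf_mk]), rfl⟩
  have hcent : ∀ r ∈ L.R, r * v = v * r → n * r = r * n := by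
    intro r hr hrv
    have hrz := L.R_comm_z hr
    set rC : C := ⟨r, mem_centralizer_singleton_iff.2 hrz⟩
    have hx1 : ((nC * rC * nC⁻¹ * rC⁻¹ : C) : G) ∈ L.R :=
      mul_mem ((mem_normalizer_iff.1 hn r).1 hr) (inv_mem hr)
    have hde : d * r * d⁻¹ * r⁻¹ ∈ SylJ2.core Cz := by
      rw [show d * r * d⁻¹ * r⁻¹ = d * (r * d⁻¹ * r⁻¹) by group]
      exact mul_mem hD (SylJ2.core_conj (hmem hrz hrv) (inv_mem hD))
    have h := L.eq_one_of_core hx1 (e := dC * rC * dC⁻¹ * rC⁻¹) (by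
      rw [← orderOf_injective C.subtype C.subtype_injective]
      exact SylJ2.odd_orderOf (SylJ2.core_odd _) hde) (by
      simp only [map_mul, map_inv]
      rw [show QuotientGroup.mk' (Cfsg.oddCore C) dC = QuotientGroup.mk' (Cfsg.oddCore C) nC from hdn])
    have h' : n * r * n⁻¹ * r⁻¹ = 1 := congrArg Subtype.val h
    exact mul_inv_eq_iff_eq_mul.1 (mul_inv_eq_one.1 h')
  have hnv := hcent v hv rfl
  have hni' : n * L.i = L.i * n :=
    hcent _ ⟨37, by norm_num, by decide +kernel, rfl⟩ (L.mem_R_comm_i hv).symm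
  have hn8 : n ^ 8 ∈ centralizer (L.R : Set G) := by
    refine mem_centralizer_iff.2 fun r hr => ?_
    set f := n * r * n⁻¹ * r⁻¹ with hf
    have hfR : f ∈ L.R := mul_mem ((mem_normalizer_iff.1 hn r).1 hr) (inv_mem hr)
    set c := r⁻¹ * v * r with hc
    have hcR : c ∈ L.R := mul_mem (mul_mem (inv_mem hr) hv) hr
    have hcv : c * v = v * c := by
      have h := (L.el closed_mR el_mR).2.2 _ (inv_mem hr) v hv
      rw [inv_inv] at h
      have hk : ∀ k ∈ zpowers L.i, k * v = v * k := fun k hk => by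
        obtain ⟨l, rfl⟩ := mem_zpowers_iff.1 hk
        exact ((show Commute v L.i from L.mem_R_comm_i hv).zpow_right l).eq.symm
      have h' := hk _ h
      calc c * v = r⁻¹ * v * r * v⁻¹ * v * v := by rw [hc]; group
        _ = r⁻¹ * v * r * v⁻¹ * v * v := rfl
        _ = (r⁻¹ * v * r * v⁻¹ * v) * v := rfl
        _ = (v * (r⁻¹ * v * r * v⁻¹)) * v := by rw [h']
        _ = v * c := by rw [hc]; group
    have hnc : n * c * n⁻¹ = c := by rw [hcent c hcR hcv, mul_inv_cancel_right]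
    have hfv : f * v = v * f := by
      have e1 : v = (n * r * n⁻¹) * c * (n * r * n⁻¹)⁻¹ := by
        calc v = n * v * n⁻¹ := by rw [hnv, mul_inv_cancel_right]
          _ = (n * r * n⁻¹) * (n * c * n⁻¹) * (n * r * n⁻¹)⁻¹ := by rw [hc]; group
          _ = _ := by rw [hnc]
      refine mul_inv_eq_iff_eq_mul.1 ?_
      conv_rhs => rw [e1]
      rw [hf, hc]
      group
    have hnf := hcent f hfR hfv
    have hk : ∀ k : ℕ, n ^ k * r = f ^ k * r * n ^ k := by
      intro k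
      induction k with
      | zero => simp
      | succ k ih =>
        calc n ^ (k + 1) * r = n * (n ^ k * r) := by rw [pow_succ']; group
          _ = n * (f ^ k * r * n ^ k) := by rw [ih]
          _ = (n * f ^ k) * r * n ^ k := by group
          _ = (f ^ k * n) * r * n ^ k := by rw [((show Commute n f from hnf).pow_right k).eq]
          _ = f ^ k * (n * r * n⁻¹ * r⁻¹) * r * (n * n ^ k) := by group
          _ = _ := by rw [← hf, pow_succ, pow_succ']
    rw [hk 8, L.R_pow_eight hfR, one_mul]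
  obtain ⟨m, hm⟩ := exists_odd_part (n ^ 8)
  obtain ⟨e, he', hee⟩ := L.cent_R_odd F Lc hx (pow_mem hn8 _) hm
  have h : (π dC) ^ (8 * 2 ^ m) = 1 := by
    rw [hdn, ← map_pow]
    refine (QuotientGroup.eq_one_iff _).2 ?_
    rwa [show nC ^ (8 * 2 ^ m) = e from Subtype.ext (by
      show n ^ (8 * 2 ^ m) = (e : G)
      rw [pow_mul]
      exact hee.symm)]
  have hd1 : π dC = 1 := mem_bot.1 (mem_of_pow_two (D := ⊥) (m := 3 + m)
    ((show Odd (orderOf dC) by rwa [Subgroup.orderOf_mk]).of_dvd_nat (orderOf_map_dvd π dC))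
    (by rw [pow_add, show (2 : ℕ) ^ 3 = 8 by norm_num, h]; exact one_mem _))
  exact ⟨dC, (QuotientGroup.eq_one_iff dC).1 hd1, rfl⟩

/-- An odd subgroup of `C(z)` normalized by an involution of `R` lies in the core. -/
theorem odd_norm {D : Subgroup G} (hDz : D ≤ centralizer ({L.z} : Set G)) (hD : ¬ 2 ∣ Nat.card D) {v : G}
    (hv : v ∈ L.R) (h2 : v * v = 1) (h1 : v ≠ 1) (hz : v ≠ L.z) (hn : v ∈ normalizer (D : Set G)) :
    D ≤ theta L.z := by
  intro d hd
  set C := centralizer ({L.z} : Set G) with hC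
  set π := QuotientGroup.mk' (Cfsg.oddCore C) with hπ
  have hdz := mem_centralizer_singleton_iff.1 (hDz hd)
  obtain ⟨o, ho, n, hnR, hnz, -, he⟩ := L.cent_cover F Lc hx hdz
  obtain ⟨o', ho', hoe⟩ := ho
  set dC : C := ⟨d, hDz hd⟩
  set nC : C := ⟨n, mem_centralizer_singleton_iff.2 hnz⟩
  set vC : C := ⟨v, mem_centralizer_singleton_iff.2 (L.R_comm_z hv)⟩
  have hdn : π dC = π nC := by
    rw [show dC = o' * nC from Subtype.ext (by show d = (o' : G) * n; rw [he, ← hoe]; rfl), map_mul,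
      (show π o' = 1 from (QuotientGroup.eq_one_iff o').2 ho'), one_mul]
  have hde : d * v * d⁻¹ * v⁻¹ ∈ D := by
    rw [show d * v * d⁻¹ * v⁻¹ = d * (v * d⁻¹ * v⁻¹) by group]
    exact mul_mem hd ((mem_normalizer_iff.1 hn _).1 (inv_mem hd))
  have hx1 : ((nC * vC * nC⁻¹ * vC⁻¹ : C) : G) ∈ L.R :=
    mul_mem ((mem_normalizer_iff.1 hnR v).1 hv) (inv_mem hv)
  have h := L.eq_one_of_core hx1 (e := dC * vC * dC⁻¹ * vC⁻¹) (by
    rw [← orderOf_injective C.subtype C.subtype_injective]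
    exact SylJ2.odd_orderOf hD hde) (by
      simp only [map_mul, map_inv]
      rw [show QuotientGroup.mk' (Cfsg.oddCore C) dC = QuotientGroup.mk' (Cfsg.oddCore C) nC from hdn])
  have hnv : n * v = v * n :=
    mul_inv_eq_iff_eq_mul.1 (mul_inv_eq_one.1 (congrArg Subtype.val h : n * v * n⁻¹ * v⁻¹ = 1))
  obtain ⟨m, hm⟩ := exists_odd_part n
  obtain ⟨e, he', hee⟩ := L.pair_odd F Lc hx hv h2 h1 hz
    ((show Commute n L.z from hnz).pow_left _).eq ((show Commute n v from hnv).pow_left _).eq hm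
  have hd1 : π dC = 1 := mem_bot.1 (mem_of_pow_two (D := ⊥) (m := m)
    ((show Odd (orderOf dC) by rw [Subgroup.orderOf_mk]; exact SylJ2.odd_orderOf hD hd).of_dvd_nat (orderOf_map_dvd π dC))
    (by
      rw [hdn, ← map_pow, show nC ^ 2 ^ m = e from Subtype.ext hee.symm,
        show π e = 1 from (QuotientGroup.eq_one_iff e).2 he']
      exact one_mem _))
  exact ⟨dC, (QuotientGroup.eq_one_iff dC).1 hd1, rfl⟩

theorem four_cent {w : G} (hw : w ∈ (L.S : Subgroup G)) (h2 : w * w = 1) (h1 : w ≠ 1) :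
    ∃ a ∈ L.V, ∃ b ∈ L.V, a ≠ 1 ∧ b ≠ 1 ∧ a ≠ b ∧ w * a = a * w ∧ w * b = b * w := by
  obtain ⟨s, hs, rfl⟩ := (L.range w).1 hw
  have h := core_facts
  simp only [Bool.and_eq_true] at h
  have h' := allN_spec h.1.1 hs
  simp only [(L.inv_iff hs).2 ⟨h2, h1⟩, Bool.not_true, Bool.false_or] at h'
  obtain ⟨a, ha, ha'⟩ := anyN_spec h'
  simp only [Bool.and_eq_true, Bool.not_eq_true', beq_eq_false_iff_ne] at ha'
  obtain ⟨b, hb, hb'⟩ := anyN_spec ha'.2
  simp only [Bool.and_eq_true, Bool.not_eq_true', beq_eq_false_iff_ne] at hb'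
  exact ⟨L.φ a, (L.mem_sub closed_mV ha).2 ha'.1.1.1, L.φ b, (L.mem_sub closed_mV hb).2 hb'.1.1.1,
    fun e => ha'.1.1.2 ((L.one_iff ha).1 e), fun e => hb'.1.1.2 ((L.one_iff hb).1 e),
    fun e => hb'.1.2 (L.inj b hb a ha e.symm), (L.cm_iff hs ha).1 ha'.1.2, (L.cm_iff hs hb).1 hb'.2⟩

/-- Balance at `z`. -/
theorem balance_z {w : G} (hwz : w * L.z = L.z * w) (h2 : w * w = 1) (h1 : w ≠ 1) :
    theta w ⊓ centralizer ({L.z} : Set G) ≤ theta L.z := by
  haveI : Fact (Nat.Prime 2) := ⟨Nat.prime_two⟩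
  obtain ⟨c, hc, hcS⟩ := L.conj_into L.S_le_centz (isPGroup_zpowers h2)
    (zpowers_le.2 (mem_centralizer_singleton_iff.2 hwz))
  set w' := c * w * c⁻¹ with hw'
  obtain ⟨a, ha, b, hb, ha1, hb1, hab, hwa, hwb⟩ := L.four_cent F Lc hx (hcS w (mem_zpowers w))
    (by rw [show c * w * c⁻¹ * (c * w * c⁻¹) = c * (w * w) * c⁻¹ by group, h2, mul_one, mul_inv_cancel])
    (fun e => h1 (conj_eq_one_iff.1 e))
  obtain ⟨v, hv, hv1, hvz, hwv⟩ : ∃ v ∈ L.V, v ≠ 1 ∧ v ≠ L.z ∧ w' * v = v * w' := by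
    by_cases e : a = L.z
    · exact ⟨b, hb, hb1, fun e' => hab (e.trans e'.symm), hwb⟩
    · exact ⟨a, ha, ha1, e, hwa⟩
  rintro x ⟨hxw, hxz⟩
  have hD := L.odd_norm F Lc hx (D := theta w' ⊓ centralizer ({L.z} : Set G)) inf_le_right
    (fun h => SylJ2.core_odd _ (h.trans (card_dvd_of_le inf_le_left))) (L.mem_R_of_mem_V hv) (L.sq_V hv) hv1 hvz
    (Invol.mem_normalizer_of_conj_le (by
      rintro _ ⟨y, hy, rfl⟩
      refine mem_inf.2 ⟨SylJ2.core_conj (mem_centralizer_singleton_iff.2 hwv.symm) (mem_inf.1 hy).1,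
        mem_centralizer_singleton_iff.2 ?_⟩
      exact (((show Commute v L.z from L.comm_V hv L.z_mem_V).mul_left
        (show Commute y L.z from mem_centralizer_singleton_iff.1 (mem_inf.1 hy).2)).mul_left
          (show Commute v L.z from L.comm_V hv L.z_mem_V).inv_left).eq))
    (mem_inf.2 ⟨SylJ2.theta_conj (g := c) hxw, mul_mem (mul_mem hc hxz) (inv_mem hc)⟩)
  have h := SylJ2.core_conj (K := centralizer ({L.z} : Set G)) (k := c⁻¹) (inv_mem hc) hD
  rwa [show c⁻¹ * (c * x * c⁻¹) * c⁻¹⁻¹ = x by group] at h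

/-- Balance at the involutions of `V`. -/
theorem balance_at {a f : G} (ha2 : a * a = 1) (ha1 : a ≠ 1) (hf : f ∈ L.V) (hf1 : f ≠ 1)
    (haf : a * f = f * a) : theta a ⊓ centralizer ({f} : Set G) ≤ theta f := by
  obtain ⟨n, -, rfl⟩ := L.exists_to F hf hf1
  rintro x ⟨hxa, hxf⟩
  have hz : ∀ {y : G}, y * (n * L.z * n⁻¹) = n * L.z * n⁻¹ * y → n⁻¹ * y * n * L.z = L.z * (n⁻¹ * y * n) := by
    intro y h
    calc n⁻¹ * y * n * L.z = n⁻¹ * (y * (n * L.z * n⁻¹)) * n := by group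
      _ = n⁻¹ * (n * L.z * n⁻¹ * y) * n := by rw [h]
      _ = _ := by group
  have h := L.balance_z F Lc hx (w := n⁻¹ * a * n) (hz haf)
    (by rw [show n⁻¹ * a * n * (n⁻¹ * a * n) = n⁻¹ * (a * a) * n by group, ha2, mul_one, inv_mul_cancel])
    (fun e => ha1 (by
      calc a = n * (n⁻¹ * a * n) * n⁻¹ := by group
        _ = 1 := by rw [e, mul_one, mul_inv_cancel]))
    (show n⁻¹ * x * n ∈ _ from mem_inf.2 ⟨by
      have := SylJ2.theta_conj (g := n⁻¹) hxa
      rwa [inv_inv] at this, mem_centralizer_singleton_iff.2 (hz (mem_centralizer_singleton_iff.1 hxf))⟩)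
  have := SylJ2.theta_conj (g := n) h
  rwa [show n * (n⁻¹ * x * n) * n⁻¹ = x by group] at this

/-- The core of `C(z)` is trivial. -/
theorem core_one [IsSimpleGroup G] : theta L.z = ⊥ := by
  haveI : Fact (Nat.Prime 2) := ⟨Nat.prime_two⟩
  set W := ⨆ a : {a : G // a ∈ L.V ∧ a ≠ 1}, theta a.1 with hW
  have hW2 : ¬ 2 ∣ Nat.card W := (S0217.result (p := 2) L.V (fun a ha b hb => L.comm_V ha hb)
      (fun a ha => by rw [pow_two, L.sq_V ha]) (by rw [Syl.V, L.card_sub, card_mV]; norm_num) theta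
      (fun a _ _ => SylJ2.theta_le a) (fun a _ _ => SylJ2.core_odd _)
      (fun a ha _ b hb x hx => SylJ2.core_conj (mem_centralizer_singleton_iff.2 (L.comm_V hb ha)) hx)
      (fun a _ _ => S0205.result (Nat.odd_iff.2 (Nat.two_dvd_ne_zero.1 (SylJ2.core_odd _))))
      (fun a ha ha1 b hb hb1 => L.balance_at F Lc hx (L.sq_V ha) ha1 hb hb1 (L.comm_V ha hb))).1
  have hgen : ∀ w ∈ (L.S : Subgroup G), w * w = 1 → w ≠ 1 → theta w ≤ W := by
    intro w hw h2 h1
    obtain ⟨a, ha, b, hb, ha1, hb1, hab, hwa, hwb⟩ := L.four_cent F Lc hx hw h2 h1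
    have hodd : Odd (Nat.card (theta w)) := Nat.odd_iff.2 (Nat.two_dvd_ne_zero.1 (SylJ2.core_odd _))
    have hnorm : ∀ y, w * y = y * w → y ∈ normalizer ((theta w : Subgroup G) : Set G) := fun y hy =>
      Invol.mem_normalizer_of_conj_le (by
        rintro _ ⟨x, hx', rfl⟩
        exact SylJ2.core_conj (mem_centralizer_singleton_iff.2 hy.symm) hx')
    have hcl : closure ({a, b} : Set G) ≤ L.V := (closure_le _).2 (by simp [Set.insert_subset_iff, ha, hb])
    obtain ⟨k, hk⟩ := (L.S.2.to_le (hcl.trans (L.sub_le _))).exists_card_eq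
    have hf : ∀ f ∈ L.V, f ≠ 1 → w * f = f * w → theta w ⊓ centralizer ({f} : Set G) ≤ W := fun f hf hf1 hwf =>
      (L.balance_at F Lc hx h2 h1 hf hf1 hwf).trans
        (le_iSup (fun c : {a : G // a ∈ L.V ∧ a ≠ 1} => theta c.1) ⟨f, hf, hf1⟩)
    refine Coprime.le_of_centralizers_le (L.comm_V ha hb) (hnorm a hwa) (hnorm b hwb) Nat.prime_two
      (by rw [pow_two, L.sq_V ha]; exact one_mem _) (by rw [pow_two, L.sq_V hb]; exact one_mem _)
      (Nat.coprime_two_left.2 hodd) (by rw [hk]; exact (Nat.coprime_two_left.2 hodd).pow_left k)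
      (hf a ha ha1 hwa) fun i => hf _ (mul_mem (pow_mem ha i) hb) ?_
        (((show Commute w a from hwa).pow_right i).mul_right (show Commute w b from hwb)).eq
    rcases Nat.even_or_odd' i with ⟨j, rfl | rfl⟩
    · rw [pow_mul, pow_two, L.sq_V ha, one_pow, one_mul]
      exact hb1
    · rw [pow_succ, pow_mul, pow_two, L.sq_V ha, one_pow, one_mul]
      exact fun e => hab (by
        rw [← inv_eq_of_mul_eq_one_right e]
        exact (inv_eq_of_mul_eq_one_right (L.sq_V ha)).symm)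
  set M := normalizer (W : Set G) with hM
  have hconj : ∀ g : G, (∀ v ∈ L.V, g * v * g⁻¹ ∈ (L.S : Subgroup G)) → g ∈ M := fun g hg =>
    Invol.mem_normalizer_of_conj_le (by
      rw [hW, Subgroup.map_iSup]
      refine iSup_le fun a => ?_
      rintro _ ⟨c, hc, rfl⟩
      exact hgen _ (hg _ a.2.1) (by
        rw [show g * a.1 * g⁻¹ * (g * a.1 * g⁻¹) = g * (a.1 * a.1) * g⁻¹ by group, L.sq_V a.2.1, mul_one, mul_inv_cancel])
        (fun e => a.2.2 (conj_eq_one_iff.1 e)) (SylJ2.theta_conj hc))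
  have hN : normalizer (L.A : Set G) ≤ M := fun n hn =>
    hconj n fun v hv => L.sub_le _ ((mem_normalizer_iff.1 (L.normalizer_A hn) v).1 hv)
  have hzW : theta L.z ≤ W := le_iSup (fun c : {a : G // a ∈ L.V ∧ a ≠ 1} => theta c.1) ⟨L.z, L.z_mem_V, L.z_ne⟩
  have hC : centralizer ({L.z} : Set G) ≤ M := fun g hg => by
    obtain ⟨o, ho, n, hn, -, -, rfl⟩ := L.cent_cover F Lc hx (mem_centralizer_singleton_iff.1 hg)
    exact mul_mem (le_normalizer (hzW ho))
      (hconj n fun v hv => L.sub_le _ ((mem_normalizer_iff.1 hn v).1 (L.mem_R_of_mem_V hv)))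
  haveI : W.Normal := normalizer_eq_top_iff.1 (L.eq_top hx hC hN)
  rcases (inferInstance : W.Normal).eq_bot_or_eq_top with h | h
  · exact le_bot_iff.1 (h ▸ hzW)
  · exfalso
    refine hW2 ?_
    rw [h, card_top]
    exact (orderOf_eq_prime (by rw [pow_two]; exact L.z_inv) L.z_ne) ▸ orderOf_dvd_natCard L.z

end Syl

end Cfsg.Agent.HSSylow
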