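import Cfsg.Agent.HSSylow.Move

/-!
Counting the conjugates of `z` in the images of centralizers.
-/

set_option autoImplicit false
set_option maxRecDepth 100000
set_option linter.unusedSectionVars false
set_option linter.style.haveILetI false

namespace Cfsg.Agent.HSSylow

/-- The number of codes of a class with a property. -/
def nTyp (P : ℕ → Bool) (k : ℕ) : ℕ := ((List.range 512).filter fun s => P s && (typ s == k)).length

theorem length_split {α : Type*} (l : List α) (f : α → ℕ) (P : α → Bool) (v : ℕ → Bool) (hv : v 9 = false)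
    (hf : ∀ s ∈ l, f s ≤ 9) :
    (l.filter fun s => P s && v (f s)).length =
      ∑ k ∈ Finset.range 9, if v k then (l.filter fun s => P s && (f s == k)).length else 0 := by
  induction l with
  | nil => simp
  | cons a l ih =>
    have ih' := ih fun s hs => hf s (List.mem_cons_of_mem a hs)
    have ha := hf a (List.mem_cons_self ..)
    have key : ∀ k, ((a :: l).filter fun s => P s && (f s == k)).length =
        (l.filter fun s => P s && (f s == k)).length + if P a && (f a == k) then 1 else 0 := fun k => by
      by_cases h : (P a && (f a == k)) = true <;> simp [List.filter_cons, h]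
    have hsum : (∑ k ∈ Finset.range 9, if v k then ((a :: l).filter fun s => P s && (f s == k)).length else 0) =
        (∑ k ∈ Finset.range 9, if v k then (l.filter fun s => P s && (f s == k)).length else 0) +
          ∑ k ∈ Finset.range 9, if f a = k then (if (P a && v (f a)) = true then 1 else 0) else 0 := by
      rw [← Finset.sum_add_distrib]
      refine Finset.sum_congr rfl fun k _ => ?_
      rw [key]
      by_cases hk : f a = k
      · subst hk
        cases hp : P a <;> cases hv' : v (f a) <;> simp
      · simp [hk]
    rw [hsum, ← ih', Finset.sum_ite_eq]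
    by_cases h9 : f a = 9
    · simp [List.filter_cons, h9, hv]
    · have : f a ∈ Finset.range 9 := Finset.mem_range.2 (by omega)
      by_cases h : (P a && v (f a)) = true <;> simp [List.filter_cons, this, h]

theorem typ_le {s : ℕ} (hs : s < 512) : typ s ≤ 9 := by
  have h := allN_spec typ_spec hs
  by_cases hi : isInv s = true
  · simp [hi] at h
    omega
  · simp [hi] at h
    omega

namespace Syl

variable {G : Type*} [Group G] [Finite G] (L : Syl G)

/-- Whether the representative of a class is conjugate to `z`. -/
noncomputable def zv (k : ℕ) : Bool := @decide (k < 9 ∧ L.Zc (L.φ (rep k))) (Classical.propDecidable _)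

theorem zv_iff {k : ℕ} : L.zv k = true ↔ k < 9 ∧ L.Zc (L.φ (rep k)) := by simp [zv]

theorem zv_nine : L.zv 9 = false := by simp [zv]

theorem zv_zero : L.zv 0 = true := L.zv_iff.2 ⟨by norm_num, IsConj.refl _⟩

theorem Zc_invol {x : G} (h : L.Zc x) : x * x = 1 ∧ x ≠ 1 := by
  obtain ⟨g, rfl⟩ := isConj_iff.1 h
  refine ⟨?_, fun e => L.z_ne (conj_eq_one_iff.1 e)⟩
  rw [show g * L.z * g⁻¹ * (g * L.z * g⁻¹) = g * (L.z * L.z) * g⁻¹ by group, L.z_inv, mul_one, mul_inv_cancel]

/-- Conjugacy to `z` depends on the class. -/
theorem Zc_iff {c : ℕ} (hc : c < 512) : L.Zc (L.φ c) ↔ L.zv (typ c) = true := by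
  by_cases hi : isInv c = true
  · obtain ⟨hk, s, -, he⟩ := L.to_rep hc hi
    have hr : IsConj (L.φ (rep (typ c))) (L.φ c) := isConj_iff.2 ⟨L.φ s, he⟩
    rw [zv_iff]
    exact ⟨fun h => ⟨hk, h.trans hr.symm⟩, fun h => h.2.trans hr⟩
  · rw [typ_nine hc (by simpa using hi), L.zv_nine]
    exact iff_of_false (fun h => hi ((L.inv_iff hc).2 (L.Zc_invol h))) (by simp)

/-- The number of conjugates of `z` among the codes with a property. -/
theorem count_eq {P : ℕ → Bool} : ((List.range 512).filter fun s => P s && L.zv (typ s)).length =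
    ∑ k ∈ Finset.range 9, if L.zv k then nTyp P k else 0 :=
  length_split _ typ P L.zv L.zv_nine fun _ hs => typ_le (List.mem_range.1 hs)

/-- A translation between sets of equal size preserves the number of conjugates of `z`. -/
theorem count_transfer {P Q : ℕ → Bool} (g : G)
    (h : ∀ s < 512, P s = true → ∃ t < 512, Q t = true ∧ g * L.φ s * g⁻¹ = L.φ t)
    (hc : ((List.range 512).filter P).length = ((List.range 512).filter Q).length) :
    (∑ k ∈ Finset.range 9, if L.zv k then nTyp P k else 0) =
      ∑ k ∈ Finset.range 9, if L.zv k then nTyp Q k else 0 := by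
  rw [← L.count_eq, ← L.count_eq]
  have key : ∀ s < 512, P s = true → ∀ t < 512, g * L.φ s * g⁻¹ = L.φ t → L.zv (typ s) = L.zv (typ t) := by
    intro s hs _ t ht he
    rw [Bool.eq_iff_iff, ← L.Zc_iff hs, ← L.Zc_iff ht]
    have hst : IsConj (L.φ s) (L.φ t) := isConj_iff.2 ⟨g, he⟩
    exact ⟨fun hh => hh.trans hst, fun hh => hh.trans hst.symm⟩
  have h1 := L.count_le (P := fun s => P s && L.zv (typ s)) (Q := fun s => Q s && L.zv (typ s)) g fun s hs hp => by
    rw [Bool.and_eq_true] at hp
    obtain ⟨t, ht, hq, he⟩ := h s hs hp.1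
    exact ⟨t, ht, by rw [hq, ← key s hs hp.1 t ht he, hp.2]; rfl, he⟩
  have h2 := L.count_le (P := fun s => P s && !L.zv (typ s)) (Q := fun s => Q s && !L.zv (typ s)) g fun s hs hp => by
    rw [Bool.and_eq_true] at hp
    obtain ⟨t, ht, hq, he⟩ := h s hs hp.1
    exact ⟨t, ht, by rw [hq, ← key s hs hp.1 t ht he, hp.2]; rfl, he⟩
  have e : ∀ R : ℕ → Bool, ((List.range 512).filter fun s => R s && L.zv (typ s)).length +
      ((List.range 512).filter fun s => R s && !L.zv (typ s)).length = ((List.range 512).filter R).length := by
    intro R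
    induction List.range 512 with
    | nil => simp
    | cons a l ih =>
      cases hr : R a <;> cases hz : L.zv (typ a) <;> simp [List.filter_cons, hr, hz] <;> omega
  have := e P
  have := e Q
  omega

end Syl

end Cfsg.Agent.HSSylow
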