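import Cfsg.Agent.HSSylow.Setup

/-!
The computed facts on the codes that are used for the fusion of involutions.
-/

set_option autoImplicit false
set_option maxRecDepth 100000
set_option linter.all false

namespace Cfsg.Agent.HSSylow

/-- The classes of involutions, four bits each; nine for the other elements. -/
def typTab : ℕ := 0x99999999999999999999999999999999999999999999999946466464464664649999999999999999999999999999999999999999999999999999999999999999999559999599995999399993399993999599995999955999399993999939999397998999999799898999999799899799999799899799899999899799899999979998997998997999899999979989979998997999999899799989979989999997999999999999999999999999999999999999999999999999999999999999999999699699699999969949949949999994996996996999999699499499499999949999999999999999999992919999919299999999999999999999909299999299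

/-- The class of a code. -/
def typ (a : ℕ) : ℕ := (typTab >>> (4 * a)) &&& 15

/-- Representatives of the classes: `z`, `a`, `b`, `x8`, `x16`, `q`, `p` and the two outer classes. -/
def rep (k : ℕ) : ℕ := [10, 34, 2, 320, 64, 339, 80, 192, 199].getD k 0

/-- A code is an involution. -/
def isInv (a : ℕ) : Bool := (mulN a a == 0) && !(a == 0)

/-- The centralizer count. -/
def cnN (a : ℕ) : ℕ := ((List.range 512).filter fun s => cm a s).length

/-- The index two subgroup without the classes of `x16` and `p`. -/
def mM : ℕ := 0xffffffffffffffffffffffffffffffffffffffffffffffff00000000000000000000000000000000ffffffffffffffff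

/-- The spans of the roots of `z` in the centralizers of `x8`, `q`, `a`, `b`. -/
def spanM (r : ℕ) : ℕ :=
  if r == 320 then 0x8124000024810000000000000000000081240000248100000000000000000000000000000000000000000000000000008124000024810000812400002481 else if r == 339 then 0x4812000012480000000000000000481200001248000000000000000000000000000000000000000000000000000081240000248100000000812400002481 else if r == 34 then 0x5a5aa5a55a5aa5a500000000000000000000000000000000000000000000000000000000000000005a5aa5a55a5aa5a5 else 0xffff0000ffff0000000000000000000000000000000000000000000000000000000000000000000000000000000000000000000000000000ffff0000ffff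

/-- The possible images of the centralizers of `x16` and `p`. -/
def imgM (r : ℕ) : List ℕ :=
  if r == 320 then [0x8124000024810000000000000000000081240000248100000000000000000000000000000000000000000000000000008124000024810000812400002481] else if r == 339 then [0x4812000012480000000000000000481200001248000000000000000000000000000000000000000000000000000081240000248100000000812400002481] else if r == 34 then [0xa5a50000a5a500000000000000000000000000000000000000000000000000000000000000000000a5a50000a5a5, 0x5a5a00005a5a000000000000000000000000000000000000000000000000000000000000000000000000a5a50000a5a5] else [0xa5a50000a5a50000000000000000000000000000000000000000000000000000000000000000000000000000000000000000000000000000a5a50000a5a5, 0x5a5a00005a5a0000000000000000000000000000000000000000000000000000000000000000000000000000000000000000000000000000a5a50000a5a5]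

theorem typ_spec : (allN fun a => if isInv a then
    decide (typ a < 9) && anyN (fun s => cjN s (rep (typ a)) == a) else typ a == 9) = true := by
  decide +kernel

theorem rep_facts : ((List.range 9).all fun k => decide (rep k < 512) && isInv (rep k) && (typ (rep k) == k) &&
    (cnN (rep k) == [512, 256, 128, 64, 32, 64, 32, 32, 32].getD k 0)) = true := by
  decide +kernel

theorem central : (allN fun a => cm 10 a) = true := by decide +kernel

/-- The only square involution of the centralizers of `x16`, `q` and `p` is `z`. -/
theorem sq_only : ([64, 339, 80].all fun u => allN (fun s => !cm u s || !isInv (mulN s s) || (mulN s s == 10)) &&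
    anyN (fun s => cm u s && (mulN s s == 10))) = true := by
  decide +kernel

/-- The squares in the centralizer of `x8`: `z` has sixteen roots, the other two have eight. -/
theorem sq_x8 : (allN (fun s => !cm 320 s || !isInv (mulN s s) || [10, 320, mulN 10 320].contains (mulN s s)) &&
    (((List.range 512).filter fun s => cm 320 s && (mulN s s == 10)).length == 16) &&
    (((List.range 512).filter fun s => cm 320 s && (mulN s s == mulN 10 320)).length == 8)) = true := by
  decide +kernel

/-- The square and the centre of the centralizers of the two outer classes. -/
theorem sq_y : ([192, 199].all fun u => anyN fun v => inM mV v && !(v == 10) && !(v == 0) &&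
    anyN (fun s => cm u s && (mulN s s == v)) && allN (fun s => !cm u s || !isInv (mulN s s) || (mulN s s == v)) &&
    allN (fun c => !(cm u c && isInv c && allN fun s => !cm u s || cm s c) ||
      [10, v, mulN 10 v, u, mulN 10 u, mulN v u, mulN (mulN 10 v) u].contains c) &&
    (typ (mulN 10 u) == typ u) && (typ (mulN (mulN 10 v) u) == typ u)) = true := by
  decide +kernel

/-- `A` is abelian, and is the centralizer of `V`. -/
theorem A_abelian : ((List.range 64).all fun a => (List.range 64).all fun b => cm a b) = true := by decide +kernel

theorem A_cent : (allN fun s => !(cm 34 s && cm 2 s) || decide (s < 64)) = true := by decide +kernel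

theorem A_invol : (allN fun s => !decide (s < 64) || ((!(mulN s s == 0) || inM mV s) && inM mV (mulN (mulN s s) (mulN s s)) &&
    (!inM mV s || (mulN s s == 0)))) = true := by
  decide +kernel

theorem V_typ : (allN fun s => inM mV s == ((s == 0) || decide (typ s < 3))) = true := by decide +kernel

theorem out_A : (allN fun x => decide (x < 64) || decide (((List.range 64).filter fun v => cm x v).length ≤ 8)) = true := by
  decide +kernel

theorem top_noncomm : ((List.range 64).all fun v => (List.range 64).all fun w => !cm (64 + v) (128 + w)) = true := by
  decide +kernel

/-- The centralizer of `x16` or `p` is generated by roots of `z`. -/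
theorem root_span : ([64, 80].all fun u => allN fun s => !cm u s || anyN fun g => cm u g && (mulN g g == 10) &&
    ((g == s) || anyN fun h => cm u h && (mulN h h == 10) && (mulN g h == s))) = true := by
  decide +kernel

theorem span_facts : ([320, 339, 34, 2].all fun r => closedM (spanM r) &&
    allN (fun g => !(cm r g && (mulN g g == 10)) || inM (spanM r) g)) = true := by
  decide +kernel

/-- A subgroup of the span with all squares in `⟨z⟩` lies in one of the listed sets. -/
theorem img_facts : ([320, 339, 34, 2].all fun r => allN fun g =>
    !(inM (spanM r) g && ((mulN g g == 0) || (mulN g g == 10))) || inM ((imgM r).headD 0) g || allN fun h =>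
      !(inM (spanM r) h && ((mulN h h == 0) || (mulN h h == 10))) || inM ((imgM r).getLastD 0) h ||
        !((mulN (mulN g h) (mulN g h) == 0) || (mulN (mulN g h) (mulN g h) == 10))) = true := by
  decide +kernel

theorem img_card : ([320, 339, 34, 2].all fun r => (imgM r).all fun m =>
    ((List.range 512).filter fun g => inM m g).length == 32) = true := by
  decide +kernel

/-- The element of order eight in the centralizer of `q`. -/
theorem q_eight : (cm 339 131 && (mulN (mulN 131 131) (mulN 131 131) == 10) && allN fun h => !cm 339 h ||
    (let g2 := mulN 131 131
     let ok := fun w : ℕ => (w == 0) || (w == g2) || (w == 10) || (w == mulN 10 g2)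
     ok (mulN h h) && ok (mulN (mulN 131 h) (mulN 131 h)))) = true := by
  decide +kernel

theorem no_eight : ([34, 2].all fun r => allN fun g => !(cm r g && (mulN (mulN g g) (mulN g g) == 10)) ||
    (let g2 := mulN g g
     let ok := fun w : ℕ => (w == 0) || (w == g2) || (w == 10) || (w == mulN 10 g2)
     decide (((List.range 512).filter fun h => cm r h && ok (mulN h h) && ok (mulN (mulN g h) (mulN g h))).length < 64))) =
    true := by
  decide +kernel

/-- Outside `V` the centralizers of pairs containing `a` are not commutative. -/
theorem pair_nonabelian : (allN fun w => !(cm 34 w && decide (3 ≤ typ w) && decide (typ w < 9)) ||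
    anyN fun x => cm 34 x && cm w x && anyN fun y => cm 34 y && cm w y && !cm x y) = true := by
  decide +kernel

/-- The numbers of roots. -/
theorem root_numbers : ([3, 4, 7, 8].all fun k => decide (((List.range 512).filter fun s => mulN s s == rep k).length ≤ 8)) &&
    decide (16 ≤ ((List.range 512).filter fun s => cm 64 s && (mulN s s == 10)).length) = true := by
  decide +kernel

/-- The permutations of the lines of `V` induced by the Sylow subgroup. -/
theorem V_action : (allN fun v => !(typ v == 2) || anyN fun s => cm 34 s && (cjN s 2 == v)) = true := by decide +kernel

end Cfsg.Agent.HSSylow
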