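import Mathlib
import Cfsg.Agent.HSSylow.CaseA

/-!
Finite facts for the final step of the recognition of the Higman-Sims group from its Sylow 2-subgroup.
-/

set_option autoImplicit false
set_option maxRecDepth 100000
set_option linter.all false

namespace Cfsg.Agent.HSSylow

/-- the mask of an extraspecial subgroup of index two in `R` -/
def mE : ℕ :=
  0xa5a50000000000000000000000000000a5a5000000000000000000000000000000000000000000000000000000000000a5a5000000000000a5a5

theorem closed_mE : closedM mE = true := by decide +kernel

theorem card_mA : ((List.range 512).filter (inM mA)).length = 64 := by decide +kernel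

theorem card_mE : ((List.range 512).filter (inM mE)).length = 32 := by decide +kernel

/-- facts about `E`, `A` and `V` -/
def miscOk : Bool :=
  allN fun x =>
    (!inM mE x || (inM mR x &&
      (mulN x x == 0 || mulN x x == 10) &&
      (allN fun y => !inM mE y || comN x y == 0 || comN x y == 10) &&
      (x == 0 || x == 10 || anyN fun y => inM mE y && !cm x y))) &&
    (!inM mR x || inM mE x || inM mE (mulN x 47)) &&
    (!inM mA x || allN fun w => !inM mV w || cm x w) &&
    (inM mA x || anyN fun w => inM mV w && !cm x w) &&
    (allN fun y => !inM mA y || inM mA (cjN x y)) &&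
    (allN fun y => !inM mV y || inM mV (cjN x y)) &&
    (!inM mV x || inM mR x)

theorem misc_ok : miscOk = true := by decide +kernel

theorem mE_codes : inM mE 10 = true ∧ inM mE 37 = false ∧ inM mE 47 = false ∧
    anyN (fun x => inM mE x && anyN fun y => inM mE y && !cm x y) = true := by decide +kernel

/-- centralizers and roots -/
def centOk : Bool :=
  allN fun x => !(mulN x x == 0) || x == 0 || x == 10 ||
    (decide (((List.range 512).filter fun u => cm u x).length ≤ 256) &&
      (inM mV x || decide (((List.range 512).filter fun u => mulN u u == x).length ≤ 8)) &&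
      (!inM mR x || decide (9 ≤ ((List.range 512).filter fun u => cm u x && mulN u u == 10).length)))

theorem cent_ok : centOk = true := by decide +kernel

theorem card_cent_a : ((List.range 512).filter fun u => cm u 34).length = 256 := by decide +kernel

/-- the involutions of `R` outside `⟨z⟩` -/
def pR (x : ℕ) : Bool := inM mR x && mulN x x == 0 && !(x == 0) && !(x == 10)

theorem card_pR : ((List.range 512).filter pR).length = 30 := by decide +kernel

theorem card_pV : ((List.range 512).filter fun x => inM mV x && !(x == 0) && !(x == 10)).length = 6 := by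
  decide +kernel

theorem card_pV1 : ((List.range 512).filter fun x => inM mV x && !(x == 0)).length = 7 := by decide +kernel

/-- the elementary subgroup through `x8` and `d` -/
def wList (d : ℕ) : List ℕ :=
  [0, 10, 320, mulN 10 320, d, mulN 10 d, mulN 320 d, mulN (mulN 10 320) d]

/-- only `R` fixes all conjugates of an elementary subgroup through `x8` meeting `V` in `⟨z⟩` -/
def kerOk : Bool :=
  allN fun d => !(pR d && cm 320 d) || d == 320 || d == mulN 10 320 ||
    (wList d).any (fun x => inM mV x && !(x == 0) && !(x == 10)) ||
    allN fun s => inM mR s || anyN fun t =>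
      (wList d).any fun x => !(wList d).contains (cjN (mulN (mulN (invN t) s) t) x)

theorem ker_ok : kerOk = true := by decide +kernel

theorem wList_distinct : allN (fun d => !(pR d && cm 320 d) || d == 320 || d == mulN 10 320 ||
    decide (wList d).Nodup) = true := by decide +kernel

/-- the code of a vector of `(ℤ/4)³` -/
def encA (x : ZMod 4 × ZMod 4 × ZMod 4) : ℕ := x.1.val + 4 * x.2.1.val + 16 * x.2.2.val

/-- the code of a vector of `(ℤ/2)³` -/
def encV (w : Fin 3 → ZMod 2) : ℕ := 2 * (w 0).val + 8 * (w 1).val + 32 * (w 2).val

theorem encA_spec : ∀ x y : ZMod 4 × ZMod 4 × ZMod 4, mulN (encA x) (encA y) = encA (x + y) := by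
  decide +kernel

theorem encA_mem : ∀ x : ZMod 4 × ZMod 4 × ZMod 4, encA x < 512 ∧ inM mA (encA x) = true ∧
    (encA x = 0 → x = 0) := by decide +kernel

theorem encV_spec : ∀ x y : Fin 3 → ZMod 2, mulN (encV x) (encV y) = encV (x + y) := by decide +kernel

theorem encV_mem : ∀ x : Fin 3 → ZMod 2, encV x < 512 ∧ inM mV (encV x) = true ∧ (encV x = 0 → x = 0) := by
  decide +kernel

theorem encV_basis : encV ![1, 1, 0] = 10 ∧ encV ![1, 0, 1] = 34 ∧ encV ![1, 0, 0] = 2 ∧
    ∀ x : Fin 3 → ZMod 2, x = (x 1) • ![1, 1, 0] + ((x 2) • ![1, 0, 1] + (x 0 + x 1 + x 2) • ![1, 0, 0]) := by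
  decide +kernel

end Cfsg.Agent.HSSylow
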