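import Mathlib
import Cfsg.Agent.HSSylow.FinishData
import Cfsg.Agent.LargeExtra.Quotient
import Cfsg.Agent.S3346

/-!
The last step: with trivial core the centralizer of `z` and the normalizer of `V` are those of the Higman-Sims
group.
-/

set_option autoImplicit false
set_option maxRecDepth 100000
set_option linter.all false

namespace Cfsg.Agent.HSSylow

open Subgroup
open Cfsg.Agent.SylJ2 (theta)

theorem vec_ne : (![1, 1, 0] : Fin 3 → ZMod 2) ≠ 0 ∧ (![1, 0, 1] : Fin 3 → ZMod 2) ≠ 0 ∧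
    (![1, 0, 1] : Fin 3 → ZMod 2) ≠ ![1, 1, 0] ∧ (![1, 0, 0] : Fin 3 → ZMod 2) ≠ 0 ∧
    (![1, 0, 0] : Fin 3 → ZMod 2) ≠ ![1, 1, 0] ∧ (![1, 0, 0] : Fin 3 → ZMod 2) ≠ ![1, 0, 1] ∧
    (![1, 0, 0] : Fin 3 → ZMod 2) ≠ ![1, 1, 0] + ![1, 0, 1] := by decide

theorem no_index_three (L : Subgroup (Equiv.Perm (Fin 5))) : L.index ≠ 3 := by
  intro h
  haveI := alternatingGroup.isSimpleGroup_five
  have hidx : L.normalCore.index ∣ 6 := by
    rw [normalCore_eq_ker, Subgroup.index_ker]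
    refine (card_subgroup_dvd_card _).trans (dvd_of_eq ?_)
    rw [Nat.card_perm, ← Subgroup.index_eq_card, h]
    rfl
  rcases (inferInstance : (L.normalCore.subgroupOf (alternatingGroup (Fin 5))).Normal).eq_bot_or_eq_top with e | e
  · have h1 : L.normalCore.relIndex (alternatingGroup (Fin 5)) ∣ L.normalCore.index := relIndex_dvd_index_of_normal _ _
    rw [Subgroup.relIndex, e, index_bot, Nat.card_eq_fintype_card] at h1
    exact absurd (Nat.le_of_dvd (by norm_num) (h1.trans hidx)) (by decide +kernel)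
  · have h1 : alternatingGroup (Fin 5) ≤ L := (subgroupOf_eq_top.1 e).trans L.normalCore_le
    have h2 := index_dvd_of_le h1
    rw [alternatingGroup.index_eq_two, h] at h2
    norm_num at h2

theorem card_filter_le {G : Type*} [Group G] (L : Syl G) (p : ℕ → Bool) :
    Nat.card {g : G // ∃ a < 512, p a = true ∧ L.φ a = g} = ((List.range 512).filter p).length := by
  set l := (List.range 512).filter p with hl
  have hnd : l.Nodup := List.nodup_range.filter _
  have hspec : ∀ k : Fin l.length, l.get k < 512 ∧ p (l.get k) = true := fun k => by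
    have := List.mem_filter.1 (show l.get k ∈ (List.range 512).filter p from List.get_mem l k)
    exact ⟨List.mem_range.1 this.1, this.2⟩
  rw [← Nat.card_fin l.length]
  refine (Nat.card_congr (Equiv.ofBijective
    (fun k : Fin l.length => (⟨L.φ (l.get k), _, (hspec k).1, (hspec k).2, rfl⟩ :
      {g : G // ∃ a < 512, p a = true ∧ L.φ a = g})) ⟨?_, ?_⟩)).symm
  · intro x y e
    exact hnd.injective_get (L.inj _ (hspec x).1 _ (hspec y).1 (congrArg Subtype.val e))
  · rintro ⟨g, a, ha, hm, rfl⟩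
    obtain ⟨k, hk⟩ := List.mem_iff_get.1 (show a ∈ l from List.mem_filter.2 ⟨List.mem_range.2 ha, hm⟩)
    exact ⟨k, Subtype.ext (congrArg L.φ hk)⟩

namespace Syl

variable {G : Type*} [Group G] (L : Syl G)

theorem misc_spec {x : ℕ} (hx : x < 512) :
    (inM mE x = true → inM mR x = true ∧ (mulN x x = 0 ∨ mulN x x = 10) ∧
      (∀ y < 512, inM mE y = true → comN x y = 0 ∨ comN x y = 10) ∧
      (x = 0 ∨ x = 10 ∨ ∃ y < 512, inM mE y = true ∧ cm x y = false)) ∧
    (inM mR x = true → inM mE x = true ∨ inM mE (mulN x 47) = true) ∧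
    (inM mA x = true → ∀ w < 512, inM mV w = true → cm x w = true) ∧
    (inM mA x = false → ∃ w < 512, inM mV w = true ∧ cm x w = false) ∧
    (∀ y < 512, inM mA y = true → inM mA (cjN x y) = true) ∧
    (∀ y < 512, inM mV y = true → inM mV (cjN x y) = true) ∧
    (inM mV x = true → inM mR x = true) := by
  have h := misc_ok
  unfold miscOk at h
  have h1 := allN_spec h hx
  simp only [Bool.and_eq_true] at h1
  obtain ⟨⟨⟨⟨⟨⟨c1, c2⟩, c3⟩, c4⟩, c5⟩, c6⟩, c7⟩ := h1
  refine ⟨fun e => ?_, fun e => ?_, fun e w hw hw' => ?_, fun e => ?_, fun y hy hy' => ?_, fun y hy hy' => ?_,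
    fun e => ?_⟩
  · simp [e] at c1
    refine ⟨c1.1.1.1, c1.1.1.2, fun y hy hy' => ?_, ?_⟩
    · have := c1.1.2 y hy
      simpa [hy'] using this
    · rcases c1.2 with (h | h) | h
      · exact Or.inl h
      · exact Or.inr (Or.inl h)
      · exact Or.inr (Or.inr h)
  · simpa [e] using c2
  · simp [e] at c3
    simpa [hw'] using c3 w hw
  · simpa [e] using c4
  · simp at c5
    simpa [hy'] using c5 y hy
  · simp at c6
    simpa [hy'] using c6 y hy
  · simpa [e] using c7

theorem cent_spec {x : ℕ} (hx : x < 512) (h2 : mulN x x = 0) (h0 : x ≠ 0) (h10 : x ≠ 10) :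
    ((List.range 512).filter fun u => cm u x).length ≤ 256 ∧
      (inM mV x = false → ((List.range 512).filter fun u => mulN u u == x).length ≤ 8) ∧
      (inM mR x = true → 9 ≤ ((List.range 512).filter fun u => cm u x && mulN u u == 10).length) := by
  have h := cent_ok
  unfold centOk at h
  have h1 := allN_spec h hx
  simp [h2, h0, h10] at h1
  exact ⟨h1.1.1, fun e => h1.1.2.resolve_left (by simp [e]), fun e => h1.2.resolve_left (by simp [e])⟩

theorem V_le_R : L.V ≤ L.R := by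
  rintro _ ⟨c, hc, hm, rfl⟩
  exact ⟨c, hc, (misc_spec hc).2.2.2.2.2.2 hm, rfl⟩

theorem S_le_normalizer_V [Finite G] : (L.S : Subgroup G) ≤ normalizer (L.V : Set G) := by
  intro s hs
  obtain ⟨x, hx, rfl⟩ := (L.range s).1 hs
  refine Invol.mem_normalizer_of_conj_le ?_
  rintro _ ⟨_, ⟨b, hb, hmb, rfl⟩, rfl⟩
  show L.φ x * L.φ b * (L.φ x)⁻¹ ∈ L.V
  rw [L.φ_cj hx hb]
  exact ⟨_, cjN_lt hx hb, (misc_spec hx).2.2.2.2.2.1 b hb hmb, rfl⟩

theorem S_le_normalizer_A [Finite G] : (L.S : Subgroup G) ≤ normalizer (L.A : Set G) := by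
  intro s hs
  obtain ⟨x, hx, rfl⟩ := (L.range s).1 hs
  refine Invol.mem_normalizer_of_conj_le ?_
  rintro _ ⟨_, ⟨b, hb, hmb, rfl⟩, rfl⟩
  show L.φ x * L.φ b * (L.φ x)⁻¹ ∈ L.A
  rw [L.φ_cj hx hb]
  exact ⟨_, cjN_lt hx hb, (misc_spec hx).2.2.2.2.1 b hb hmb, rfl⟩

theorem S_le_cent : (L.S : Subgroup G) ≤ centralizer ({L.z} : Set G) := by
  intro s hs
  obtain ⟨a, ha, rfl⟩ := (L.range s).1 hs
  have hr := root_ok
  unfold rootOk at hr
  have h := allN_spec hr ha
  simp only [Bool.and_eq_true] at h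
  exact mem_centralizer_singleton_iff.2 ((L.cm_iff ha (by norm_num)).1 h.1.1.1.1)

variable [Finite G] (F : L.Fus) (Lc : L.Loc) (hx : L.Zc L.x8) (hO : theta L.z = ⊥)
include F Lc hx hO

/-- `C(z)` normalizes `R` -/
theorem norm_R {h : G} (hh : h ∈ centralizer ({L.z} : Set G)) :
    h ∈ normalizer (L.R : Set G) ∧ h ∈ fixInv L.i := by
  obtain ⟨o, ho, n, hn, -, hni, he⟩ := L.cent_cover F Lc hx (mem_centralizer_singleton_iff.1 hh)
  rw [hO, mem_bot] at ho
  rw [he, ho, one_mul]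
  exact ⟨hn, hni⟩

theorem core_cent_R : ∀ y ∈ centralizer (L.R : Set G), Odd (orderOf y) → y = 1 := by
  intro y hy hyo
  have hzR : L.z ∈ L.R := L.V_le_R L.z_mem_V
  have haR : L.a ∈ L.R := L.V_le_R ⟨34, by norm_num, mV_codes.2.1, rfl⟩
  have hle : centralizer (L.R : Set G) ≤ centralizer ({L.z, L.a} : Set G) := centralizer_le (by
    rintro w (rfl | rfl)
    · exact hzR
    · exact haR)
  have hnil : TwoNil ↥(centralizer ({L.z, L.a} : Set G)) := Lc.nilV L.a ⟨34, by norm_num, mV_codes.2.1, rfl⟩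
    (fun e => by have := (L.one_iff (show 34 < 512 by norm_num)).1 e; norm_num at this)
    (fun e => by have := (L.eq_iff (show 34 < 512 by norm_num) (show 10 < 512 by norm_num)).1 e; norm_num at this)
  have hy' : y ∈ SylJ2.core (centralizer (L.R : Set G)) :=
    ⟨⟨y, hy⟩, hnil.of_le hle _ (by rwa [Subgroup.orderOf_mk]), rfl⟩
  have h1 : SylJ2.core (centralizer (L.R : Set G)) ≤ theta L.z := by
    have hCz : centralizer (L.R : Set G) ≤ centralizer ({L.z} : Set G) := centralizer_le (by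
      rintro w rfl
      exact hzR)
    refine SylJ2.le_core ((SylJ2.core_le _).trans hCz) (SylJ2.core_odd _) fun k hk w hw => ?_
    have hkR := (L.norm_R F Lc hx hO hk).1
    refine SylJ2.le_core (K := centralizer (L.R : Set G))
      (D := (SylJ2.core (centralizer (L.R : Set G))).map (MulAut.conj k).toMonoidHom) ?_ ?_ ?_ ⟨w, hw, rfl⟩
    · rintro _ ⟨c, hc, rfl⟩
      refine mem_centralizer_iff.2 fun v hv => ?_
      have h1 := mem_centralizer_iff.1 (SylJ2.core_le _ hc) _ ((mem_normalizer_iff.1 (inv_mem hkR) v).1 hv)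
      rw [inv_inv] at h1
      show v * (k * c * k⁻¹) = k * c * k⁻¹ * v
      calc v * (k * c * k⁻¹) = k * ((k⁻¹ * v * k) * c) * k⁻¹ := by group
        _ = k * (c * (k⁻¹ * v * k)) * k⁻¹ := by rw [h1]
        _ = k * c * k⁻¹ * v := by group
    · rw [card_map_of_injective (MulAut.conj k).injective]
      exact SylJ2.core_odd _
    · intro c hc _ hw'
      obtain ⟨u, hu, rfl⟩ := hw'
      refine ⟨k⁻¹ * c * k * u * (k⁻¹ * c * k)⁻¹, SylJ2.core_conj (mem_centralizer_iff.2 fun v hv => ?_) hu,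
        show k * _ * k⁻¹ = c * (k * u * k⁻¹) * c⁻¹ by group⟩
      have h1 := mem_centralizer_iff.1 hc _ ((mem_normalizer_iff.1 hkR v).1 hv)
      calc v * (k⁻¹ * c * k) = k⁻¹ * (k * v * k⁻¹ * c) * k := by group
        _ = k⁻¹ * (c * (k * v * k⁻¹)) * k := by rw [h1]
        _ = k⁻¹ * c * k * v := by group
  rw [hO] at h1
  exact mem_bot.1 (h1 hy')

theorem two_group_cent {v : G} (hv : v ∈ L.R) (h2 : v * v = 1) (h1 : v ≠ 1) (hz : v ≠ L.z) :
    IsPGroup 2 ↥(centralizer ({L.z, v} : Set G)) := by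
  intro g
  obtain ⟨m, hm⟩ := exists_odd_part g
  refine ⟨m, Subtype.ext ?_⟩
  rw [OneMemClass.coe_one]
  set o : centralizer ({L.z, v} : Set G) := g ^ 2 ^ m with ho
  have hoD : o ∈ Cfsg.oddCore ↥(centralizer ({L.z, v} : Set G)) := Lc.nilR hx v hv h2 h1 hz o hm
  have hoz : (o : G) ∈ centralizer ({L.z} : Set G) := centralizer_le (by simp) o.2
  have hov : (o : G) * v = v * o := (mem_centralizer_iff.1 o.2 v (by simp)).symm
  obtain ⟨hoR, hofix⟩ := L.norm_R F Lc hx hO hoz
  obtain ⟨e1, e2, e3⟩ := L.el closed_mR el_mR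
  have hcomm : ∀ r ∈ L.R, r * v = v * r → (o : G) * r * (o : G)⁻¹ = r := by
    intro r hr hrv
    have hrz : r * L.z = L.z * r := L.root.z_comm r (L.sub_le _ hr)
    set rC : centralizer ({L.z, v} : Set G) := ⟨r, mem_centralizer_iff.2 (by
      rintro w (rfl | rfl); exacts [hrz.symm, hrv.symm])⟩
    have hd : o * rC * o⁻¹ * rC⁻¹ ∈ Cfsg.oddCore ↥(centralizer ({L.z, v} : Set G)) := by
      rw [show o * rC * o⁻¹ * rC⁻¹ = o * (rC * o⁻¹ * rC⁻¹) by group]
      exact mul_mem hoD (Normal.conj_mem inferInstance _ (inv_mem hoD) _)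
    have h := sq_eq_one_of_odd (D := SylJ2.core (centralizer ({L.z, v} : Set G))) (SylJ2.core_odd _)
      (L.S.2.to_le (L.sub_le closed_mR)) ⟨_, hd, rfl⟩
      (mul_mem ((mem_normalizer_iff.1 hoR r).1 hr) (inv_mem hr))
    exact mul_inv_eq_one.1 h
  have hfixI : ∀ c ∈ zpowers L.i, (o : G) * c * (o : G)⁻¹ = c := fun c hc =>
    hcomm c (zpowers_le.2 (show L.i ∈ L.R from ⟨37, by norm_num, by decide +kernel, rfl⟩) hc) (by
      obtain ⟨k, rfl⟩ := mem_zpowers_iff.1 hc
      exact (((show Commute v L.i from e1 v hv).zpow_right k).eq).symm)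
  have hcR : (o : G) ∈ centralizer (L.R : Set G) := mem_centralizer_iff.2 fun r hr => by
    set c := v * r * v⁻¹ * r⁻¹ with hc
    have hcI : c ∈ zpowers L.i := e3 v hv r hr
    set d := (o : G) * r * (o : G)⁻¹ * r⁻¹ with hd
    have hdR : d ∈ L.R := mul_mem ((mem_normalizer_iff.1 hoR r).1 hr) (inv_mem hr)
    have hdv : d * v = v * d := by
      have h1' : v * r * v⁻¹ = c * r := by rw [hc]; group
      have h2' : v * ((o : G) * r * (o : G)⁻¹) * v⁻¹ = c * ((o : G) * r * (o : G)⁻¹) := by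
        calc v * ((o : G) * r * (o : G)⁻¹) * v⁻¹ = (v * o) * r * ((v * o))⁻¹ := by group
          _ = (o * v) * r * (o * v)⁻¹ := by rw [hov]
          _ = (o : G) * (v * r * v⁻¹) * (o : G)⁻¹ := by group
          _ = (o : G) * c * (o : G)⁻¹ * ((o : G) * r * (o : G)⁻¹) := by rw [h1']; group
          _ = _ := by rw [hfixI c hcI]
      have hdc : d * c = c * d := by
        obtain ⟨k, hk⟩ := mem_zpowers_iff.1 hcI
        rw [← hk]
        exact ((show Commute d L.i from e1 d hdR).zpow_right k).eq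
      have h3 : v * d * v⁻¹ = c * d * c⁻¹ := by
        calc v * d * v⁻¹ = (v * ((o : G) * r * (o : G)⁻¹) * v⁻¹) * (v * r * v⁻¹)⁻¹ := by rw [hd]; group
          _ = c * ((o : G) * r * (o : G)⁻¹) * (c * r)⁻¹ := by rw [h2', h1']
          _ = c * d * c⁻¹ := by rw [hd]; group
      rw [← hdc, mul_inv_cancel_right] at h3
      exact (mul_inv_eq_iff_eq_mul.1 h3).symm
    have hod : (o : G) * d * (o : G)⁻¹ = d := hcomm d hdR hdv
    have hpow : ∀ k : ℕ, (o : G) ^ k * r * ((o : G) ^ k)⁻¹ = d ^ k * r := by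
      intro k
      induction k with
      | zero => simp
      | succ k ih =>
        calc (o : G) ^ (k + 1) * r * ((o : G) ^ (k + 1))⁻¹
            = (o : G) * ((o : G) ^ k * r * ((o : G) ^ k)⁻¹) * (o : G)⁻¹ := by rw [pow_succ']; group
          _ = ((o : G) * d * (o : G)⁻¹) ^ k * ((o : G) * r * (o : G)⁻¹) := by rw [ih, conj_pow]; group
          _ = d ^ (k + 1) * r := by rw [hod, pow_succ, hd]; group
    have h4 := hpow (orderOf (o : G))
    rw [pow_orderOf_eq_one, inv_one, mul_one, one_mul, eq_comm, mul_eq_right] at h4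
    obtain ⟨k, hk⟩ := (L.S.2.to_le (L.sub_le closed_mR)) ⟨d, hdR⟩
    have hd1 : d = 1 := by
      refine mem_bot.1 (mem_of_pow_two (D := ⊥) ?_ (m := k) ?_)
      · exact (show Odd (orderOf (o : G)) by rwa [Subgroup.orderOf_coe]).of_dvd_nat (orderOf_dvd_of_pow_eq_one h4)
      · rw [show d ^ 2 ^ k = 1 from congrArg Subtype.val hk]
        exact one_mem _
    rw [hd, mul_inv_eq_one] at hd1
    exact (mul_inv_eq_iff_eq_mul.1 hd1).symm
  exact L.core_cent_R F Lc hx hO _ hcR (by rwa [Subgroup.orderOf_coe])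

/-- moving a 2-subgroup of `C(z)` into `S` -/
theorem into_S_cent {P : Subgroup G} (hP : P ≤ centralizer ({L.z} : Set G)) (h2 : IsPGroup 2 P) :
    ∃ k ∈ centralizer ({L.z} : Set G), ∀ r ∈ P, k * r * k⁻¹ ∈ (L.S : Subgroup G) := by
  haveI : Fact (Nat.Prime 2) := ⟨Nat.prime_two⟩
  obtain ⟨P', hP'⟩ := (h2.comap_subtype (K := centralizer ({L.z} : Set G))).exists_le_sylow
  obtain ⟨k, hk⟩ := MulAction.exists_smul_eq (centralizer ({L.z} : Set G)) P' (L.S.subtype L.S_le_cent)
  refine ⟨k, k.2, fun r hr => ?_⟩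
  have h : k * ⟨r, hP hr⟩ * k⁻¹ ∈ (L.S.subtype L.S_le_cent : Subgroup _) := by
    rw [← hk]
    exact ⟨_, hP' (mem_subgroupOf.2 hr), rfl⟩
  exact mem_subgroupOf.1 h

theorem a_facts : L.a ∈ L.V ∧ L.a ≠ 1 ∧ L.a ≠ L.z ∧ L.a * L.a = 1 :=
  ⟨⟨34, by norm_num, mV_codes.2.1, rfl⟩,
    fun e => by have := (L.one_iff (show 34 < 512 by norm_num)).1 e; norm_num at this,
    fun e => by have := (L.eq_iff (show 34 < 512 by norm_num) (show 10 < 512 by norm_num)).1 e; norm_num at this,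
    L.sq_V ⟨34, by norm_num, mV_codes.2.1, rfl⟩⟩

theorem cent_a_le : centralizer ({L.z, L.a} : Set G) ≤ (L.S : Subgroup G) := by
  obtain ⟨haV, ha1, haz, ha2⟩ := L.a_facts F Lc hx hO
  have hQ := L.two_group_cent F Lc hx hO (L.V_le_R haV) ha2 ha1 haz
  set Q := centralizer ({L.z, L.a} : Set G) with hQdef
  have hQC : Q ≤ centralizer ({L.z} : Set G) := centralizer_le (by simp)
  obtain ⟨k, hk, hkS⟩ := L.into_S_cent F Lc hx hO hQC hQ
  have haQ : L.a ∈ Q := mem_centralizer_iff.2 (by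
    rintro w (rfl | rfl)
    · exact L.comm_V L.z_mem_V haV
    · rfl)
  obtain ⟨x, hxlt, hxe⟩ := (L.range _).1 (hkS _ haQ)
  have hx2 : mulN x x = 0 := (L.sq_iff hxlt (by norm_num)).2 (by
    rw [hxe, L.φ_zero, show k * L.a * k⁻¹ * (k * L.a * k⁻¹) = k * (L.a * L.a) * k⁻¹ by group, ha2, mul_one,
      mul_inv_cancel])
  have hx0 : x ≠ 0 := fun e => ha1 (by rw [e, L.φ_zero] at hxe; exact conj_eq_one_iff.1 hxe.symm)
  have hx10 : x ≠ 10 := fun e => haz (by
    rw [e] at hxe
    calc L.a = k⁻¹ * (k * L.a * k⁻¹) * k := by group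
      _ = k⁻¹ * L.z * k := by rw [← hxe]; rfl
      _ = L.z := by rw [mul_assoc, ← mem_centralizer_singleton_iff.1 hk, inv_mul_cancel_left])
  set p := fun u => cm u x
  have hle : Nat.card Q ≤ 256 := by
    refine le_trans (le_trans ?_ (card_filter_le L p).le) (cent_spec hxlt hx2 hx0 hx10).1
    have hmem : ∀ q : Q, ∃ u < 512, p u = true ∧ L.φ u = k * (q : G) * k⁻¹ := fun q => by
      obtain ⟨u, hu, hue⟩ := (L.range _).1 (hkS _ q.2)
      refine ⟨u, hu, (L.cm_iff hu hxlt).2 ?_, hue⟩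
      have h := mem_centralizer_iff.1 q.2 L.a (by simp)
      rw [hue, hxe, show k * (q : G) * k⁻¹ * (k * L.a * k⁻¹) = k * ((q : G) * L.a) * k⁻¹ by group, ← h]
      group
    exact Nat.card_le_card_of_injective (fun q => (⟨_, hmem q⟩ : {g : G // ∃ a < 512, p a = true ∧ L.φ a = g}))
      fun a b e => Subtype.ext (mul_left_cancel (mul_right_cancel (congrArg Subtype.val e)))
  set pa := fun u => cm u 34
  set T := {g : G // ∃ a < 512, pa a = true ∧ L.φ a = g}
  have hT : ∀ g : T, g.1 ∈ Q := fun g => by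
    obtain ⟨u, hu, hpu, hue⟩ := g.2
    rw [← hue]
    refine mem_centralizer_iff.2 ?_
    rintro w (rfl | rfl)
    · exact (L.root.z_comm _ (L.mem hu)).symm
    · exact ((L.cm_iff hu (by norm_num)).1 hpu).symm
  have hbij : Function.Bijective (fun g : T => (⟨g.1, hT g⟩ : Q)) := by
    refine (Nat.bijective_iff_injective_and_card _).2 ⟨fun a b e => Subtype.ext (congrArg (fun q : Q => (q : G)) e), ?_⟩
    refine le_antisymm (Nat.card_le_card_of_injective (fun g : T => (⟨g.1, hT g⟩ : Q))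
      fun a b e => Subtype.ext (congrArg (fun q : Q => (q : G)) e)) ?_
    rw [show Nat.card T = 256 from (card_filter_le L pa).trans card_cent_a]
    exact hle
  intro g hg
  obtain ⟨⟨y, hy⟩, hyg⟩ := hbij.2 ⟨g, hg⟩
  have hyg' : y = g := congrArg (fun q : Q => (q : G)) hyg
  obtain ⟨u, hu, -, hue⟩ := hy
  rw [← hyg', ← hue]
  exact L.mem hu

theorem cent_V : centralizer (L.V : Set G) = L.A := by
  refine le_antisymm ?_ ?_
  · intro g hg
    obtain ⟨haV, -, -, -⟩ := L.a_facts F Lc hx hO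
    have hgS : g ∈ (L.S : Subgroup G) := L.cent_a_le F Lc hx hO (centralizer_le (by
      rintro w (rfl | rfl)
      · exact L.z_mem_V
      · exact haV) hg)
    obtain ⟨x, hxlt, rfl⟩ := (L.range g).1 hgS
    refine (L.mem_sub _ hxlt).2 ?_
    by_contra h
    rw [Bool.not_eq_true] at h
    obtain ⟨w, hw, hwV, hc⟩ := (misc_spec hxlt).2.2.2.1 h
    rw [← Bool.not_eq_true, L.cm_iff hxlt hw] at hc
    exact hc (mem_centralizer_iff.1 hg _ ⟨w, hw, hwV, rfl⟩).symm
  · rintro _ ⟨x, hxlt, hm, rfl⟩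
    refine mem_centralizer_iff.2 ?_
    rintro _ ⟨w, hw, hwV, rfl⟩
    exact ((L.cm_iff hxlt hw).1 ((misc_spec hxlt).2.2.1 hm w hw hwV)).symm

omit hx hO in
/-- the automizer of `V` moves `a` to every element outside `⟨z⟩`, fixing `z` -/
theorem exists_move {v : G} (hv : v ∈ L.V) (h1 : v ≠ 1) (hz : v ≠ L.z) :
    ∃ n ∈ normalizer (L.V : Set G), n * L.z * n⁻¹ = L.z ∧ n * L.a * n⁻¹ = v := by
  obtain ⟨w, hwV, hw1, hwz, hwv, hwzv⟩ :
      ∃ w ∈ L.V, w ≠ 1 ∧ w ≠ L.z ∧ w ≠ v ∧ w ≠ L.z * v := by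
    by_contra hne
    push Not at hne
    have h4 : Nat.card L.V ≤ 4 := by
      classical
      refine (Nat.card_le_card_of_surjective (fun k : Fin 4 => (![(⟨1, one_mem _⟩ : L.V), ⟨L.z, L.z_mem_V⟩,
        ⟨v, hv⟩, ⟨L.z * v, mul_mem L.z_mem_V hv⟩] k)) fun w => ?_).trans (Nat.card_fin 4).le
      by_cases e1 : (w : G) = 1
      · exact ⟨0, Subtype.ext e1.symm⟩
      by_cases e2 : (w : G) = L.z
      · exact ⟨1, Subtype.ext e2.symm⟩
      by_cases e3 : (w : G) = v
      · exact ⟨2, Subtype.ext e3.symm⟩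
      exact ⟨3, Subtype.ext (hne w w.2 e1 e2 e3).symm⟩
    rw [Syl.V, L.card_sub, card_mV] at h4
    norm_num at h4
  obtain ⟨n, hn, h2, h3, -⟩ := F.gl L.z L.z_mem_V v hv w hwV L.root.z_ne h1 hz hw1 hwz hwv hwzv
  exact ⟨n, L.normalizer_A hn, h2, h3⟩

theorem exists_into_V {v : G} (hv : v ∈ L.R) (h2 : v * v = 1) (h1 : v ≠ 1) (hz : v ≠ L.z) :
    ∃ f ∈ centralizer ({L.z} : Set G), f * v * f⁻¹ ∈ L.V ∧ f * v * f⁻¹ ≠ 1 ∧ f * v * f⁻¹ ≠ L.z := by
  obtain ⟨c, hc, hcm, rfl⟩ := hv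
  have hsq : mulN c c = 0 := (L.sq_iff hc (by norm_num)).2 (by rw [h2, L.φ_zero])
  have hci : cm c 37 = true := (L.cm_iff hc (by norm_num)).2 ((L.el closed_mR el_mR).1 _ ⟨c, hc, hcm, rfl⟩)
  have hc0 : c ≠ 0 := fun e => h1 (by rw [e, L.φ_zero])
  have hc10 : c ≠ 10 := fun e => hz (by rw [e]; rfl)
  have hzc : IsConj L.z (L.φ c) := (L.type_R F hx hc hci hsq hc0).1 hcm
  obtain ⟨g, hg⟩ := isConj_iff.1 hzc.symm
  -- the centralizer in `S` of `v`, moved
  set pr := fun u => cm u c && mulN u u == 10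
  set K := ((L.S : Subgroup G) ⊓ centralizer ({L.φ c} : Set G)).map (MulAut.conj g).toMonoidHom
  have hKC : K ≤ centralizer ({L.z} : Set G) := by
    rintro _ ⟨y, hy, rfl⟩
    refine mem_centralizer_singleton_iff.2 ?_
    show g * y * g⁻¹ * L.z = L.z * (g * y * g⁻¹)
    rw [← hg, show g * y * g⁻¹ * (g * L.φ c * g⁻¹) = g * (y * L.φ c) * g⁻¹ by group,
      mem_centralizer_singleton_iff.1 hy.2]
    group
  obtain ⟨k, hk, hkS⟩ := L.into_S_cent F Lc hx hO hKC ((L.S.2.to_le inf_le_left).map _)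
  set h := k * g with hh
  have hmove : ∀ y ∈ (L.S : Subgroup G), y * L.φ c = L.φ c * y → h * y * h⁻¹ ∈ (L.S : Subgroup G) := fun y hy hyc => by
    rw [show h * y * h⁻¹ = k * (g * y * g⁻¹) * k⁻¹ by rw [hh]; group]
    exact hkS _ ⟨y, ⟨hy, mem_centralizer_singleton_iff.2 hyc⟩, rfl⟩
  have hhc : h * L.φ c * h⁻¹ = L.z := by
    rw [show h * L.φ c * h⁻¹ = k * (g * L.φ c * g⁻¹) * k⁻¹ by rw [hh]; group, hg,
      mem_centralizer_singleton_iff.1 hk, mul_inv_cancel_right]
  have hzS : L.z ∈ (L.S : Subgroup G) := L.mem (by norm_num)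
  obtain ⟨w, hw, hwe⟩ := (L.range _).1 (hmove L.z hzS ((L.root.z_comm _ (L.mem hc)).symm))
  have hw2 : mulN w w = 0 := (L.sq_iff hw (by norm_num)).2 (by
    rw [hwe, L.φ_zero, show h * L.z * h⁻¹ * (h * L.z * h⁻¹) = h * (L.z * L.z) * h⁻¹ by group, L.root.z_sq,
      mul_one, mul_inv_cancel])
  have hw1 : h * L.z * h⁻¹ ≠ 1 := fun e => L.root.z_ne (conj_eq_one_iff.1 e)
  have hwz : h * L.z * h⁻¹ ≠ L.z := fun e => hz (mul_left_cancel (mul_right_cancel (hhc.trans e.symm)))
  have hwV : inM mV w = true := by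
    by_contra hne
    rw [Bool.not_eq_true] at hne
    have hw0 : w ≠ 0 := fun e => hw1 (by rw [← hwe, e, L.φ_zero])
    have hw10 : w ≠ 10 := fun e => hwz (by rw [← hwe, e]; rfl)
    have h8 := (cent_spec hw hw2 hw0 hw10).2.1 hne
    have h9 := (cent_spec hc hsq hc0 hc10).2.2 hcm
    set ps := fun u => mulN u u == w
    have : Nat.card {g : G // ∃ a < 512, pr a = true ∧ L.φ a = g} ≤
        Nat.card {g : G // ∃ a < 512, ps a = true ∧ L.φ a = g} := by
      have hm : ∀ y : {g : G // ∃ a < 512, pr a = true ∧ L.φ a = g},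
          ∃ a < 512, ps a = true ∧ L.φ a = h * y.1 * h⁻¹ := fun y => by
        obtain ⟨u, hu, hpu, hue⟩ := y.2
        simp only [pr, Bool.and_eq_true, beq_iff_eq] at hpu
        obtain ⟨d, hd, hde⟩ := (L.range _).1 (hmove _ (L.mem hu) ((L.cm_iff hu hc).1 hpu.1))
        refine ⟨d, hd, beq_iff_eq.2 ((L.sq_iff hd hw).2 ?_), by rw [hde, hue]⟩
        rw [hde, hwe, show h * L.φ u * h⁻¹ * (h * L.φ u * h⁻¹) = h * (L.φ u * L.φ u) * h⁻¹ by group,
          (L.sq_iff hu (show 10 < 512 by norm_num)).1 hpu.2]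
        rfl
      exact Nat.card_le_card_of_injective (fun y => ⟨_, hm y⟩)
        fun a b e => Subtype.ext (mul_left_cancel (mul_right_cancel (congrArg Subtype.val e)))
    rw [card_filter_le, card_filter_le] at this
    simp only [pr, ps] at this h8 h9
    omega
  obtain ⟨n, hn, hnz⟩ := L.exists_to F (show h * L.z * h⁻¹ ∈ L.V from ⟨w, hw, hwV, hwe⟩) hw1
  have hfz : n⁻¹ * h * L.z = L.z * (n⁻¹ * h) := by
    refine mul_inv_eq_iff_eq_mul.1 ?_
    calc n⁻¹ * h * L.z * (n⁻¹ * h)⁻¹ = n⁻¹ * (h * L.z * h⁻¹) * n := by group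
      _ = n⁻¹ * (n * L.z * n⁻¹) * n := by rw [hnz]
      _ = L.z := by group
  have hval : n⁻¹ * h * L.φ c * (n⁻¹ * h)⁻¹ = n⁻¹ * L.z * n := by
    rw [← hhc]; group
  refine ⟨n⁻¹ * h, mem_centralizer_singleton_iff.2 hfz, ?_, fun e => h1 (conj_eq_one_iff.1 e), fun e => hz ?_⟩
  · rw [hval]
    have := (mem_normalizer_iff.1 (L.normalizer_A (inv_mem hn)) L.z).1 L.z_mem_V
    rwa [inv_inv] at this
  · exact mul_left_cancel (mul_right_cancel (e.trans (mul_inv_eq_iff_eq_mul.2 hfz).symm))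

theorem finish : Cfsg.Spor.IsoHS G := by
  classical
  haveI : Fact (Nat.Prime 2) := ⟨Nat.prime_two⟩
  haveI : Fact (Nat.Prime 5) := ⟨by norm_num⟩
  set H := centralizer ({L.z} : Set G) with hHdef
  set M := normalizer (L.V : Set G) with hMdef
  have hz2 : orderOf L.z = 2 := orderOf_eq_prime (by rw [pow_two]; exact L.root.z_sq) L.root.z_ne
  obtain ⟨haV, ha1, haz, ha2⟩ := L.a_facts F Lc hx hO
  have hAM : L.A ≤ M := (L.sub_le _).trans L.S_le_normalizer_V
  have hRH : L.R ≤ H := (L.sub_le _).trans L.S_le_cent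
  -- the automizer of `V`
  let vec : Multiplicative (Fin 3 → ZMod 2) →* L.V :=
    { toFun := fun w => ⟨L.φ (encV w.toAdd), _, (encV_mem _).1, (encV_mem _).2.1, rfl⟩
      map_one' := Subtype.ext (by
        show L.φ (encV 0) = 1
        rw [show encV 0 = 0 from rfl, L.φ_zero])
      map_mul' := fun x y => Subtype.ext (by
        show L.φ (encV (x.toAdd + y.toAdd)) = L.φ (encV x.toAdd) * L.φ (encV y.toAdd)
        rw [L.mul _ (encV_mem _).1 _ (encV_mem _).1, encV_spec]) }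
  have hvec : Function.Bijective vec := by
    refine (Nat.bijective_iff_injective_and_card _).2 ⟨(injective_iff_map_eq_one vec).2 fun w hw => ?_, ?_⟩
    · have := (L.one_iff (encV_mem _).1).1 (congrArg Subtype.val hw)
      exact toAdd_eq_zero.1 ((encV_mem _).2.2 this)
    · rw [Syl.V, L.card_sub, card_mV, Nat.card_congr (Multiplicative.toAdd), Nat.card_fun, Nat.card_fin,
        Nat.card_zmod]
      norm_num
  let vecE := MulEquiv.ofBijective vec hvec
  let act : M → ((Fin 3 → ZMod 2) →ₗ[ZMod 2] (Fin 3 → ZMod 2)) := fun n =>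
    (AddMonoidHom.mk' (fun w => (vecE.symm ⟨(n : G) * (vecE (Multiplicative.ofAdd w) : G) * (n : G)⁻¹,
        (mem_normalizer_iff.1 n.2 _).1 (vecE (Multiplicative.ofAdd w)).2⟩).toAdd) fun x y => by
      rw [← toAdd_mul, ← map_mul]
      congr 2
      apply Subtype.ext
      simp only [Subgroup.coe_mul, ofAdd_add, map_mul]
      group).toZModLinearMap 2
  have act_apply : ∀ (n : M) (w : Fin 3 → ZMod 2),
      ((vecE (Multiplicative.ofAdd (act n w))) : G) = (n : G) * (vecE (Multiplicative.ofAdd w) : G) * (n : G)⁻¹ :=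
    fun n w => by
      show ((vecE (Multiplicative.ofAdd (Multiplicative.toAdd (vecE.symm _)))) : G) = _
      rw [ofAdd_toAdd, MulEquiv.apply_symm_apply]
  have hext : ∀ {x y : Fin 3 → ZMod 2}, ((vecE (Multiplicative.ofAdd x)) : G) = vecE (Multiplicative.ofAdd y) →
      x = y := fun h => Multiplicative.ofAdd.injective (vecE.injective (Subtype.ext h))
  let actHom : M →* ((Fin 3 → ZMod 2) →ₗ[ZMod 2] (Fin 3 → ZMod 2)) :=
    { toFun := act
      map_one' := LinearMap.ext fun w => hext (by rw [act_apply]; simp)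
      map_mul' := fun n m => LinearMap.ext fun w => hext (by
        rw [act_apply, Module.End.mul_apply, act_apply, act_apply, Subgroup.coe_mul]
        group) }
  let Ψ : M →* GL (Fin 3) (ZMod 2) := (Matrix.GeneralLinearGroup.toLin).symm.toMonoidHom.comp actHom.toHomUnits
  have hΨ1 : ∀ n : M, Ψ n = 1 ↔ (n : G) ∈ L.A := by
    intro n
    rw [← L.cent_V F Lc hx hO]
    constructor
    · intro h
      have h1 : act n = 1 := by
        have h' := congrArg Matrix.GeneralLinearGroup.toLin h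
        simp only [Ψ, MonoidHom.coe_comp, Function.comp_apply, MulEquiv.coe_toMonoidHom, MulEquiv.apply_symm_apply,
          map_one] at h'
        exact congrArg Units.val h'
      refine mem_centralizer_iff.2 fun v hv => ?_
      obtain ⟨w, hw⟩ := vecE.surjective ⟨v, hv⟩
      have h2 := act_apply n w.toAdd
      rw [h1, Module.End.one_apply, ofAdd_toAdd, hw] at h2
      have h2' : v = (n : G) * v * (n : G)⁻¹ := h2
      exact eq_mul_inv_iff_mul_eq.1 h2'
    · intro h
      have h1 : act n = 1 := LinearMap.ext fun w => hext (by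
        rw [act_apply, Module.End.one_apply, ← mem_centralizer_iff.1 h _ (vecE (Multiplicative.ofAdd w)).2,
          mul_inv_cancel_right])
      show Matrix.GeneralLinearGroup.toLin.symm (actHom.toHomUnits n) = 1
      rw [show actHom.toHomUnits n = 1 from Units.ext h1, map_one]
  have hΨs : Function.Surjective Ψ := by
    intro g
    set l : (Fin 3 → ZMod 2) →ₗ[ZMod 2] (Fin 3 → ZMod 2) :=
      ((Matrix.GeneralLinearGroup.toLin g : LinearMap.GeneralLinearGroup (ZMod 2) (Fin 3 → ZMod 2)) :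
        (Fin 3 → ZMod 2) →ₗ[ZMod 2] (Fin 3 → ZMod 2)) with hl
    have hlinj : Function.Injective l := fun x y e => by
      have h1 := congrArg (fun f : (Fin 3 → ZMod 2) →ₗ[ZMod 2] (Fin 3 → ZMod 2) => (f x, f y))
        (Units.inv_mul (Matrix.GeneralLinearGroup.toLin g))
      simp only [Module.End.mul_apply, Module.End.one_apply, Prod.mk.injEq] at h1
      rw [← h1.1, ← h1.2]
      exact congrArg _ e
    let gv : (Fin 3 → ZMod 2) → G := fun w => (vecE (Multiplicative.ofAdd (l w)) : G)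
    have gne : ∀ {x y}, x ≠ y → gv x ≠ gv y := fun h e => h (hlinj (hext e))
    have gne1 : ∀ {x}, x ≠ 0 → gv x ≠ 1 := fun {x} h e => by
      refine gne h ?_
      rw [e]
      show (1 : G) = (vecE (Multiplicative.ofAdd (l 0)) : G)
      rw [map_zero, ofAdd_zero, map_one, OneMemClass.coe_one]
    have gmul : ∀ x y, gv (x + y) = gv x * gv y := fun x y => by
      simp only [gv, map_add, ofAdd_add, map_mul, Subgroup.coe_mul]
    have dd := vec_ne
    obtain ⟨n, hn, e1, e2, e3⟩ := F.gl (gv ![1, 1, 0]) (vecE _).2 (gv ![1, 0, 1]) (vecE _).2 (gv ![1, 0, 0])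
      (vecE _).2 (gne1 dd.1) (gne1 dd.2.1) (gne dd.2.2.1) (gne1 dd.2.2.2.1) (gne dd.2.2.2.2.1)
      (gne dd.2.2.2.2.2.1) (by rw [← gmul]; exact gne dd.2.2.2.2.2.2)
    refine ⟨⟨n, L.normalizer_A hn⟩, Matrix.GeneralLinearGroup.toLin.injective (Units.ext ?_)⟩
    simp only [Ψ, MonoidHom.coe_comp, Function.comp_apply, MulEquiv.coe_toMonoidHom, MulEquiv.apply_symm_apply]
    show act ⟨n, L.normalizer_A hn⟩ = l
    obtain ⟨c1, c2, c3, hbas⟩ := encV_basis
    have hb : ∀ w c, encV w = c → act ⟨n, L.normalizer_A hn⟩ w = l w → True := fun _ _ _ _ => trivial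
    have key : ∀ (w : Fin 3 → ZMod 2) (c : ℕ), encV w = c → n * L.φ c * n⁻¹ = gv w →
        act ⟨n, L.normalizer_A hn⟩ w = l w := fun w c hc h => hext (by
      rw [act_apply]
      show n * L.φ (encV w) * n⁻¹ = _
      rw [hc]
      exact h)
    refine LinearMap.ext fun x => ?_
    rw [hbas x]
    simp only [map_add, map_smul]
    rw [key _ 10 c1 e1, key _ 34 c2 e2, key _ 2 c3 e3]
  -- the orders
  have hcardA : Nat.card L.A = 64 := by rw [Syl.A, L.card_sub, card_mA]
  have hker : Ψ.ker = L.A.subgroupOf M := by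
    ext n
    rw [MonoidHom.mem_ker, hΨ1, mem_subgroupOf]
  have hcardM : Nat.card M = 64 * 168 := by
    rw [Subgroup.card_eq_card_quotient_mul_card_subgroup Ψ.ker,
      Nat.card_congr (QuotientGroup.quotientKerEquivOfSurjective Ψ hΨs).toEquiv, hker,
      Nat.card_congr (subgroupOfEquivOfLe hAM).toEquiv, hcardA,
      Matrix.card_GL_field, ZMod.card]
    simp [Fin.prod_univ_three]
  set V1 := {g : G // ∃ a < 512, (inM mV a && !(a == 0)) = true ∧ L.φ a = g}
  have hV1 : ∀ {g : G}, (∃ a < 512, (inM mV a && !(a == 0)) = true ∧ L.φ a = g) ↔ g ∈ L.V ∧ g ≠ 1 := by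
    intro g
    constructor
    · rintro ⟨a, ha, hp, rfl⟩
      simp only [Bool.and_eq_true, Bool.not_eq_true', beq_eq_false_iff_ne] at hp
      exact ⟨⟨a, ha, hp.1, rfl⟩, fun e => hp.2 ((L.one_iff ha).1 e)⟩
    · rintro ⟨⟨a, ha, hm, rfl⟩, h1⟩
      exact ⟨a, ha, by simp [hm, show a ≠ 0 from fun e => h1 (by rw [e, L.φ_zero])], rfl⟩
  have hstab : Nat.card (M ⊓ H : Subgroup G) = 1536 := by
    have hmem : ∀ q : M ⧸ H.subgroupOf M,
        ∃ a < 512, (inM mV a && !(a == 0)) = true ∧ L.φ a = (q.out : G) * L.z * (q.out : G)⁻¹ :=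
      fun q => hV1.2 ⟨(mem_normalizer_iff.1 q.out.2 _).1 L.z_mem_V, fun e => L.root.z_ne (conj_eq_one_iff.1 e)⟩
    have hb : Function.Bijective (fun q => (⟨_, hmem q⟩ : V1)) := by
      constructor
      · intro q q' e
        have e' : (q.out : G) * L.z * (q.out : G)⁻¹ = (q'.out : G) * L.z * (q'.out : G)⁻¹ := congrArg Subtype.val e
        rw [← q.out_eq', ← q'.out_eq', QuotientGroup.eq, mem_subgroupOf, mem_centralizer_singleton_iff]
        show (q.out : G)⁻¹ * (q'.out : G) * L.z = L.z * ((q.out : G)⁻¹ * (q'.out : G))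
        calc (q.out : G)⁻¹ * (q'.out : G) * L.z
            = (q.out : G)⁻¹ * ((q'.out : G) * L.z * (q'.out : G)⁻¹) * (q'.out : G) := by group
          _ = L.z * ((q.out : G)⁻¹ * (q'.out : G)) := by rw [← e']; group
      · rintro ⟨u, hu⟩
        obtain ⟨n, hn, hnz⟩ := L.exists_to F (hV1.1 hu).1 (hV1.1 hu).2
        obtain ⟨d, hd⟩ := QuotientGroup.mk_out_eq_mul (H.subgroupOf M) ⟨n, L.normalizer_A hn⟩
        refine ⟨QuotientGroup.mk ⟨n, L.normalizer_A hn⟩, Subtype.ext ?_⟩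
        show ((QuotientGroup.mk (s := H.subgroupOf M) (⟨n, L.normalizer_A hn⟩ : M)).out : G) * L.z * _⁻¹ = u
        rw [hd, Subgroup.coe_mul, mul_inv_rev, ← hnz]
        have h := mem_centralizer_singleton_iff.1 (mem_subgroupOf.1 d.2)
        calc n * (d : G) * L.z * (((d : M) : G)⁻¹ * n⁻¹) = n * ((d : G) * L.z) * (d : G)⁻¹ * n⁻¹ := by group
          _ = n * L.z * n⁻¹ := by rw [h]; group
    have h7 := (Nat.card_congr (Equiv.ofBijective _ hb)).trans ((card_filter_le L _).trans card_pV1)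
    have h := Subgroup.card_eq_card_quotient_mul_card_subgroup (H.subgroupOf M)
    rw [hcardM, h7, Nat.card_congr
      (show H.subgroupOf M ≃ (M ⊓ H : Subgroup G) from
        { toFun := fun a => ⟨a.1.1, a.1.2, a.2⟩
          invFun := fun a => ⟨⟨a.1, a.2.1⟩, a.2.2⟩
          left_inv := fun _ => rfl
          right_inv := fun _ => rfl })] at h
    omega
  -- the five conjugates of `V`
  set K0 := M.subgroupOf H with hK0
  set PR := {g : G // ∃ a < 512, pR a = true ∧ L.φ a = g}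
  set PV := {g : G // ∃ a < 512, (inM mV a && !(a == 0) && !(a == 10)) = true ∧ L.φ a = g}
  have hPR : ∀ {g : G}, (∃ a < 512, pR a = true ∧ L.φ a = g) ↔ g ∈ L.R ∧ g * g = 1 ∧ g ≠ 1 ∧ g ≠ L.z := by
    intro g
    constructor
    · rintro ⟨a, ha, hp, rfl⟩
      simp only [pR, Bool.and_eq_true, beq_iff_eq, Bool.not_eq_true', beq_eq_false_iff_ne] at hp
      exact ⟨⟨a, ha, hp.1.1.1, rfl⟩, by rw [L.mul a ha a ha, hp.1.1.2, L.φ_zero],
        fun e => hp.1.2 ((L.one_iff ha).1 e), fun e => hp.2 ((L.eq_iff ha (by norm_num)).1 e)⟩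
    · rintro ⟨⟨a, ha, hm, rfl⟩, h2, h1, hz⟩
      refine ⟨a, ha, ?_, rfl⟩
      simp [pR, hm, (L.sq_iff ha (show 0 < 512 by norm_num)).2 (by rw [h2, L.φ_zero]),
        show a ≠ 0 from fun e => h1 (by rw [e, L.φ_zero]), show a ≠ 10 from fun e => hz (by rw [e]; rfl)]
  have hPV : ∀ {g : G}, (∃ a < 512, (inM mV a && !(a == 0) && !(a == 10)) = true ∧ L.φ a = g) ↔
      g ∈ L.V ∧ g ≠ 1 ∧ g ≠ L.z := by
    intro g
    constructor
    · rintro ⟨a, ha, hp, rfl⟩
      simp only [Bool.and_eq_true, Bool.not_eq_true', beq_eq_false_iff_ne] at hp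
      exact ⟨⟨a, ha, hp.1.1, rfl⟩, fun e => hp.1.2 ((L.one_iff ha).1 e),
        fun e => hp.2 ((L.eq_iff ha (by norm_num)).1 e)⟩
    · rintro ⟨⟨a, ha, hm, rfl⟩, h1, hz⟩
      exact ⟨a, ha, by simp [hm, show a ≠ 0 from fun e => h1 (by rw [e, L.φ_zero]),
        show a ≠ 10 from fun e => hz (by rw [e]; rfl)], rfl⟩
  have hconjz : ∀ {h v : G}, h ∈ H → v ≠ L.z → h * v * h⁻¹ ≠ L.z := fun {h v} hh hv e => hv (by
    calc v = h⁻¹ * (h * v * h⁻¹) * h := by group
      _ = L.z := by rw [e, mul_assoc, ← mem_centralizer_singleton_iff.1 hh, inv_mul_cancel_left])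
  -- an element of `C(z)` moving an element of `V` inside `V` normalizes `V`
  have uniq : ∀ h ∈ H, ∀ v ∈ L.V, v ≠ 1 → v ≠ L.z → h * v * h⁻¹ ∈ L.V → h ∈ M := by
    intro h hh v hv h1 hvz hw
    have hw1 : h * v * h⁻¹ ≠ 1 := fun e => h1 (conj_eq_one_iff.1 e)
    obtain ⟨n, hn, hnz, hna⟩ := L.exists_move F Lc hv h1 hvz
    obtain ⟨n', hn', hnz', hna'⟩ := L.exists_move F Lc hw hw1 (hconjz hh hvz)
    have hg : n'⁻¹ * h * n ∈ centralizer ({L.z, L.a} : Set G) := mem_centralizer_iff.2 (by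
      have key : ∀ x y : G, n * x * n⁻¹ = y → n' * x * n'⁻¹ = h * y * h⁻¹ →
          x * (n'⁻¹ * h * n) = n'⁻¹ * h * n * x := fun x y e1 e2 => by
        calc x * (n'⁻¹ * h * n) = n'⁻¹ * (n' * x * n'⁻¹) * h * n := by group
          _ = n'⁻¹ * (h * y * h⁻¹) * h * n := by rw [e2]
          _ = n'⁻¹ * h * n * x := by rw [← e1]; group
      rintro x (rfl | rfl)
      · exact key _ L.z hnz (by rw [hnz', mem_centralizer_singleton_iff.1 hh, mul_inv_cancel_right])
      · exact key _ v hna hna')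
    have := mul_mem (mul_mem hn' (L.S_le_normalizer_V (L.cent_a_le F Lc hx hO hg))) (inv_mem hn)
    rwa [show n' * (n'⁻¹ * h * n) * n⁻¹ = h by group] at this
  have hcard5 : Nat.card (H ⧸ K0) = 5 := by
    have hmem : ∀ qv : (H ⧸ K0) × PV, ∃ a < 512, pR a = true ∧ L.φ a = (qv.1.out : G) * qv.2.1 * (qv.1.out : G)⁻¹ := by
      intro qv
      obtain ⟨h1, h2, h3⟩ := hPV.1 qv.2.2
      refine hPR.2 ⟨(mem_normalizer_iff.1 (L.norm_R F Lc hx hO qv.1.out.2).1 _).1 (L.V_le_R h1), ?_,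
        fun e => h2 (conj_eq_one_iff.1 e), hconjz qv.1.out.2 h3⟩
      rw [show (qv.1.out : G) * qv.2.1 * (qv.1.out : G)⁻¹ * ((qv.1.out : G) * qv.2.1 * (qv.1.out : G)⁻¹) =
        (qv.1.out : G) * (qv.2.1 * qv.2.1) * (qv.1.out : G)⁻¹ by group, L.sq_V h1, mul_one, mul_inv_cancel]
    have hb : Function.Bijective (fun qv => (⟨_, hmem qv⟩ : PR)) := by
      constructor
      · rintro ⟨q, v⟩ ⟨q', v'⟩ e
        have e' : (q.out : G) * v.1 * (q.out : G)⁻¹ = (q'.out : G) * v'.1 * (q'.out : G)⁻¹ := congrArg Subtype.val e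
        obtain ⟨h1, h2, h3⟩ := hPV.1 v.2
        have hq : q = q' := by
          rw [← q.out_eq', ← q'.out_eq', QuotientGroup.eq, mem_subgroupOf]
          show (q.out : G)⁻¹ * (q'.out : G) ∈ M
          have := uniq ((q'.out : G)⁻¹ * (q.out : G)) (mul_mem (inv_mem q'.out.2) q.out.2) v.1 h1 h2 h3 (by
            rw [show (q'.out : G)⁻¹ * (q.out : G) * v.1 * ((q'.out : G)⁻¹ * (q.out : G))⁻¹ =
              (q'.out : G)⁻¹ * ((q.out : G) * v.1 * (q.out : G)⁻¹) * (q'.out : G) by group, e',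
              show (q'.out : G)⁻¹ * ((q'.out : G) * v'.1 * (q'.out : G)⁻¹) * (q'.out : G) = v'.1 by group]
            exact (hPV.1 v'.2).1)
          simpa [mul_inv_rev] using inv_mem this
        subst hq
        rw [Subtype.ext (mul_left_cancel (mul_right_cancel e'))]
      · rintro ⟨u, hu⟩
        obtain ⟨hu1, hu2, hu3, hu4⟩ := hPR.1 hu
        obtain ⟨f, hf, hfV, hf1, hfz⟩ := L.exists_into_V F Lc hx hO hu1 hu2 hu3 hu4
        obtain ⟨d, hd⟩ := QuotientGroup.mk_out_eq_mul K0 (⟨f, hf⟩ : H)⁻¹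
        have hdH : ((d : H) : G) ∈ H := (d : H).2
        refine ⟨⟨QuotientGroup.mk (⟨f, hf⟩ : H)⁻¹, ⟨((d : H) : G)⁻¹ * (f * u * f⁻¹) * ((d : H) : G),
          hPV.2 ⟨?_, fun e => hf1 ?_, ?_⟩⟩⟩, Subtype.ext ?_⟩
        · exact (mem_normalizer_iff''.1 (mem_subgroupOf.1 d.2) _).1 hfV
        · rw [show f * u * f⁻¹ = ((d : H) : G) * (((d : H) : G)⁻¹ * (f * u * f⁻¹) * ((d : H) : G)) * ((d : H) : G)⁻¹
            by group, e, mul_one, mul_inv_cancel]
        · have := hconjz (inv_mem hdH) hfz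
          rwa [inv_inv] at this
        · show ((QuotientGroup.mk (s := K0) (⟨f, hf⟩ : H)⁻¹).out : G) * _ * _⁻¹ = u
          rw [hd, Subgroup.coe_mul, Subgroup.coe_inv]
          group
    have h := (Nat.card_congr (Equiv.ofBijective _ hb))
    rw [Nat.card_prod, card_filter_le L, card_filter_le L, card_pR, card_pV] at h
    omega
  have hcardH : Nat.card H = 5 * 1536 := by
    rw [Subgroup.card_eq_card_quotient_mul_card_subgroup K0, hcard5, ← hstab]
    congr 1
    exact Nat.card_congr (show K0 ≃ (M ⊓ H : Subgroup G) from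
      { toFun := fun a => ⟨a.1.1, a.2, a.1.2⟩
        invFun := fun a => ⟨⟨a.1, a.2.2⟩, a.2.1⟩
        left_inv := fun _ => rfl
        right_inv := fun _ => rfl })
  let e5 : (H ⧸ K0) ≃ Fin 5 := Finite.equivFinOfCardEq hcard5
  let π : H →* Equiv.Perm (Fin 5) := e5.permCongrHom.toMonoidHom.comp (MulAction.toPermHom H (H ⧸ K0))
  have hkerπ : π.ker = K0.normalCore := by
    rw [normalCore_eq_ker]
    ext x
    simp only [π, MonoidHom.mem_ker, MonoidHom.coe_comp, Function.comp_apply]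
    exact e5.permCongrHom.map_eq_one_iff
  have hnc : ∀ {x : H}, x ∈ K0.normalCore → ∀ b : H, ((b : G) * x * (b : G)⁻¹) ∈ M := fun hx b => hx b
  have hRle : L.R.subgroupOf H ≤ K0.normalCore := fun r hr b =>
    mem_subgroupOf.2 (L.S_le_normalizer_V (L.sub_le closed_mR
      ((mem_normalizer_iff.1 (L.norm_R F Lc hx hO b.2).1 _).1 (mem_subgroupOf.1 hr))))
  have hSK : ∀ s : H, (s : G) ∈ (L.S : Subgroup G) → s ∈ K0.normalCore → (s : G) ∈ L.R := by
    intro s hsS hsK
    obtain ⟨x, hxlt, hxe⟩ := (L.range _).1 hsS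
    by_contra hsR
    have hxR : inM mR x = false := by
      rw [← Bool.not_eq_true]
      exact fun e => hsR (hxe ▸ ⟨x, hxlt, e, rfl⟩)
    have h320 : L.φ 320 ∈ L.R ∧ L.φ 320 * L.φ 320 = 1 ∧ L.φ 320 ≠ 1 ∧ L.φ 320 ≠ L.z :=
      hPR.1 ⟨320, by norm_num, by decide +kernel, rfl⟩
    obtain ⟨f, hf, hfV, hf1, hfz⟩ := L.exists_into_V F Lc hx hO h320.1 h320.2.1 h320.2.2.1 h320.2.2.2
    set W := L.V.map (MulAut.conj f⁻¹).toMonoidHom with hW
    have hmW : ∀ {y : G}, f * y * f⁻¹ ∈ L.V → y ∈ W := fun {y} h =>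
      ⟨_, h, show f⁻¹ * (f * y * f⁻¹) * f⁻¹⁻¹ = y by group⟩
    have hWm : ∀ {y : G}, y ∈ W → f * y * f⁻¹ ∈ L.V := by
      rintro _ ⟨v, hv, rfl⟩
      show f * (f⁻¹ * v * f⁻¹⁻¹) * f⁻¹ ∈ L.V
      rwa [show f * (f⁻¹ * v * f⁻¹⁻¹) * f⁻¹ = v by group]
    have hWR : W ≤ L.R := fun y hy =>
      ((mem_normalizer_iff.1 (L.norm_R F Lc hx hO hf).1 y).2 (L.V_le_R (hWm hy)))
    have hzW : L.z ∈ W := hmW (by
      rw [mem_centralizer_singleton_iff.1 hf, mul_inv_cancel_right]; exact L.z_mem_V)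
    have h10_320 : L.φ (mulN 10 320) = L.z * L.φ 320 := (L.mul 10 (by norm_num) 320 (by norm_num)).symm
    obtain ⟨d, hd, hdW, hd0, hd10, hd320, hd330⟩ : ∃ d < 512, L.φ d ∈ W ∧ d ≠ 0 ∧ d ≠ 10 ∧ d ≠ 320 ∧
        d ≠ mulN 10 320 := by
      by_contra hne
      push Not at hne
      have h4 : Nat.card W ≤ 4 := by
        refine (Nat.card_le_card_of_surjective (fun k : Fin 4 => (![(⟨1, one_mem _⟩ : W), ⟨L.z, hzW⟩,
          ⟨L.φ 320, hmW hfV⟩, ⟨L.z * L.φ 320, mul_mem hzW (hmW hfV)⟩] k)) fun w => ?_).trans (Nat.card_fin 4).le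
        obtain ⟨c, hc, hcm, hce⟩ := hWR w.2
        by_cases e1 : c = 0
        · exact ⟨0, Subtype.ext (by rw [← hce, e1, L.φ_zero]; rfl)⟩
        by_cases e2 : c = 10
        · exact ⟨1, Subtype.ext (by rw [← hce, e2]; rfl)⟩
        by_cases e3 : c = 320
        · exact ⟨2, Subtype.ext (by rw [← hce, e3]; rfl)⟩
        have e4 := hne c hc (by rw [hce]; exact w.2) e1 e2 e3
        exact ⟨3, Subtype.ext (by rw [← hce, e4, h10_320]; rfl)⟩
      rw [hW, card_map_of_injective (MulAut.conj f⁻¹).injective, Syl.V, L.card_sub, card_mV] at h4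
      norm_num at h4
    have hsqW : ∀ {y : G}, y ∈ W → y * y = 1 := fun {y} hy => by
      have := L.sq_V (hWm hy)
      rw [show f * y * f⁻¹ * (f * y * f⁻¹) = f * (y * y) * f⁻¹ by group, conj_eq_one_iff] at this
      exact this
    have hcW : ∀ {y y' : G}, y ∈ W → y' ∈ W → y * y' = y' * y := fun {y y'} hy hy' => by
      have := L.comm_V (hWm hy) (hWm hy')
      rw [show f * y * f⁻¹ * (f * y' * f⁻¹) = f * (y * y') * f⁻¹ by group,
        show f * y' * f⁻¹ * (f * y * f⁻¹) = f * (y' * y) * f⁻¹ by group] at this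
      exact mul_left_cancel (mul_right_cancel this)
    have hlt10 : mulN 10 320 < 512 := lt (by norm_num) (by norm_num)
    have hl : ∀ y ∈ wList d, y < 512 ∧ L.φ y ∈ W := by
      intro y hy
      simp only [wList, List.mem_cons, List.not_mem_nil, or_false] at hy
      have m1 : L.φ (mulN 10 320) ∈ W := by rw [h10_320]; exact mul_mem hzW (hmW hfV)
      rcases hy with rfl | rfl | rfl | rfl | rfl | rfl | rfl | rfl
      · exact ⟨by norm_num, by rw [L.φ_zero]; exact one_mem _⟩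
      · exact ⟨by norm_num, hzW⟩
      · exact ⟨by norm_num, hmW hfV⟩
      · exact ⟨hlt10, m1⟩
      · exact ⟨hd, hdW⟩
      · exact ⟨lt (by norm_num) hd, by rw [← L.mul 10 (by norm_num) d hd]; exact mul_mem hzW hdW⟩
      · exact ⟨lt (by norm_num) hd, by rw [← L.mul 320 (by norm_num) d hd]; exact mul_mem (hmW hfV) hdW⟩
      · exact ⟨lt hlt10 hd, by rw [← L.mul _ hlt10 d hd]; exact mul_mem m1 hdW⟩
    obtain ⟨-, hdm, hde⟩ := id (hWR hdW)
    have hpd : (pR d && cm 320 d) = true := by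
      obtain ⟨c, hc, hp, hce⟩ := hPR.2 ⟨hWR hdW, hsqW hdW, fun e => hd0 ((L.one_iff hd).1 e),
        fun e => hd10 ((L.eq_iff hd (by norm_num)).1 e)⟩
      rw [(L.eq_iff hc hd).1 hce] at hp
      rw [hp, Bool.true_and, L.cm_iff (by norm_num) hd]
      exact hcW (hmW hfV) hdW
    have hnd : (wList d).Nodup := by
      have h := allN_spec wList_distinct hd
      simpa [hpd, hd320, hd330] using h
    have hWall : ∀ y ∈ W, ∃ c ∈ wList d, L.φ c = y := by
      intro y hy
      have hb : Function.Bijective (fun k : Fin (wList d).length => (⟨_, (hl _ (List.get_mem _ k)).2⟩ : W)) := by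
        refine (Nat.bijective_iff_injective_and_card _).2 ⟨fun a b e => hnd.injective_get
          (L.inj _ (hl _ (List.get_mem _ a)).1 _ (hl _ (List.get_mem _ b)).1 (congrArg Subtype.val e)), ?_⟩
        rw [hW, card_map_of_injective (MulAut.conj f⁻¹).injective, Syl.V, L.card_sub, card_mV, Nat.card_fin]
        rfl
      obtain ⟨k, hk⟩ := hb.2 ⟨y, hy⟩
      exact ⟨_, List.get_mem _ k, congrArg Subtype.val hk⟩
    have hmeet : (wList d).any (fun x => inM mV x && !(x == 0) && !(x == 10)) = false := by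
      rw [← Bool.not_eq_true]
      intro e
      obtain ⟨c, hc, hp⟩ := List.any_eq_true.1 e
      obtain ⟨h1, h2, h3⟩ := hPV.1 ⟨c, (hl c hc).1, hp, rfl⟩
      have hfM := uniq f hf _ h1 h2 h3 (hWm (hl c hc).2)
      have h4 : L.φ 320 ∈ L.V := (mem_normalizer_iff.1 hfM _).2 hfV
      rw [Syl.V, L.mem_sub _ (by norm_num)] at h4
      exact absurd h4 (by decide +kernel)
    have hker := ker_ok
    unfold kerOk at hker
    have h5 := allN_spec hker hd
    rw [hpd, hmeet] at h5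
    simp only [Bool.not_true, Bool.false_or, Bool.or_eq_true, beq_iff_eq, Bool.false_eq_true, hd320, hd330, false_or] at h5
    have h6 := allN_spec h5 hxlt
    rw [hxR, Bool.false_or] at h6
    obtain ⟨t, ht, h7⟩ := anyN_spec h6
    obtain ⟨c, hc, h8⟩ := List.any_eq_true.1 h7
    rw [Bool.not_eq_true', ← Bool.not_eq_true, List.contains_iff_mem] at h8
    have htH : L.φ t ∈ H := L.S_le_cent (L.mem ht)
    have hb := hnc hsK (⟨f, hf⟩ * (⟨L.φ t, htH⟩ : H)⁻¹)
    have hlts : mulN (mulN (invN t) x) t < 512 := lt (lt (inv_spec ht).1 hxlt) ht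
    have hu : L.φ (mulN (mulN (invN t) x) t) = (L.φ t)⁻¹ * L.φ x * L.φ t := by
      rw [← L.φ_inv ht, L.mul _ (inv_spec ht).1 x hxlt, L.mul _ (lt (inv_spec ht).1 hxlt) t ht]
    have h9 := (mem_normalizer_iff.1 hb _).1 (hWm (hl c hc).2)
    have h10 : L.φ (cjN (mulN (mulN (invN t) x) t) c) ∈ W := hmW (by
      rw [← L.φ_cj hlts (hl c hc).1, hu, hxe]
      convert h9 using 1
      simp only [Subgroup.coe_mul, Subgroup.coe_inv]
      group)
    obtain ⟨c', hc', hce'⟩ := hWall _ h10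
    rw [(L.eq_iff (hl c' hc').1 (cjN_lt hlts (hl c hc).1)).1 hce'] at hc'
    exact h8 hc'
  have hKR : π.ker = L.R.subgroupOf H := by
    have hcardR : Nat.card L.R = 64 := by rw [Syl.R, L.card_sub, card_mR]
    have hrange : Nat.card π.range ∣ 120 := (card_subgroup_dvd_card _).trans (dvd_of_eq (by
      rw [Nat.card_perm, Nat.card_fin]; rfl))
    have hmul : Nat.card π.range * Nat.card π.ker = 7680 := by
      rw [← Nat.card_congr (QuotientGroup.quotientKerEquivRange π).toEquiv,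
        ← Subgroup.card_eq_card_quotient_mul_card_subgroup, hcardH]
    have h8 : 8 ∣ Nat.card π.range := by
      set SH := (L.S : Subgroup G).subgroupOf H
      set r := π.comp SH.subtype
      have hk : Nat.card r.ker ≤ 64 := by
        rw [← hcardR]
        refine Nat.card_le_card_of_injective (fun a => (⟨((a.1 : H) : G), hSK a.1.1 (mem_subgroupOf.1 a.1.2)
          (hkerπ.le a.2)⟩ : L.R)) fun a b e => ?_
        exact Subtype.ext (Subtype.ext (Subtype.ext (congrArg (fun y : L.R => (y : G)) e)))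
      have h := Subgroup.card_eq_card_quotient_mul_card_subgroup r.ker
      rw [Nat.card_congr (QuotientGroup.quotientKerEquivRange r).toEquiv,
        Nat.card_congr (subgroupOfEquivOfLe L.S_le_cent).toEquiv, L.card_S] at h
      obtain ⟨j, hj, hjr⟩ := (Nat.dvd_prime_pow Nat.prime_two (m := 9)).1
        (Dvd.intro (Nat.card r.ker) h.symm : Nat.card r.range ∣ 2 ^ 9)
      have h3 : 3 ≤ j := by
        by_contra hlt
        have : 2 ^ j ≤ 4 := Nat.pow_le_pow_right (by norm_num) (show j ≤ 2 by omega)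
        rw [hjr] at h
        nlinarith
      have hle : r.range ≤ π.range := by
        rintro _ ⟨a, rfl⟩
        exact ⟨_, rfl⟩
      exact ((pow_dvd_pow 2 h3).trans (dvd_of_eq hjr.symm)).trans (card_dvd_of_le hle)
    have h5 : 5 ∣ Nat.card π.range := by
      set q0 : H ⧸ K0 := QuotientGroup.mk (1 : H)
      have ht : Function.Surjective (fun p : π.range => (p : Equiv.Perm (Fin 5)) (e5 q0)) := fun j => by
        obtain ⟨h, hh⟩ := QuotientGroup.mk_surjective (e5.symm j)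
        refine ⟨⟨π h, h, rfl⟩, ?_⟩
        show e5 (h • e5.symm (e5 q0)) = j
        rw [Equiv.symm_apply_apply, show h • q0 = QuotientGroup.mk (h * 1) from rfl, mul_one, hh,
          Equiv.apply_symm_apply]
      haveI : MulAction.IsPretransitive π.range (Fin 5) := ⟨fun x y => by
        obtain ⟨p, hp⟩ := ht x
        obtain ⟨p', hp'⟩ := ht y
        refine ⟨p' * p⁻¹, ?_⟩
        rw [mul_smul, ← hp, ← hp']
        show p' • (p⁻¹ • (p • e5 q0)) = p' • e5 q0
        rw [inv_smul_smul]⟩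
      have h' := Subgroup.index_dvd_card (MulAction.stabilizer π.range (e5 q0))
      rwa [MulAction.index_stabilizer_of_transitive π.range (e5 q0), Nat.card_fin] at h'
    have hle : L.R.subgroupOf H ≤ π.ker := hkerπ ▸ hRle
    refine (eq_of_le_of_card_ge hle ?_).symm
    rw [Nat.card_congr (subgroupOfEquivOfLe hRH).toEquiv, hcardR]
    have h40 : 40 ∣ Nat.card π.range := (Nat.Coprime.mul_dvd_of_dvd_of_dvd (by norm_num) h8 h5 : 8 * 5 ∣ _)
    obtain ⟨j, hj⟩ := h40
    have hj3 : j ∣ 3 := Nat.dvd_of_mul_dvd_mul_left (show 0 < 40 by norm_num) (by rw [← hj]; exact hrange)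
    rcases (Nat.dvd_prime Nat.prime_three).1 hj3 with rfl | rfl
    · exfalso
      have hmi := π.range.card_mul_index
      rw [hj, Nat.card_perm, Nat.card_fin, show Nat.factorial 5 = 120 from rfl] at hmi
      exact no_index_three π.range (by omega)
    · rw [hj] at hmul
      omega
  have hπs : Function.Surjective π := by
    rw [← MonoidHom.range_eq_top]
    refine Subgroup.eq_top_of_card_eq _ ?_
    rw [← Nat.card_congr (QuotientGroup.quotientKerEquivRange π).toEquiv, Nat.card_perm, Nat.card_fin]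
    have h := Subgroup.card_eq_card_quotient_mul_card_subgroup π.ker
    rw [hcardH] at h
    rw [show Nat.card π.ker = 64 by
      rw [hKR, Nat.card_congr (subgroupOfEquivOfLe hRH).toEquiv, Syl.R, L.card_sub, card_mR]] at h
    simp only [Nat.factorial] at h ⊢
    omega
  -- the cores
  have hO2H : Cfsg.pCore 2 H = π.ker := by
    refine le_antisymm ?_ (Core.le_pCore ?_)
    · intro q hq
      rw [hkerπ]
      intro b
      exact mem_subgroupOf.2 (L.S_le_normalizer_V
        (mem_subgroupOf.1 (Core.pCore_le_sylow (L.S.subtype L.S_le_cent) (Normal.conj_mem inferInstance q hq b))))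
    · rw [hKR]
      exact (L.S.2.to_le (L.sub_le closed_mR)).of_equiv (subgroupOfEquivOfLe hRH).symm
  have hO2M : Cfsg.pCore 2 M = Ψ.ker := by
    refine le_antisymm ?_ (Core.le_pCore ?_)
    · intro q hq
      rw [MonoidHom.mem_ker, hΨ1, ← L.cent_V F Lc hx hO]
      refine mem_centralizer_iff.2 fun v hv => ?_
      rcases eq_or_ne v 1 with rfl | h1
      · rw [one_mul, mul_one]
      obtain ⟨n, hn, rfl⟩ := L.exists_to F hv h1
      have h2 := mem_subgroupOf.1 (Core.pCore_le_sylow (L.S.subtype L.S_le_normalizer_V)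
        (Normal.conj_mem inferInstance q hq (⟨n, L.normalizer_A hn⟩ : M)⁻¹))
      have h3 : (n⁻¹ * (q : G) * n) * L.z = L.z * (n⁻¹ * (q : G) * n) := L.root.z_comm _ (by
        simpa [Subgroup.coe_mul] using h2)
      calc n * L.z * n⁻¹ * (q : G) = n * (L.z * (n⁻¹ * (q : G) * n)) * n⁻¹ := by group
        _ = n * ((n⁻¹ * (q : G) * n) * L.z) * n⁻¹ := by rw [h3]
        _ = (q : G) * (n * L.z * n⁻¹) := by group
    · rw [hker]
      exact (L.S.2.to_le (L.sub_le closed_mA)).of_equiv (subgroupOfEquivOfLe hAM).symm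
  -- the extraspecial subgroup
  set E := L.sub mE closed_mE with hE
  have hi37 : L.φ 37 = L.i := rfl
  have hER : E ≤ L.R := by
    rintro _ ⟨c, hc, hm, rfl⟩
    exact ⟨c, hc, ((misc_spec hc).1 hm).1, rfl⟩
  have hzE : L.z ∈ E := ⟨10, by norm_num, mE_codes.1, rfl⟩
  have hEcen : ∀ g ∈ E, (∀ y ∈ E, g * y = y * g) → g = 1 ∨ g = L.z := by
    rintro _ ⟨c, hc, hm, rfl⟩ hg
    rcases ((misc_spec hc).1 hm).2.2.2 with e | e | ⟨y, hy, hyE, hcy⟩
    · exact Or.inl (by rw [e, L.φ_zero])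
    · exact Or.inr (by rw [e]; rfl)
    · rw [← Bool.not_eq_true, L.cm_iff hc hy] at hcy
      exact absurd (hg _ ⟨y, hy, hyE, rfl⟩) hcy
  have hzc : ∀ y ∈ E, L.z * y = y * L.z := fun y hy => (L.root.z_comm y (L.sub_le _ hy)).symm
  have hEex : Cfsg.IsExtraspecial 2 E := by
    refine LargeExtra.extraspecial_of (L.S.2.to_le (L.sub_le closed_mE)) (w := (⟨L.z, hzE⟩ : E))
      (fun e => L.root.z_ne (congrArg Subtype.val e)) (Subtype.ext L.root.z_sq)
      (mem_center_iff.2 fun y => Subtype.ext (hzc y y.2).symm) (fun c hc => ?_) ?_ ?_ ?_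
    · rcases hEcen c c.2 (fun y hy => (congrArg Subtype.val (mem_center_iff.1 hc ⟨y, hy⟩)).symm) with e | e
      · exact Or.inl (Subtype.ext e)
      · exact Or.inr (Subtype.ext e)
    · rintro ⟨_, a, ha, hma, rfl⟩ ⟨_, b, hb, hmb, rfl⟩
      rcases ((misc_spec ha).1 hma).2.2.1 b hb hmb with e | e
      · refine Or.inl (Subtype.ext ?_)
        show L.φ a * L.φ b * (L.φ a)⁻¹ * (L.φ b)⁻¹ = 1
        rw [L.φ_com ha hb, e, L.φ_zero]
      · refine Or.inr (Subtype.ext ?_)
        show L.φ a * L.φ b * (L.φ a)⁻¹ * (L.φ b)⁻¹ = L.z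
        rw [L.φ_com ha hb, e]
        rfl
    · rintro ⟨_, a, ha, hma, rfl⟩
      rcases ((misc_spec ha).1 hma).2.1 with e | e
      · refine Or.inl (Subtype.ext ?_)
        show L.φ a * L.φ a = 1
        rw [L.mul a ha a ha, e, L.φ_zero]
      · refine Or.inr (Subtype.ext ?_)
        show L.φ a * L.φ a = L.z
        rw [L.mul a ha a ha, e]
        rfl
    · obtain ⟨a, ha, h⟩ := anyN_spec mE_codes.2.2.2
      obtain ⟨hma, h⟩ := Bool.and_eq_true_iff.1 h
      obtain ⟨b, hb, h⟩ := anyN_spec h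
      simp only [Bool.and_eq_true, Bool.not_eq_true'] at h
      refine ⟨⟨L.φ a, a, ha, hma, rfl⟩, ⟨L.φ b, b, hb, h.1, rfl⟩, fun e => ?_⟩
      rw [← Bool.not_eq_true, L.cm_iff ha hb] at h
      exact h.2 (congrArg Subtype.val e)
  have hiR : L.i ∈ L.R := ⟨37, by norm_num, by decide +kernel, rfl⟩
  refine Cfsg.Agent.S3346.result L.z hz2 H hHdef L.R ?_ (zpowers L.i) E inferInstance ?_ ?_ hER hEex
    (by rw [hE, L.card_sub, card_mE]) ?_ ?_
    ((QuotientGroup.quotientMulEquivOfEq hO2H).trans (QuotientGroup.quotientKerEquivOfSurjective π hπs))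
    L.V ⟨⟨fun a b => Subtype.ext (L.comm_V a.2 b.2)⟩⟩ (fun v hv => by rw [pow_two]; exact L.sq_V hv)
    (by rw [Syl.V, L.card_sub, card_mV]) L.V_le_R M hMdef ?_
    ((QuotientGroup.quotientMulEquivOfEq hO2M).trans (QuotientGroup.quotientKerEquivOfSurjective Ψ hΨs))
  · rw [hO2H, hKR, subgroupOf_map_subtype, inf_eq_left.2 hRH]
  · rw [Nat.card_zpowers]
    exact orderOf_eq_prime_pow (p := 2) (n := 1) (by rw [pow_one, pow_two, L.root.i_sq]; exact L.root.z_ne)
      (by exact_mod_cast L.root.i_four)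
  · exact le_inf (zpowers_le.2 hiR) (zpowers_le.2 (mem_centralizer_iff.2 fun r hr =>
      (L.el closed_mR el_mR).1 r hr))
  · refine le_antisymm (sup_le (zpowers_le.2 hiR) hER) ?_
    rintro _ ⟨c, hc, hm, rfl⟩
    rcases (misc_spec hc).2.1 hm with e | e
    · exact mem_sup_right ⟨c, hc, e, rfl⟩
    · have h47 : L.φ 47 = L.i⁻¹ := by rw [← hi37, ← L.φ_inv (by norm_num), i_codes.2.1]
      have h1 : L.φ c * L.i⁻¹ ∈ zpowers L.i ⊔ E := mem_sup_right (by
        rw [← h47, L.mul c hc 47 (by norm_num)]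
        exact ⟨_, lt hc (by norm_num), e, rfl⟩)
      have h2 := mul_mem h1 (mem_sup_left (mem_zpowers L.i))
      rwa [inv_mul_cancel_right] at h2
  · apply le_antisymm
    · rintro g ⟨hg, hgE⟩
      refine ⟨hgE, mem_centralizer_iff.2 fun y hy => ?_⟩
      rcases L.root.mem_zpowers_cases hg with rfl | rfl | rfl | rfl
      · rw [one_mul, mul_one]
      · obtain ⟨c, hc, hm, hce⟩ := hgE
        rw [(L.eq_iff hc (show 37 < 512 by norm_num)).1 hce, mE_codes.2.1] at hm
        exact Bool.noConfusion hm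
      · exact (hzc y hy).symm
      · obtain ⟨c, hc, hm, hce⟩ := hgE
        rw [← hi37, ← L.φ_inv (by norm_num), i_codes.2.1] at hce
        rw [(L.eq_iff hc (show 47 < 512 by norm_num)).1 hce, mE_codes.2.2.1] at hm
        exact Bool.noConfusion hm
    · rintro g ⟨hgE, hgc⟩
      refine ⟨?_, hgE⟩
      rcases hEcen g hgE (fun y hy => (mem_centralizer_iff.1 hgc y hy).symm) with rfl | rfl
      · exact one_mem _
      · exact L.root.z_mem_zpowers
  · let f : Multiplicative (ZMod 4 × ZMod 4 × ZMod 4) →* L.A :=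
      { toFun := fun w => ⟨L.φ (encA w.toAdd), _, (encA_mem _).1, (encA_mem _).2.1, rfl⟩
        map_one' := Subtype.ext (by
          show L.φ (encA 0) = 1
          rw [show encA 0 = 0 from rfl, L.φ_zero])
        map_mul' := fun x y => Subtype.ext (by
          show L.φ (encA (x.toAdd + y.toAdd)) = L.φ (encA x.toAdd) * L.φ (encA y.toAdd)
          rw [L.mul _ (encA_mem _).1 _ (encA_mem _).1, encA_spec]) }
    have hf : Function.Bijective f := by
      refine (Nat.bijective_iff_injective_and_card _).2 ⟨(injective_iff_map_eq_one f).2 fun w hw => ?_, ?_⟩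
      · exact toAdd_eq_zero.1 ((encA_mem _).2.2 ((L.one_iff (encA_mem _).1).1 (congrArg Subtype.val hw)))
      · rw [hcardA, Nat.card_congr (Multiplicative.toAdd), Nat.card_prod, Nat.card_prod, Nat.card_zmod]
    exact ((MulEquiv.subgroupCongr (hO2M.trans hker)).trans (subgroupOfEquivOfLe hAM)).trans
      (MulEquiv.ofBijective f hf).symm

end Syl

end Cfsg.Agent.HSSylow
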