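import Cfsg.Agent.HSSylow.YClass
import Cfsg.Agent.HSSylow.Generic
import Cfsg.Agent.TwoTransfer.Basic

/-!
An overgroup of `C(z)` and `N(A)` is the whole group: it controls the conjugates of `z`, contains the centralizer
of `q` by two exact transfers, hence every conjugate of `z`.
-/

set_option autoImplicit false
set_option maxRecDepth 100000
set_option linter.unusedSectionVars false
set_option linter.style.haveILetI false

namespace Cfsg.Agent.HSSylow

open Subgroup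

/-- The kernel of the first transfer in the centralizer of `q`. -/
def mK1 : ℕ := 0x481200001248000048120000124800000000812400002481000000000000000000000000000000000000812400002481

/-- The kernel of the second transfer. -/
def mK2 (b : Bool) : ℕ :=
  if b then 0x401000001040000040100000104000000000010400000401000000000000000000000000000000000000010400000401
  else 0x401000001040000008020000020800000000802000002080000000000000000000000000000000000000010400000401

theorem closed_mK1 : closedM mK1 = true := by decide +kernel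

theorem closed_mK2 : ∀ b, closedM (mK2 b) = true := by decide +kernel

theorem mK1_facts : (((List.range 512).filter (inM mK1)).length == 32) && inM mK1 339 && inM mK1 10 && inM mK1 34 &&
    !inM mK1 80 && cm 339 80 && (allN fun s => !inM mK1 s || cm 339 s) &&
    (allN fun s => !inM mK1 s || anyN fun g => inM mK1 g && (mulN g g == 0) &&
      ((g == s) || anyN fun h => inM mK1 h && (mulN h h == 0) && (mulN g h == s))) &&
    (allN fun s => !(cm 339 s && isInv s) || inM mK1 s || ((typ s == 6) && (typ (mulN s 339) == 6))) &&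
    (allN fun s => !(inM mK1 s && isInv s) || (s == 339) || decide (typ s ≤ 4) || decide (typ (mulN s 339) ≤ 4) ||
      ((typ s == 7) && (typ (mulN s 339) == 8)) || ((typ s == 8) && (typ (mulN s 339) == 7))) = true := by
  decide +kernel

theorem mK2_facts : ∀ b, ((((List.range 512).filter (inM (mK2 b))).length == 16) && !inM (mK2 b) 339 &&
    inM (mK2 b) 10 && inM (mK2 b) 34 && (allN fun s => !inM (mK2 b) s || inM mK1 s) &&
    (allN fun s => !inM (mK2 b) s || anyN fun g => inM (mK2 b) g && (mulN g g == 0) &&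
      ((g == s) || anyN fun h => inM (mK2 b) h && (mulN h h == 0) && (mulN g h == s))) &&
    (allN fun s => !(inM mK1 s && isInv s) || (inM (mK2 b) s == (decide (typ s ≤ 4) || (typ s == if b then 7 else 8)))) &&
    (allN fun s => !inM (mK2 b) s || (cm s 34 && ((mulN s s == 0) || (mulN s s == 10)))) &&
    (anyN fun s => inM (mK2 b) s && (mulN s s == 10))) = true := by
  decide +kernel

namespace Syl

variable {G : Type*} [Group G] [Finite G] (L : Syl G)

/-- A mask generated by its involutions. -/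
theorem gen_invol {m : ℕ} (hm : closedM m = true) {H : Subgroup G} (hle : L.sub m hm ≤ H)
    (h : (allN fun s => !inM m s || anyN fun g => inM m g && (mulN g g == 0) &&
      ((g == s) || anyN fun h => inM m h && (mulN h h == 0) && (mulN g h == s))) = true) :
    (L.sub m hm).subgroupOf H ≤ closure {x : H | x ∈ (L.sub m hm).subgroupOf H ∧ x * x = 1} := by
  intro x hx
  obtain ⟨s, hs, hsm, hse⟩ := mem_subgroupOf.1 hx
  have h' := allN_spec h hs
  simp only [hsm, Bool.not_true, Bool.false_or] at h'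
  obtain ⟨g, hg, hg'⟩ := anyN_spec h'
  simp only [Bool.and_eq_true, Bool.or_eq_true, beq_iff_eq] at hg'
  have key : ∀ g < 512, inM m g = true → mulN g g = 0 → ∀ hgH : L.φ g ∈ H,
      (⟨L.φ g, hgH⟩ : H) ∈ {x : H | x ∈ (L.sub m hm).subgroupOf H ∧ x * x = 1} := fun g hg hgm hg2 hgH =>
    ⟨mem_subgroupOf.2 ((L.mem_sub hm hg).2 hgm), Subtype.ext (by
      show L.φ g * L.φ g = 1
      rw [L.mul g hg g hg, hg2, L.φ_zero])⟩
  have hgH := hle ((L.mem_sub hm hg).2 hg'.1.1)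
  rcases hg'.2 with rfl | hh
  · exact subset_closure ((show x = ⟨L.φ g, hgH⟩ from Subtype.ext hse.symm) ▸ key g hg hg'.1.1 hg'.1.2 hgH)
  · obtain ⟨h, hh1, hh2⟩ := anyN_spec hh
    simp only [Bool.and_eq_true, beq_iff_eq] at hh2
    have hhH := hle ((L.mem_sub hm hh1).2 hh2.1.1)
    rw [show x = ⟨L.φ g, hgH⟩ * ⟨L.φ h, hhH⟩ from Subtype.ext (by
      show (x : G) = L.φ g * L.φ h
      rw [L.mul g hg h hh1, hh2.2, hse])]
    exact mul_mem (subset_closure (key g hg hg'.1.1 hg'.1.2 hgH))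
      (subset_closure (key h hh1 hh2.1.1 hh2.1.2 hhH))

theorem card_mask {m : ℕ} (hm : closedM m = true) {H : Subgroup G} (hle : L.sub m hm ≤ H) :
    Nat.card ((L.sub m hm).subgroupOf H) = ((List.range 512).filter (inM m)).length := by
  rw [Nat.card_congr (subgroupOfEquivOfLe hle).toEquiv, L.card_sub_codes]

variable [IsSimpleGroup G] (hx : L.Zc L.x8) {M : Subgroup G} (hC : centralizer ({L.z} : Set G) ≤ M)
  (hN : normalizer (L.A : Set G) ≤ M)

theorem grown_big {k : ℕ} (hk : k = 3 ∨ k = 4 ∨ k = 6) (h3 : L.zv 3 = true) (h4 : L.zv 4 = true) :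
    ∃ c : G, c * L.z = L.z * c ∧ ∃ k', c * L.φ (rep k) * c⁻¹ = L.φ (rep k') ∧
      ((k = 3 ∧ (k' = 1 ∨ k' = 2)) ∨ (k = 4 ∧ (k' = 1 ∨ k' = 2 ∨ k' = 3)) ∨ (k = 6 ∧ k' = 5)) := by
  obtain ⟨h1, h2, h5, h6, -⟩ := L.classes
  obtain ⟨hlt, hi, htyp, hcn⟩ := rep_spec (k := k) (by omega)
  obtain ⟨c, hc, k', hk', he, hle, -⟩ :=
    L.grown hlt hi (n := if k = 3 then 6 else 5) (by rcases hk with rfl | rfl | rfl <;> exact hcn) (by
      rcases hk with rfl | rfl | rfl
      · exact (show 2 ^ 7 ∣ 512 by norm_num).trans (L.dvd_zv h3)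
      · exact (show 2 ^ 6 ∣ 512 by norm_num).trans (L.dvd_zv h4)
      · exact L.dvd_small (u := 80) (by simp)) (by
      rcases hk with rfl | rfl | rfl
      · exact fun g h1 h2 => L.fix_x8 g h1 h2
      · exact fun g _ h2 => L.fix_one (u := 64) (by simp) g h2
      · exact fun g _ h2 => L.fix_one (u := 80) (by simp) g h2)
  have hne := L.ne_zero_target hc hlt (by rcases hk with rfl | rfl | rfl <;> decide) he
  obtain ⟨hlt', -, htyp', -⟩ := rep_spec hk'
  have hzz : L.zv k = L.zv k' := by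
    have h := L.zv_conj hlt hlt' he
    rwa [htyp, htyp'] at h
  refine ⟨c, hc, k', he, ?_⟩
  rw [cn_rep hk'] at hle
  rcases hk with rfl | rfl | rfl
  · refine Or.inl ⟨rfl, ?_⟩
    interval_cases k' <;> simp_all
  · refine Or.inr (Or.inl ⟨rfl, ?_⟩)
    interval_cases k' <;> simp_all
  · refine Or.inr (Or.inr ⟨rfl, ?_⟩)
    interval_cases k' <;> simp_all

include hx hC hN

/-- The involutions of `M` are conjugate in `M` to `z` or `q`. -/
theorem to_z_or_q {x : G} (hxM : x ∈ M) (h2 : x * x = 1) (h1 : x ≠ 1) :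
    ∃ m ∈ M, m * x * m⁻¹ = L.z ∨ m * x * m⁻¹ = L.q := by
  obtain ⟨e1, e2, e5, e6, e43⟩ := L.classes
  have h3 : L.zv 3 = true := L.zv_iff.2 ⟨by norm_num, hx⟩
  have h4 : L.zv 4 = true := e43.trans h3
  have hSM : (L.S : Subgroup G) ≤ M := L.S_le_centz.trans hC
  have hmem : ∀ {c : G}, c * L.z = L.z * c → c ∈ M := fun h => hC (mem_centralizer_singleton_iff.2 h)
  have chain : ∀ {g y w : G}, g ∈ M → g * y * g⁻¹ = w → (∃ m ∈ M, m * w * m⁻¹ = L.z ∨ m * w * m⁻¹ = L.q) →
      ∃ m ∈ M, m * y * m⁻¹ = L.z ∨ m * y * m⁻¹ = L.q := by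
    rintro g y w hg rfl ⟨m, hm, h⟩
    refine ⟨m * g, mul_mem hm hg, ?_⟩
    rwa [show m * g * y * (m * g)⁻¹ = m * (g * y * g⁻¹) * m⁻¹ by group]
  have hV : ∀ k, k = 1 ∨ k = 2 → ∃ m ∈ M, m * L.φ (rep k) * m⁻¹ = L.z ∨ m * L.φ (rep k) * m⁻¹ = L.q := by
    intro k hk
    obtain ⟨hv, hv1⟩ : L.φ (rep k) ∈ L.V ∧ L.φ (rep k) ≠ 1 := by
      rcases hk with rfl | rfl
      · exact ⟨L.a_mem_V, L.a_ne⟩
      · exact ⟨L.b_ne.1, fun e => absurd ((L.one_iff (a := 2) (by norm_num)).1 e) (by norm_num)⟩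
    obtain ⟨n, hn, hne⟩ := L.move_z hv hv1
    exact ⟨n⁻¹, inv_mem (hN hn), Or.inl (by rw [← hne]; group)⟩
  have hX : ∀ k, k = 3 → ∃ m ∈ M, m * L.φ (rep k) * m⁻¹ = L.z ∨ m * L.φ (rep k) * m⁻¹ = L.q := by
    intro k hk
    obtain ⟨c, hc, k', he, h⟩ := L.grown_big (Or.inl hk) h3 h4
    refine chain (hmem hc) he (hV k' ?_)
    omega
  have hsmall : ∀ k, k ≤ 6 → ∃ m ∈ M, m * L.φ (rep k) * m⁻¹ = L.z ∨ m * L.φ (rep k) * m⁻¹ = L.q := by
    intro k hk
    rcases (show k = 0 ∨ k = 1 ∨ k = 2 ∨ k = 3 ∨ k = 4 ∨ k = 5 ∨ k = 6 by omega) with e | e | e | e | e | e | e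
    · subst e; exact ⟨1, one_mem _, Or.inl (by group; rfl)⟩
    · exact hV k (Or.inl e)
    · exact hV k (Or.inr e)
    · exact hX k e
    · obtain ⟨c, hc, k', he, h⟩ := L.grown_big (Or.inr (Or.inl e)) h3 h4
      rcases (show k' = 1 ∨ k' = 2 ∨ k' = 3 by omega) with e' | e' | e'
      · exact chain (hmem hc) he (hV k' (Or.inl e'))
      · exact chain (hmem hc) he (hV k' (Or.inr e'))
      · exact chain (hmem hc) he (hX k' e')
    · subst e; exact ⟨1, one_mem _, Or.inr (by group; rfl)⟩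
    · obtain ⟨c, hc, k', he, h⟩ := L.grown_big (Or.inr (Or.inr e)) h3 h4
      obtain rfl : k' = 5 := by omega
      exact chain (hmem hc) he ⟨1, one_mem _, Or.inr (by group; rfl)⟩
  obtain ⟨g, hg, hgS⟩ := L.conj_into hSM (isPGroup_zpowers h2) (zpowers_le.2 hxM)
  obtain ⟨r, hr, hre⟩ := (L.range _).1 (hgS x (mem_zpowers x))
  refine chain hg hre.symm ?_
  obtain ⟨h9, s, hs, hse⟩ := L.to_rep hr ((L.inv_iff hr).2 (by
    rw [hre]
    refine ⟨?_, fun e => h1 (conj_eq_one_iff.1 e)⟩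
    rw [show g * x * g⁻¹ * (g * x * g⁻¹) = g * (x * x) * g⁻¹ by group, h2, mul_one, mul_inv_cancel]))
  refine chain (g := (L.φ s)⁻¹) (inv_mem (hSM (L.mem hs))) (w := L.φ (rep (typ r))) (by rw [← hse]; group) ?_
  by_cases h6 : typ r ≤ 6
  · exact hsmall _ h6
  obtain ⟨n, hn, c, hc, k, hk, he, -⟩ := L.y_move (u := rep (typ r)) (by
    rcases (show typ r = 7 ∨ typ r = 8 by omega) with e | e <;> rw [e] <;> decide)
  exact chain (mul_mem (hmem hc) (hN hn)) he (hsmall k hk.2)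

/-- `M` controls the conjugates of `z`. -/
theorem zc_control {g : G} (h : g * L.z * g⁻¹ ∈ M) : g ∈ M := by
  obtain ⟨h2, h1⟩ := L.Zc_invol (isConj_iff.2 ⟨g, rfl⟩ : L.Zc (g * L.z * g⁻¹))
  obtain ⟨m, hm, e | e⟩ := L.to_z_or_q hx hC hN h h2 h1
  · have hmg : m * g ∈ M := hC (mem_centralizer_singleton_iff.2 (mul_inv_eq_iff_eq_mul.1 (by
      rw [show m * g * L.z * (m * g)⁻¹ = m * (g * L.z * g⁻¹) * m⁻¹ by group, e])))
    simpa using mul_mem (inv_mem hm) hmg
  · refine absurd ?_ L.fus.not_q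
    exact isConj_iff.2 ⟨m * g, by rw [show m * g * L.z * (m * g)⁻¹ = m * (g * L.z * g⁻¹) * m⁻¹ by group, e]⟩

theorem zc_cent {x : G} (hxM : x ∈ M) (hz : L.Zc x) : centralizer ({x} : Set G) ≤ M := by
  obtain ⟨g, rfl⟩ := isConj_iff.1 hz
  have hg := L.zc_control hx hC hN hxM
  intro c hc
  have h : g⁻¹ * c * g ∈ M := hC (mem_centralizer_singleton_iff.2 (by
    have h := mem_centralizer_singleton_iff.1 hc
    calc g⁻¹ * c * g * L.z = g⁻¹ * (c * (g * L.z * g⁻¹)) * g := by group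
      _ = g⁻¹ * (g * L.z * g⁻¹ * c) * g := by rw [h]
      _ = L.z * (g⁻¹ * c * g) := by group))
  have := mul_mem (mul_mem hg h) (inv_mem hg)
  rwa [show g * (g⁻¹ * c * g) * g⁻¹ = c by group] at this

theorem q_le : centralizer ({L.q} : Set G) ≤ M := by
  classical
  haveI : Fact (Nat.Prime 2) := ⟨Nat.prime_two⟩
  obtain ⟨e1, e2, e5, e6, e43⟩ := L.classes
  have h3 : L.zv 3 = true := L.zv_iff.2 ⟨by norm_num, hx⟩
  have h4 : L.zv 4 = true := e43.trans h3
  have hle4 : ∀ {k}, k ≤ 4 → L.zv k = true := fun {k} hk => by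
    rcases (show k = 0 ∨ k = 1 ∨ k = 2 ∨ k = 3 ∨ k = 4 by omega) with rfl | rfl | rfl | rfl | rfl
    exacts [L.zv_zero, e1, e2, h3, h4]
  have h8 := L.zv_y hx
  have hF := mK1_facts
  simp only [Bool.and_eq_true, beq_iff_eq, Bool.not_eq_true'] at hF
  obtain ⟨⟨⟨⟨⟨⟨⟨⟨⟨hc1, hq1⟩, hz1⟩, ha1⟩, hp1⟩, hqp⟩, hcent1⟩, hgen1⟩, hout⟩, hin⟩ := hF
  set b := L.zv 7 with hb
  have hF2 := mK2_facts b
  simp only [Bool.and_eq_true, beq_iff_eq, Bool.not_eq_true'] at hF2
  obtain ⟨⟨⟨⟨⟨⟨⟨⟨hc2, hq2⟩, hz2⟩, ha2⟩, hle21⟩, hgen2⟩, htyp2⟩, hcent2⟩, hroot2⟩ := hF2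
  have hq : rep 5 = 339 := rfl
  obtain ⟨hlt, hqi, -, hcn⟩ := rep_spec (k := 5) (by norm_num)
  rw [hq] at hlt hqi hcn
  have hq2' := ((L.inv_iff hlt).1 hqi)
  set Y := centralizer ({L.q} : Set G) with hY
  -- the Sylow subgroup of `C(q)`
  have hTY : L.cS 339 ≤ Y := inf_le_right
  have hT2 : IsPGroup 2 ((L.cS 339).subgroupOf Y) := (L.S.2.to_le inf_le_left).comap_subtype
  have hnd : ¬ 2 ^ 7 ∣ Nat.card Y := by
    intro hd
    obtain ⟨c, hc, k, hk, he, hle, -⟩ := L.grown hlt hqi (n := 6) (by rw [hcn]; rfl) hd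
      fun g _ h2 => L.fix_one (u := 339) (by simp) g h2
    have hne := L.ne_zero_target hc hlt (by norm_num) he
    obtain ⟨hlt', -, htyp', -⟩ := rep_spec hk
    have hzz : L.zv 5 = L.zv k := by
      have h := L.zv_conj hlt hlt' he
      rwa [htyp', show typ 339 = 5 by decide +kernel] at h
    rw [cn_rep hk] at hle
    interval_cases k <;> simp_all
  let T : Sylow 2 Y := hT2.toSylow (by
    intro h2
    have h1 := ((L.cS 339).subgroupOf Y).card_mul_index
    rw [Nat.card_congr (subgroupOfEquivOfLe hTY).toEquiv, L.card_cS hlt, hcn] at h1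
    obtain ⟨d, hd⟩ := h2
    exact hnd ⟨d, by rw [← h1, hd]; simp; ring⟩)
  have hTmem : ∀ {y : Y}, y ∈ (T : Subgroup Y) ↔ (y : G) ∈ L.cS 339 := fun {y} => mem_subgroupOf
  set K1 := L.sub mK1 closed_mK1 with hK1
  have hK1S : K1 ≤ L.cS 339 := by
    rintro _ ⟨s, hs, hm, rfl⟩
    have h := allN_spec hcent1 hs
    simp only [hm, Bool.not_true, Bool.false_or] at h
    exact (L.mem_cS hlt hs).2 h
  have hK1Y : K1 ≤ Y := hK1S.trans hTY
  -- the invariant telling the involutions of `K1`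
  have hgood : ∀ s < 512, cm 339 s = true → isInv s = true →
      (inM mK1 s = true ↔ (L.Zc (L.φ s) ∨ L.Zc (L.φ s * L.q) ∨ L.φ s = L.q)) := by
    intro s hs hsc hsi
    have hprod : L.φ s * L.q = L.φ (mulN s 339) := L.mul s hs 339 hlt
    refine ⟨fun hm => ?_, fun h => ?_⟩
    · have h := allN_spec (of_decide_eq_true hin) hs
      simp only [hm, hsi, Bool.and_self, Bool.not_true, Bool.false_or, Bool.or_eq_true, beq_iff_eq,
        decide_eq_true_eq, Bool.and_eq_true] at h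
      rw [hprod, L.Zc_iff hs, L.Zc_iff (mulN_lt hs hlt)]
      rcases h with (((h | h) | h) | h) | h
      · exact Or.inr (Or.inr (by rw [h]; rfl))
      · exact Or.inl (hle4 h)
      · exact Or.inr (Or.inl (hle4 h))
      · rw [h.1, h.2, h8, ← hb]
        cases b <;> simp
      · rw [h.1, h.2, h8, ← hb]
        cases b <;> simp
    · by_contra hm
      have h' := allN_spec hout hs
      simp only [hsc, hsi, Bool.and_self, Bool.not_true, Bool.false_or, Bool.or_eq_true, hm, false_or,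
        Bool.and_eq_true, beq_iff_eq] at h'
      rw [hprod, L.Zc_iff hs, L.Zc_iff (mulN_lt hs hlt), h'.1, h'.2, e6] at h
      rcases h with h | h | h
      · exact Bool.noConfusion h
      · exact Bool.noConfusion h
      · rw [L.inj s hs 339 hlt h] at h'
        exact absurd h'.1 (by decide +kernel)
  have hidx : (K1.subgroupOf Y).relIndex (T : Subgroup Y) = 2 := by
    have h := relIndex_mul_relIndex (⊥ : Subgroup Y) (K1.subgroupOf Y) (T : Subgroup Y) bot_le
      (fun y hy => hTmem.2 (hK1S (mem_subgroupOf.1 hy)))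
    rw [relIndex_bot_left, relIndex_bot_left, L.card_mask closed_mK1 hK1Y, hc1] at h
    have hTc : Nat.card (T : Subgroup Y) = 64 := by
      show Nat.card ((L.cS 339).subgroupOf Y) = 64
      rw [Nat.card_congr (subgroupOfEquivOfLe hTY).toEquiv, L.card_cS hlt, hcn]; rfl
    rw [hTc] at h
    omega
  have hqY : ∀ y : Y, (y : G) * L.q = L.q * y := fun y => mem_centralizer_singleton_iff.1 y.2
  set pY : Y := ⟨L.φ 80, hTY ((L.mem_cS hlt (by norm_num)).2 hqp)⟩
  obtain ⟨N, hNn, hNi, hNT⟩ := exists_kernel (S := T) (M := K1.subgroupOf Y)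
    (fun y hy => hTmem.2 (hK1S (mem_subgroupOf.1 hy))) hidx (L.gen_invol closed_mK1 hK1Y hgen1)
    (fun x hxK hx2 g hgT => by
      rcases eq_or_ne x 1 with rfl | hx1
      · rw [mul_one, mul_inv_cancel]; exact one_mem _
      obtain ⟨s, hs, hsm, hse⟩ := mem_subgroupOf.1 hxK
      obtain ⟨t, ht, htc, hte⟩ := L.cS_cases hlt (hTmem.1 hgT)
      have hsi : isInv s = true := (L.inv_iff hs).2 ⟨by rw [hse]; exact congrArg Subtype.val hx2,
        fun e => hx1 (Subtype.ext (hse ▸ e))⟩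
      have hte' : (g : G) * L.φ s * (g : G)⁻¹ = L.φ t := by rw [hte, hse]; rfl
      have hti := L.isInv_of_conj hs ht hsi hte'
      refine mem_subgroupOf.2 (hte ▸ (L.mem_sub closed_mK1 ht).2 ((hgood t ht htc hti).2 ?_))
      have hqg : (g : G) * L.q * (g : G)⁻¹ = L.q := by rw [hqY, mul_inv_cancel_right]
      have hsc := allN_spec hcent1 hs
      simp only [hsm, Bool.not_true, Bool.false_or] at hsc
      rcases (hgood s hs hsc hsi).1 hsm with h | h | h
      · exact Or.inl (hte' ▸ h.trans (isConj_iff.2 ⟨g, rfl⟩))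
      · refine Or.inr (Or.inl (h.trans (isConj_iff.2 ⟨g, ?_⟩)))
        rw [show (g : G) * (L.φ s * L.q) * (g : G)⁻¹ = (g : G) * L.φ s * (g : G)⁻¹ * ((g : G) * L.q * (g : G)⁻¹) by group,
          hqg, hte']
      · exact Or.inr (Or.inr (by rw [← hte', h, hqg])))
    (p := pY) (hTmem.2 ((L.mem_cS hlt (by norm_num)).2 hqp))
    (fun h => by
      have h' := (L.mem_sub closed_mK1 (a := 80) (by norm_num)).1 (mem_subgroupOf.1 h)
      rw [hp1] at h'
      exact Bool.noConfusion h')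
    (Subtype.ext (by
      show L.φ 80 * L.φ 80 = 1
      rw [L.mul 80 (by norm_num) 80 (by norm_num), show mulN 80 80 = 0 by decide +kernel, L.φ_zero]))
  haveI := hNn
  set N1 := N.map Y.subtype with hN1
  have hN1Y : N1 ≤ Y := map_subtype_le _
  have hK1N : K1 ≤ N1 := fun x hx =>
    ⟨⟨x, hK1Y hx⟩, (hNT.ge (mem_subgroupOf.2 hx) : (⟨x, hK1Y hx⟩ : Y) ∈ N ⊓ (T : Subgroup Y)).1, rfl⟩
  have hN1card : 2 * Nat.card N1 = Nat.card Y := by
    rw [hN1, card_map_of_injective Y.subtype_injective, ← N.card_mul_index, hNi, mul_comm]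
  have hodd1 : ¬ 2 ∣ ((K1.subgroupOf N1).index) := by
    intro hd
    have h1 := (K1.subgroupOf N1).card_mul_index
    rw [L.card_mask closed_mK1 hK1N, hc1] at h1
    obtain ⟨d, hd⟩ := hd
    exact hnd ⟨d, by rw [← hN1card, ← h1, hd]; ring⟩
  let T1 : Sylow 2 N1 := ((L.S.2.to_le (L.sub_le closed_mK1)).comap_subtype (K := N1)).toSylow hodd1
  have hT1mem : ∀ {y : N1}, y ∈ (T1 : Subgroup N1) ↔ (y : G) ∈ K1 := fun {y} => mem_subgroupOf
  set K2 := L.sub (mK2 b) (closed_mK2 b) with hK2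
  have hK21 : K2 ≤ K1 := by
    rintro _ ⟨s, hs, hm, rfl⟩
    have h := allN_spec hle21 hs
    simp only [hm, Bool.not_true, Bool.false_or] at h
    exact (L.mem_sub closed_mK1 hs).2 h
  have hK2N : K2 ≤ N1 := hK21.trans hK1N
  have hidx2 : (K2.subgroupOf N1).relIndex (T1 : Subgroup N1) = 2 := by
    have h := relIndex_mul_relIndex (⊥ : Subgroup N1) (K2.subgroupOf N1) (T1 : Subgroup N1) bot_le
      (fun y hy => hT1mem.2 (hK21 (mem_subgroupOf.1 hy)))
    rw [relIndex_bot_left, relIndex_bot_left, L.card_mask (closed_mK2 b) hK2N, hc2] at h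
    have hTc : Nat.card (T1 : Subgroup N1) = 32 := by
      show Nat.card (K1.subgroupOf N1) = 32
      rw [L.card_mask closed_mK1 hK1N, hc1]
    rw [hTc] at h
    omega
  have hzc2 : ∀ s < 512, inM mK1 s = true → isInv s = true → (inM (mK2 b) s = true ↔ L.Zc (L.φ s)) := by
    intro s hs hm hi
    have h := allN_spec htyp2 hs
    simp only [hm, hi, Bool.and_self, Bool.not_true, Bool.false_or, beq_iff_eq] at h
    rw [h, L.Zc_iff hs]
    have h9 := (L.to_rep hs hi).1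
    rcases (show typ s ≤ 4 ∨ typ s = 5 ∨ typ s = 6 ∨ typ s = 7 ∨ typ s = 8 by omega) with e | e | e | e | e
    · simp [e, hle4 e]
    · rw [e, e5]; cases b <;> simp
    · rw [e, e6]; cases b <;> simp
    · rw [e, ← hb]; cases b <;> simp
    · rw [e, h8]; cases b <;> simp
  obtain ⟨N', hN'n, -, hN'T⟩ := exists_kernel (S := T1) (M := K2.subgroupOf N1)
    (fun y hy => hT1mem.2 (hK21 (mem_subgroupOf.1 hy))) hidx2 (L.gen_invol (closed_mK2 b) hK2N hgen2)
    (fun x hxK hx2 g hgT => by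
      rcases eq_or_ne x 1 with rfl | hx1
      · rw [mul_one, mul_inv_cancel]; exact one_mem _
      obtain ⟨s, hs, hsm, hse⟩ := mem_subgroupOf.1 hxK
      obtain ⟨t, ht, htm, hte⟩ := hT1mem.1 hgT
      have hsi : isInv s = true := (L.inv_iff hs).2 ⟨by rw [hse]; exact congrArg Subtype.val hx2,
        fun e => hx1 (Subtype.ext (hse ▸ e))⟩
      have hte' : (g : G) * L.φ s * (g : G)⁻¹ = L.φ t := by rw [hte, hse]; rfl
      have hti := L.isInv_of_conj hs ht hsi hte'
      have hs1 := (L.mem_sub closed_mK1 hs).1 (hK21 ((L.mem_sub (closed_mK2 b) hs).2 hsm))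
      exact mem_subgroupOf.2 (hte ▸ (L.mem_sub (closed_mK2 b) ht).2 ((hzc2 t ht htm hti).2
        (hte' ▸ ((hzc2 s hs hs1 hsi).1 hsm).trans (isConj_iff.2 ⟨g, rfl⟩)))))
    (p := ⟨L.q, hK1N ((L.mem_sub closed_mK1 hlt).2 hq1)⟩) (hT1mem.2 ((L.mem_sub closed_mK1 hlt).2 hq1))
    (fun h => by
      have h' := (L.mem_sub (closed_mK2 b) hlt).1 (mem_subgroupOf.1 h)
      rw [hq2] at h'
      exact Bool.noConfusion h')
    (Subtype.ext hq2'.1)
  haveI := hN'n
  set N2 := N'.map N1.subtype with hN2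
  have hN2N : N2 ≤ N1 := map_subtype_le _
  have hK2N2 : K2 ≤ N2 := fun x hx =>
    ⟨⟨x, hK2N hx⟩, (hN'T.ge (mem_subgroupOf.2 hx) : (⟨x, hK2N hx⟩ : N1) ∈ N' ⊓ (T1 : Subgroup N1)).1, rfl⟩
  -- the Sylow subgroup of the second kernel
  obtain ⟨T2, hT2'⟩ := ((L.S.2.to_le (L.sub_le (closed_mK2 b))).comap_subtype (K := N2)).exists_le_sylow
  have hT2mem : ∀ {y : N2}, y ∈ (T2 : Subgroup N2) ↔ (y : G) ∈ K2 := by
    intro y
    refine ⟨fun hy => ?_, fun hy => hT2' (mem_subgroupOf.2 hy)⟩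
    obtain ⟨g, hg⟩ : ∃ g : N1, ∀ z ∈ (T2 : Subgroup N2), g * (⟨z, hN2N z.2⟩ : N1) * g⁻¹ ∈ (T1 : Subgroup N1) := by
      obtain ⟨Q, hQ⟩ := ((T2.2.map N2.subtype).comap_subtype (K := N1)).exists_le_sylow
      obtain ⟨g, hg⟩ := MulAction.exists_smul_eq N1 Q T1
      refine ⟨g, fun z hz => ?_⟩
      rw [← hg]
      exact ⟨_, hQ (show ((⟨z, hN2N z.2⟩ : N1) : G) ∈ (T2 : Subgroup N2).map N2.subtype from ⟨z, hz, rfl⟩), rfl⟩
    have hin2 : ∀ z ∈ (T2 : Subgroup N2), ((g * (⟨z, hN2N z.2⟩ : N1) * g⁻¹ : N1) : G) ∈ K2 := fun z hz => by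
      obtain ⟨w, hw, hwe⟩ := z.2
      have : g * (⟨z, hN2N z.2⟩ : N1) * g⁻¹ ∈ N' ⊓ (T1 : Subgroup N1) := by
        refine ⟨hN'n.conj_mem _ ?_ g, hg z hz⟩
        rwa [show (⟨z, hN2N z.2⟩ : N1) = w from Subtype.ext hwe.symm]
      exact mem_subgroupOf.1 (hN'T.le this)
    have hcard : Nat.card (T2 : Subgroup N2) ≤ Nat.card K2 :=
      Nat.card_le_card_of_injective (fun z : (T2 : Subgroup N2) => (⟨_, hin2 z z.2⟩ : K2)) fun z w e => by
        have e' := congrArg Subtype.val e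
        exact Subtype.ext (Subtype.ext (mul_left_cancel (mul_right_cancel e')))
    have he := eq_of_le_of_card_ge (hT2') (by
      rw [show Nat.card (K2.comap N2.subtype) = Nat.card K2 from Nat.card_congr (subgroupOfEquivOfLe hK2N2).toEquiv]
      exact hcard)
    exact mem_subgroupOf.1 (show y ∈ K2.comap N2.subtype from he ▸ hy)
  have hZc2 : ∀ y : N2, y * y = 1 → y ≠ 1 → L.Zc (y : G) := by
    intro y hy2 hy1
    obtain ⟨Q, hQ⟩ := (isPGroup_zpowers hy2).exists_le_sylow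
    obtain ⟨g, hg⟩ := MulAction.exists_smul_eq N2 Q T2
    have hm : g * y * g⁻¹ ∈ (T2 : Subgroup N2) := by
      rw [← hg]
      exact ⟨y, hQ (mem_zpowers y), rfl⟩
    obtain ⟨s, hs, hsm, hse⟩ := hT2mem.1 hm
    have hsi : isInv s = true := (L.inv_iff hs).2 ⟨by
      rw [hse]
      exact congrArg Subtype.val (show g * y * g⁻¹ * (g * y * g⁻¹) = 1 by
        rw [show g * y * g⁻¹ * (g * y * g⁻¹) = g * (y * y) * g⁻¹ by group, hy2, mul_one, mul_inv_cancel]),
      fun e => hy1 (conj_eq_one_iff.1 (Subtype.ext (hse ▸ e) : g * y * g⁻¹ = 1))⟩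
    have hs1 := (L.mem_sub closed_mK1 hs).1 (hK21 ((L.mem_sub (closed_mK2 b) hs).2 hsm))
    exact ((hzc2 s hs hs1 hsi).1 hsm).trans (hse ▸ (isConj_iff.2 ⟨(g : G), rfl⟩ : IsConj (y : G) ((g * y * g⁻¹ : N2) : G)).symm)
  set zN : N2 := ⟨L.z, hK2N2 ((L.mem_sub (closed_mK2 b) (a := 10) (by norm_num)).2 hz2)⟩
  set aN : N2 := ⟨L.a, hK2N2 ((L.mem_sub (closed_mK2 b) (a := 34) (by norm_num)).2 ha2)⟩
  have hza : ¬ IsConj aN zN := by
    intro h
    obtain ⟨g, hg⟩ := isConj_iff.1 h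
    have hcz : zN ∈ centralizer ((T2 : Subgroup N2) : Set N2) := mem_centralizer_iff.2 fun y hy => Subtype.ext
      (L.z_comm (L.sub_le _ (hT2mem.1 hy))).symm
    have hca : aN ∈ centralizer ((T2 : Subgroup N2) : Set N2) := mem_centralizer_iff.2 fun y hy => Subtype.ext (by
      obtain ⟨s, hs, hsm, hse⟩ := hT2mem.1 hy
      have h := allN_spec hcent2 hs
      simp only [hsm, Bool.not_true, Bool.false_or, Bool.and_eq_true] at h
      show (y : G) * L.φ 34 = L.φ 34 * y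
      rw [← hse]
      exact (L.cm_iff hs (by norm_num)).1 h.1)
    obtain ⟨n, hn, hne⟩ := Sylow.conj_eq_normalizer_conj_of_mem_centralizer T2 aN g⁻¹ hca
      (by rw [inv_inv, hg]; exact hcz)
    rw [inv_inv, hg] at hne
    obtain ⟨s, hs, hs'⟩ := anyN_spec hroot2
    simp only [Bool.and_eq_true, beq_iff_eq] at hs'
    set sN : N2 := ⟨L.φ s, hK2N2 ((L.mem_sub (closed_mK2 b) hs).2 hs'.1)⟩
    have hsz : sN * sN = zN := Subtype.ext (by
      show L.φ s * L.φ s = L.φ 10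
      rw [L.mul s hs s hs, hs'.2])
    obtain ⟨t, ht, htm, hte⟩ := hT2mem.1 ((mem_normalizer_iff.1 hn sN).1 (hT2mem.2 ((L.mem_sub (closed_mK2 b) hs).2 hs'.1)))
    have h := allN_spec hcent2 ht
    simp only [htm, Bool.not_true, Bool.false_or, Bool.and_eq_true, Bool.or_eq_true, beq_iff_eq] at h
    have hnz : n * zN * n⁻¹ = n * sN * n⁻¹ * (n * sN * n⁻¹) := by rw [← hsz]; group
    have hnz' : (n * zN * n⁻¹ : N2) = aN := by rw [hne]; group
    rw [hnz'] at hnz
    have e : L.a = L.φ (mulN t t) := by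
      rw [← L.mul t ht t ht, hte]
      exact congrArg Subtype.val hnz
    rcases h.2 with h0 | h0 <;> rw [h0] at e
    · exact L.a_ne (e.trans L.φ_zero)
    · exact absurd (L.inj 34 (by norm_num) 10 (by norm_num) e) (by norm_num)
  have hzM : L.z ∈ M := hC (mem_centralizer_singleton_iff.2 rfl)
  have haM : L.a ∈ M := hC (L.S_le_centz (L.mem (by norm_num)))
  have hinM : ∀ w : N2, w * w = 1 → w ≠ 1 → (w : G) ∈ M := by
    intro w hw2 hw1
    have key : ∀ r : N2, r * r = 1 → r ≠ 1 → (r : G) ∈ M → ¬ IsConj r w → (w : G) ∈ M := by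
      intro r hr2 hr1 hrM hne
      obtain ⟨m, -, -, hu, hur, huw, -⟩ := TwoTransfer.exists_commuting_involution
        (orderOf_eq_prime (by rw [pow_two, hr2]) hr1) (orderOf_eq_prime (by rw [pow_two, hw2]) hw1) hne
      set u := (r * w) ^ m
      have hu1 : u ≠ 1 := fun e => by rw [e, orderOf_one] at hu; exact absurd hu (by norm_num)
      have hu2 : u * u = 1 := by rw [← pow_two, ← hu, pow_orderOf_eq_one]
      have huM : (u : G) ∈ M := L.zc_cent hx hC hN hrM (hZc2 r hr2 hr1)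
        (mem_centralizer_singleton_iff.2 (congrArg Subtype.val hur.eq))
      exact L.zc_cent hx hC hN huM (hZc2 u hu2 hu1)
        (mem_centralizer_singleton_iff.2 (congrArg Subtype.val huw.eq.symm))
    by_cases haw : IsConj aN w
    · exact key zN (Subtype.ext L.z_inv) (fun e => L.z_ne (congrArg Subtype.val e)) hzM
        fun h => hza (haw.trans h.symm)
    · exact key aN (Subtype.ext L.a_sq) (fun e => L.a_ne (congrArg Subtype.val e)) haM haw
  have hN1M : N1 ≤ M := by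
    intro y hy
    obtain ⟨w, hw, hwe⟩ := zN.2
    have hmem : y * L.z * y⁻¹ ∈ N2 := ⟨⟨y, hy⟩ * w * ⟨y, hy⟩⁻¹, hN'n.conj_mem _ hw _, by
      show y * (w : G) * y⁻¹ = _
      rw [show (w : G) = L.z from hwe]⟩
    refine L.zc_control hx hC hN (hinM ⟨_, hmem⟩ (Subtype.ext ?_) fun e => ?_)
    · show y * L.z * y⁻¹ * (y * L.z * y⁻¹) = 1
      rw [show y * L.z * y⁻¹ * (y * L.z * y⁻¹) = y * (L.z * L.z) * y⁻¹ by group, L.z_inv, mul_one, mul_inv_cancel]
    · exact L.z_ne (conj_eq_one_iff.1 (congrArg Subtype.val e))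
  intro y hy
  have hp80 : (pY : G) ∈ M := hC (L.S_le_centz (L.mem (by norm_num)))
  by_cases hyN : (⟨y, hy⟩ : Y) ∈ N
  · exact hN1M ⟨_, hyN, rfl⟩
  · have hpN : pY ∉ N := fun h => by
      have h' := mem_subgroupOf.1 (hNT.le ⟨h, hTmem.2 ((L.mem_cS hlt (by norm_num)).2 hqp)⟩)
      rw [L.mem_sub closed_mK1 (by norm_num), hp1] at h'
      exact Bool.noConfusion h'
    have h2 : (⟨y, hy⟩ : Y) * pY ∈ N := by rw [Subgroup.mul_mem_iff_of_index_two hNi]; simp [hyN, hpN]
    have h3 : y * (pY : G) ∈ M := hN1M ⟨_, h2, rfl⟩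
    simpa using mul_mem h3 (inv_mem hp80)

/-- Every overgroup of `C(z)` and `N(A)` is the whole group. -/
theorem eq_top : M = ⊤ := by
  refine eq_top_iff.2 fun g _ => L.zc_control hx hC hN ?_
  set w := g * L.z * g⁻¹ with hw
  have hwz : L.Zc w := isConj_iff.2 ⟨g, rfl⟩
  obtain ⟨hw2, hw1⟩ := L.Zc_invol hwz
  have hq := (L.inv_iff (c := 339) (by norm_num)).1 (by decide +kernel)
  obtain ⟨m, -, -, hu, huq, huw, -⟩ := TwoTransfer.exists_commuting_involution (a := L.q) (b := w)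
    (orderOf_eq_prime (by rw [pow_two]; exact hq.1) hq.2) (orderOf_eq_prime (by rw [pow_two]; exact hw2) hw1)
    fun h => L.fus.not_q (hwz.trans h.symm)
  set u := (L.q * w) ^ m
  have hu1 : u ≠ 1 := fun e => by rw [e, orderOf_one] at hu; exact absurd hu (by norm_num)
  have hu2 : u * u = 1 := by rw [← pow_two, ← hu, pow_orderOf_eq_one]
  have huM : u ∈ M := L.q_le hx hC hN (mem_centralizer_singleton_iff.2 huq.eq)
  obtain ⟨k, hk, e⟩ := L.to_z_or_q hx hC hN huM hu2 hu1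
  have hkw : k * w * k⁻¹ ∈ centralizer ({k * u * k⁻¹} : Set G) := mem_centralizer_singleton_iff.2 (by
    rw [show k * w * k⁻¹ * (k * u * k⁻¹) = k * (w * u) * k⁻¹ by group, huw.eq.symm]
    group)
  have h2 : k * w * k⁻¹ ∈ M := by
    rcases e with e | e <;> rw [e] at hkw
    · exact hC hkw
    · exact L.q_le hx hC hN hkw
  have h3 := mul_mem (mul_mem (inv_mem hk) h2) hk
  rwa [show k⁻¹ * (k * w * k⁻¹) * k = w by group] at h3

end Syl

end Cfsg.Agent.HSSylow
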