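import Cfsg.Agent.HSSylow.Fusion

/-!
The abelian subgroup of order 64 is the only one, and its normalizer induces every automorphism of `V`.
-/

set_option autoImplicit false
set_option maxRecDepth 100000
set_option linter.unusedSectionVars false
set_option linter.style.haveILetI false

namespace Cfsg.Agent.HSSylow

open Subgroup

theorem split_code : ((List.range 64).all fun v => (List.range 8).all fun h => mulN v (64 * h) == 64 * h + v) = true ∧
    inM mV 10 = true ∧ inM mV 34 = true ∧ inM mV 2 = true ∧ inM mA 10 = true ∧ inM mA 34 = true ∧ inM mA 2 = true ∧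
    typ (mulN 10 34) = 1 ∧ mulN 10 34 ≠ 34 ∧
    (allN fun s => (inM mA s == decide (s < 64)) && (!inM mV s || decide (s < 64))) = true ∧
    (allN fun v => !(typ v == 2) || (inM mV v && !(v == 10) && !(v == 34) && !(v == mulN 10 34))) = true ∧
    (allN fun v => !(inM mV v && !(v == 0)) || (v == 10) || (v == 34) || (v == mulN 10 34) || (typ v == 2)) = true ∧
    typ 34 = 1 ∧ typ 2 = 2 := by
  decide +kernel

namespace Syl

variable {G : Type*} [Group G] [Finite G] (L : Syl G)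

theorem A_iff {c : ℕ} (hc : c < 512) : L.φ c ∈ L.A ↔ c < 64 := by
  have h := allN_spec split_code.2.2.2.2.2.2.2.2.2.1 hc
  simp only [Bool.and_eq_true, beq_iff_eq] at h
  rw [A, L.mem_sub closed_mA hc, h.1, decide_eq_true_eq]

theorem V_le_A : L.V ≤ L.A := by
  rintro _ ⟨c, hc, hm, rfl⟩
  have h := allN_spec split_code.2.2.2.2.2.2.2.2.2.1 hc
  simp only [Bool.and_eq_true, hm, Bool.not_true, Bool.false_or, decide_eq_true_eq] at h
  exact (L.A_iff hc).2 h.2

theorem A_comm {x y : G} (hx : x ∈ L.A) (hy : y ∈ L.A) : x * y = y * x := by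
  obtain ⟨c, hc, -, rfl⟩ := id hx
  obtain ⟨d, hd, -, rfl⟩ := id hy
  exact (L.cm_iff hc hd).1 (List.all_eq_true.1 (List.all_eq_true.1 A_abelian c (List.mem_range.2 ((L.A_iff hc).1 hx)))
    d (List.mem_range.2 ((L.A_iff hd).1 hy)))

theorem card_A : Nat.card L.A = 64 := by
  rw [A, L.card_sub_codes closed_mA]
  decide +kernel

/-- The codes with the same class modulo `A`. -/
theorem coset_A {c d : ℕ} (hc : c < 512) (hd : d < 512) (h : c / 64 = d / 64) : L.φ c * (L.φ d)⁻¹ ∈ L.A := by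
  have key : ∀ e < 512, L.φ e = L.φ (e % 64) * L.φ (64 * (e / 64)) := by
    intro e he
    have h1 := List.all_eq_true.1 (List.all_eq_true.1 split_code.1 (e % 64) (List.mem_range.2 (Nat.mod_lt _ (by norm_num))))
      (e / 64) (List.mem_range.2 (by omega))
    rw [L.mul _ (by omega) _ (by omega), beq_iff_eq.1 h1, Nat.div_add_mod]
  rw [key c hc, key d hd, h, show L.φ (c % 64) * L.φ (64 * (d / 64)) * (L.φ (d % 64) * L.φ (64 * (d / 64)))⁻¹ =
    L.φ (c % 64) * (L.φ (d % 64))⁻¹ by group]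
  exact mul_mem ((L.A_iff (by omega)).2 (Nat.mod_lt _ (by norm_num)))
    (inv_mem ((L.A_iff (by omega)).2 (Nat.mod_lt _ (by norm_num))))

/-- The only commutative subgroup of order 64 of the Sylow subgroup. -/
theorem A_unique {B : Subgroup G} (hB : B ≤ (L.S : Subgroup G)) (hc : ∀ x ∈ B, ∀ y ∈ B, x * y = y * x)
    (h64 : Nat.card B = 64) : B = L.A := by
  classical
  by_contra hne
  have hBA : ¬ B ≤ L.A := fun h => hne (eq_of_le_of_card_ge h (by rw [h64, L.card_A]))
  obtain ⟨x, hxB, hxA⟩ := SetLike.not_le_iff_exists.1 hBA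
  obtain ⟨cx, hcx, rfl⟩ := (L.range x).1 (hB hxB)
  have h8 := allN_spec out_A hcx
  simp only [decide_eq_false (fun h => hxA ((L.A_iff hcx).2 h)), Bool.false_or, decide_eq_true_eq] at h8
  haveI : Fintype B := Fintype.ofFinite B
  choose f hf hfe using fun g : B => (L.range _).1 (hB g.2)
  have hfib : ∀ i ∈ (Finset.univ : Finset B).image (fun g => f g / 64),
      ((Finset.univ : Finset B).filter fun g => f g / 64 = i).card ≤ 8 := by
    intro i hi
    obtain ⟨g0, -, hg0⟩ := Finset.mem_image.1 hi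
    refine le_trans ?_ h8
    rw [← List.toFinset_card_of_nodup (List.nodup_range.filter _)]
    have hmem : ∀ g : B, f g / 64 = i → (g : G) * (g0 : G)⁻¹ ∈ L.A := fun g hg => by
      rw [← hfe g, ← hfe g0]
      exact L.coset_A (hf g) (hf g0) (hg.trans hg0.symm)
    have hmem' : ∀ g : B, f g / 64 = i → ∃ v < 64, cm cx v = true ∧ L.φ v = (g : G) * (g0 : G)⁻¹ := fun g hg => by
      obtain ⟨v, hv, -, hve⟩ := id (hmem g hg)
      refine ⟨v, (L.A_iff hv).1 (hve ▸ hmem g hg), (L.cm_iff hcx hv).2 ?_, hve⟩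
      rw [hve]
      exact hc _ hxB _ (mul_mem g.2 (inv_mem g0.2))
    choose v hv hcv hve using hmem'
    refine Finset.card_le_card_of_injOn (fun g => if h : f g / 64 = i then v g h else 0) (fun g hg => ?_)
      (fun g hg g' hg' e => ?_)
    · have hg' : f g / 64 = i := (Finset.mem_filter.1 (Finset.mem_coe.1 hg)).2
      simp only [dif_pos hg']
      exact Finset.mem_coe.2 (List.mem_toFinset.2 (List.mem_filter.2 ⟨List.mem_range.2 (hv g hg'), hcv g hg'⟩))
    · have h1 : f g / 64 = i := (Finset.mem_filter.1 (Finset.mem_coe.1 hg)).2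
      have h2 : f g' / 64 = i := (Finset.mem_filter.1 (Finset.mem_coe.1 hg')).2
      simp only [dif_pos h1, dif_pos h2] at e
      refine Subtype.ext (mul_right_cancel (b := (g0 : G)⁻¹) ?_)
      rw [← hve g h1, ← hve g' h2, e]
  have hle := Finset.card_le_mul_card_image (f := fun g => f g / 64) (Finset.univ : Finset B) 8 hfib
  rw [Finset.card_univ, ← Nat.card_eq_fintype_card, h64] at hle
  have hsub : (Finset.univ : Finset B).image (fun g => f g / 64) ⊆ Finset.range 8 := fun i hi => by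
    obtain ⟨g, -, rfl⟩ := Finset.mem_image.1 hi
    exact Finset.mem_range.2 (by have := hf g; omega)
  have hall := Finset.eq_of_subset_of_card_le hsub (by rw [Finset.card_range]; omega)
  obtain ⟨g1, -, hg1⟩ := Finset.mem_image.1 (hall ▸ Finset.mem_range.2 (show 1 < 8 by norm_num) :
    1 ∈ (Finset.univ : Finset B).image (fun g => f g / 64))
  obtain ⟨g2, -, hg2⟩ := Finset.mem_image.1 (hall ▸ Finset.mem_range.2 (show 2 < 8 by norm_num) :
    2 ∈ (Finset.univ : Finset B).image (fun g => f g / 64))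
  have h1 := hf g1
  have h2 := hf g2
  have hnc := List.all_eq_true.1 (List.all_eq_true.1 top_noncomm (f g1 % 64) (List.mem_range.2 (Nat.mod_lt _ (by norm_num))))
    (f g2 % 64) (List.mem_range.2 (Nat.mod_lt _ (by norm_num)))
  rw [show 64 + f g1 % 64 = f g1 by omega, show 128 + f g2 % 64 = f g2 by omega,
    (L.cm_iff h1 h2).2 (by rw [hfe, hfe]; exact hc _ g1.2 _ g2.2)] at hnc
  simp at hnc

theorem mem_norm_A {k : G} (h : ∀ x ∈ L.A, k * x * k⁻¹ ∈ (L.S : Subgroup G)) :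
    k ∈ normalizer (L.A : Set G) := by
  refine mem_normalizer_iff_map_conj_eq.2 (L.A_unique (B := L.A.map (MulAut.conj k).toMonoidHom) ?_ ?_ ?_)
  · rintro _ ⟨x, hx, rfl⟩; exact h x hx
  · rintro _ ⟨x, hx, rfl⟩ _ ⟨y, hy, rfl⟩
    rw [← map_mul, ← map_mul, L.A_comm hx hy]
  · rw [card_map_of_injective (MulAut.conj k).injective, L.card_A]

theorem S_le_norm_A : (L.S : Subgroup G) ≤ normalizer (L.A : Set G) := fun s hs =>
  L.mem_norm_A fun x hx => mul_mem (mul_mem hs (L.sub_le _ hx)) (inv_mem hs)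

/-- The normalizer of `A` controls the fusion in `A`. -/
theorem control {u g : G} (hu : u ∈ L.A) (hv : g * u * g⁻¹ ∈ L.A) :
    ∃ n ∈ normalizer (L.A : Set G), n * u * n⁻¹ = g * u * g⁻¹ := by
  haveI : Fact (Nat.Prime 2) := ⟨Nat.prime_two⟩
  set C := centralizer ({g * u * g⁻¹} : Set G)
  have h1 : L.A ≤ C := fun x hx => mem_centralizer_singleton_iff.2 (L.A_comm hx hv)
  have h2 : L.A.map (MulAut.conj g).toMonoidHom ≤ C := by
    rintro _ ⟨x, hx, rfl⟩
    refine mem_centralizer_singleton_iff.2 ?_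
    show g * x * g⁻¹ * (g * u * g⁻¹) = g * u * g⁻¹ * (g * x * g⁻¹)
    calc _ = g * (x * u) * g⁻¹ := by group
      _ = _ := by rw [L.A_comm hx hu]; group
  have hA2 : IsPGroup 2 L.A := L.S.2.to_le (L.sub_le _)
  obtain ⟨T, hT⟩ := (hA2.comap_subtype (K := C)).exists_le_sylow
  obtain ⟨T', hT'⟩ := ((hA2.map (MulAut.conj g).toMonoidHom).comap_subtype (K := C)).exists_le_sylow
  obtain ⟨c, hc⟩ := MulAction.exists_smul_eq C T' T
  obtain ⟨U, hU⟩ := (T.2.map C.subtype).exists_le_sylow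
  obtain ⟨k, hk⟩ := MulAction.exists_smul_eq G U L.S
  have hkS : ∀ y ∈ (T : Subgroup C), k * (y : G) * k⁻¹ ∈ (L.S : Subgroup G) := fun y hy => by
    rw [← hk]
    exact ⟨_, hU ⟨y, hy, rfl⟩, rfl⟩
  have e1 : k ∈ normalizer (L.A : Set G) := L.mem_norm_A fun x hx => hkS ⟨x, h1 hx⟩ (hT (mem_subgroupOf.2 hx))
  have e2 : k * ((c : G) * g) ∈ normalizer (L.A : Set G) := L.mem_norm_A fun x hx => by
    have hm : g * x * g⁻¹ ∈ L.A.map (MulAut.conj g).toMonoidHom := ⟨x, hx, rfl⟩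
    have h3 : c * (⟨g * x * g⁻¹, h2 hm⟩ : C) * c⁻¹ ∈ (T : Subgroup C) := by
      rw [← hc]
      exact ⟨_, hT' (mem_subgroupOf.2 hm), rfl⟩
    rw [show k * ((c : G) * g) * x * (k * ((c : G) * g))⁻¹ = k * ((c : G) * (g * x * g⁻¹) * (c : G)⁻¹) * k⁻¹ by group]
    exact hkS _ h3
  refine ⟨(c : G) * g, by simpa using mul_mem (inv_mem e1) e2, ?_⟩
  calc (c : G) * g * u * ((c : G) * g)⁻¹ = (c : G) * (g * u * g⁻¹) * (c : G)⁻¹ := by group
    _ = g * u * g⁻¹ := by rw [mem_centralizer_singleton_iff.1 c.2]; group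

variable [IsSimpleGroup G]

theorem zV {v : G} (hv : v ∈ L.V) (h1 : v ≠ 1) : L.Zc v := by
  obtain ⟨c, hc, hm, rfl⟩ := id hv
  refine (L.Zc_iff hc).2 ?_
  have h := allN_spec V_typ hc
  rw [hm, beq_iff_eq] at h
  rcases Bool.or_eq_true_iff.1 h.symm with e | e
  · exact absurd ((L.one_iff hc).2 (by simpa using e)) h1
  · rcases (show typ c = 0 ∨ typ c = 1 ∨ typ c = 2 by simp only [decide_eq_true_eq] at e; omega) with e | e | e <;> rw [e]
    · exact L.zv_zero
    · exact L.classes.1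
    · exact L.classes.2.1

theorem zmem_V : L.z ∈ L.V := (L.mem_sub closed_mV (by norm_num)).2 split_code.2.1

theorem a_mem_V : L.a ∈ L.V := (L.mem_sub closed_mV (by norm_num)).2 split_code.2.2.1

theorem move_z {u : G} (hu : u ∈ L.V) (h1 : u ≠ 1) :
    ∃ n ∈ normalizer (L.A : Set G), n * L.z * n⁻¹ = u := by
  obtain ⟨g, hg⟩ := isConj_iff.1 (L.zV hu h1)
  obtain ⟨n, hn, he⟩ := L.control (L.V_le_A L.zmem_V) (g := g) (hg ▸ L.V_le_A hu)
  exact ⟨n, hn, he.trans hg⟩

theorem norm_V {n : G} (hn : n ∈ normalizer (L.A : Set G)) {v : G} (hv : v ∈ L.V) : n * v * n⁻¹ ∈ L.V := by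
  obtain ⟨c, hc, hce⟩ := id ((mem_normalizer_iff.1 hn v).1 (L.V_le_A hv))
  have hcA := (L.A_iff hc).1 (hce.2 ▸ (mem_normalizer_iff.1 hn v).1 (L.V_le_A hv))
  obtain ⟨d, hd, hm, rfl⟩ := id hv
  have hA := allN_spec A_invol hd
  have hd64 := (L.A_iff hd).1 (L.V_le_A hv)
  simp only [hd64, decide_true, Bool.not_true, Bool.false_or, hm, Bool.and_eq_true, beq_iff_eq] at hA
  have hsq : L.φ d * L.φ d = 1 := by rw [(L.sq_iff hd (c := 0) (by norm_num)).1 hA.2, L.φ_zero]
  have hc2 : mulN c c = 0 := (L.one_iff (mulN_lt hc hc)).1 (by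
    rw [← L.mul c hc c hc, hce.2, show n * L.φ d * n⁻¹ * (n * L.φ d * n⁻¹) = n * (L.φ d * L.φ d) * n⁻¹ by group, hsq,
      mul_one, mul_inv_cancel])
  have hC := allN_spec A_invol hc
  simp only [hcA, decide_true, Bool.not_true, Bool.false_or, hc2, beq_self_eq_true, Bool.and_eq_true] at hC
  rw [← hce.2]
  exact (L.mem_sub closed_mV hc).2 hC.1.1

theorem V_cases {v : G} (hv : v ∈ L.V) (h1 : v ≠ 1) :
    v = L.z ∨ v = L.a ∨ v = L.z * L.a ∨ ∃ c < 512, typ c = 2 ∧ L.φ c = v := by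
  obtain ⟨c, hc, hm, rfl⟩ := hv
  have h := allN_spec split_code.2.2.2.2.2.2.2.2.2.2.2.1 hc
  have hc0 : c ≠ 0 := fun e => h1 (e ▸ L.φ_zero)
  simp only [hm, beq_eq_false_iff_ne.2 hc0, Bool.not_false, Bool.and_self, Bool.not_true, Bool.false_or,
    Bool.or_eq_true, beq_iff_eq] at h
  rcases h with ((h | h) | h) | h
  · exact Or.inl (h ▸ rfl)
  · exact Or.inr (Or.inl (h ▸ rfl))
  · exact Or.inr (Or.inr (Or.inl (by rw [h, ← L.mul 10 (by norm_num) 34 (by norm_num)]; rfl)))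
  · exact Or.inr (Or.inr (Or.inr ⟨c, hc, h, rfl⟩))

theorem b_class {c : ℕ} (hc : c < 512) (h : typ c = 2) :
    L.φ c ∈ L.V ∧ L.φ c ≠ L.z ∧ L.φ c ≠ L.a ∧ L.φ c ≠ L.z * L.a := by
  have h' := allN_spec split_code.2.2.2.2.2.2.2.2.2.2.1 hc
  simp only [h, beq_self_eq_true, Bool.not_true, Bool.false_or, Bool.and_eq_true, Bool.not_eq_true',
    beq_eq_false_iff_ne] at h'
  refine ⟨(L.mem_sub closed_mV hc).2 h'.1.1.1, fun e => h'.1.1.2 (L.inj c hc 10 (by norm_num) e),
    fun e => h'.1.2 (L.inj c hc 34 (by norm_num) e), fun e => h'.2 (L.inj c hc _ (mulN_lt (by norm_num) (by norm_num)) ?_)⟩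
  rw [e, ← L.mul 10 (by norm_num) 34 (by norm_num)]
  rfl

theorem stab_orbit {c : ℕ} (hc : c < 512) (h : typ c = 2) :
    ∃ s ∈ (L.S : Subgroup G), s * L.a * s⁻¹ = L.a ∧ s * L.b * s⁻¹ = L.φ c := by
  have h' := allN_spec V_action hc
  simp only [h, beq_self_eq_true, Bool.not_true, Bool.false_or] at h'
  obtain ⟨s, hs, hs'⟩ := anyN_spec h'
  simp only [Bool.and_eq_true, beq_iff_eq] at hs'
  refine ⟨L.φ s, L.mem hs, mul_inv_eq_iff_eq_mul.2 ((L.cm_iff (by norm_num) hs).1 hs'.1).symm, ?_⟩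
  show L.φ s * L.φ 2 * (L.φ s)⁻¹ = L.φ c
  rw [L.φ_cj hs (by norm_num), hs'.2]

theorem b_ne : L.b ∈ L.V ∧ L.b ≠ L.z ∧ L.b ≠ L.a ∧ L.b ≠ L.z * L.a :=
  L.b_class (by norm_num) split_code.2.2.2.2.2.2.2.2.2.2.2.2.2

/-- The first three nontrivial elements of the line of `z` and `a`. -/
def Line (x : G) : Prop := x = L.z ∨ x = L.a ∨ x = L.z * L.a

theorem za_comm : L.z * L.a = L.a * L.z := L.A_comm (L.V_le_A L.zmem_V) (L.V_le_A L.a_mem_V)

theorem a_sq : L.a * L.a = 1 := (L.Zc_invol (L.zV L.a_mem_V fun h => by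
  simpa using (L.one_iff (a := 34) (by norm_num)).1 h)).1

theorem a_ne : L.a ≠ 1 := fun h => by simpa using (L.one_iff (a := 34) (by norm_num)).1 h

theorem za_ne : L.z * L.a ≠ 1 := fun h => by
  have e : L.z = L.a := by
    rw [← mul_one L.z, ← L.a_sq, ← mul_assoc, h, one_mul]
  exact absurd (L.inj 10 (by norm_num) 34 (by norm_num) e) (by norm_num)

theorem Line.mem {x : G} (h : L.Line x) : x ∈ L.V ∧ x ≠ 1 := by
  rcases h with rfl | rfl | rfl
  exacts [⟨L.zmem_V, L.z_ne⟩, ⟨L.a_mem_V, L.a_ne⟩, ⟨mul_mem L.zmem_V L.a_mem_V, L.za_ne⟩]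

theorem line_mul {x y : G} (hx : L.Line x) (hy : L.Line y) (h : x ≠ y) : L.Line (x * y) := by
  have hz := L.z_inv
  have ha := L.a_sq
  have hza := L.za_comm
  rcases hx with rfl | rfl | rfl <;> rcases hy with rfl | rfl | rfl
  all_goals first
    | exact absurd rfl h
    | exact Or.inr (Or.inr rfl)
    | exact Or.inr (Or.inr hza.symm)
    | (refine Or.inr (Or.inl ?_); rw [← mul_assoc, hz, one_mul])
    | (refine Or.inl ?_; rw [mul_assoc, ha, mul_one])
    | (refine Or.inl ?_; rw [hza, ← mul_assoc, ha, one_mul])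
    | (refine Or.inr (Or.inl ?_); rw [hza, mul_assoc, hz, mul_one])

/-- An element of the normalizer of `A` fixing `z` and moving the line of `z` and `a`. -/
theorem exists_off : ∃ n ∈ normalizer (L.A : Set G), n * L.z * n⁻¹ = L.z ∧ ¬ L.Line (n * L.a * n⁻¹) := by
  by_contra hcon
  push Not at hcon
  have conjne : ∀ {n x y : G}, x ≠ y → n * x * n⁻¹ ≠ n * y * n⁻¹ := fun h e => h (mul_left_cancel (mul_right_cancel e))
  have hza1 : L.a ≠ L.z := fun e => absurd (L.inj 34 (by norm_num) 10 (by norm_num) e) (by norm_num)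
  have key : ∀ m ∈ normalizer (L.A : Set G), L.Line (m * L.z * m⁻¹) → L.Line (m * L.a * m⁻¹) := by
    intro m hm hl
    rcases hl with h | h | h
    · exact hcon m hm h
    all_goals
      by_contra hno
      have hma := L.norm_V hm L.a_mem_V
      rcases L.V_cases hma (fun e => L.a_ne (conj_eq_one_iff.1 e)) with e | e | e | ⟨c, hc, hct, hce⟩
      · exact hno (Or.inl e)
      · exact hno (Or.inr (Or.inl e))
      · exact hno (Or.inr (Or.inr e))
      have hline : ∀ t ∈ (L.S : Subgroup G), t * L.a * t⁻¹ = L.a →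
          t * (m * L.a * m⁻¹) * t⁻¹ = m * L.a * m⁻¹ ∨ t * (m * L.a * m⁻¹) * t⁻¹ = m * (L.z * L.a) * m⁻¹ := by
        intro t ht hta
        have htz : t * L.z * t⁻¹ = L.z := by rw [← L.z_comm ht, mul_inv_cancel_right]
        have hn' : m⁻¹ * t * m ∈ normalizer (L.A : Set G) := mul_mem (mul_mem (inv_mem hm) (L.S_le_norm_A ht)) hm
        have hfix : t * (m * L.z * m⁻¹) * t⁻¹ = m * L.z * m⁻¹ := by
          rw [h]
          first
            | exact hta
            | rw [show t * (L.z * L.a) * t⁻¹ = (t * L.z * t⁻¹) * (t * L.a * t⁻¹) by group, hta, htz]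
        have hz' : m⁻¹ * t * m * L.z * (m⁻¹ * t * m)⁻¹ = L.z := by
          rw [show m⁻¹ * t * m * L.z * (m⁻¹ * t * m)⁻¹ = m⁻¹ * (t * (m * L.z * m⁻¹) * t⁻¹) * m by group, hfix]
          group
        have e2 : t * (m * L.a * m⁻¹) * t⁻¹ = m * (m⁻¹ * t * m * L.a * (m⁻¹ * t * m)⁻¹) * m⁻¹ := by group
        rcases hcon _ hn' hz' with e | e | e
        · exact absurd (e.trans hz'.symm) (conjne hza1)
        · exact Or.inl (by rw [e2, e])
        · exact Or.inr (by rw [e2, e])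
      have htwo : ∀ d, d < 512 → typ d = 2 → L.φ d = m * L.a * m⁻¹ ∨ L.φ d = m * (L.z * L.a) * m⁻¹ := by
        intro d hd hdt
        obtain ⟨s, hs, hsa, hsb⟩ := L.stab_orbit hd hdt
        obtain ⟨s', hs', hsa', hsb'⟩ := L.stab_orbit hc hct
        have ht : s * s'⁻¹ * L.a * (s * s'⁻¹)⁻¹ = L.a := by
          rw [show s * s'⁻¹ * L.a * (s * s'⁻¹)⁻¹ = s * (s'⁻¹ * L.a * s') * s⁻¹ by group,
            show s'⁻¹ * L.a * s' = L.a by nth_rewrite 1 [← hsa']; group, hsa]
        have := hline _ (mul_mem hs (inv_mem hs')) ht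
        rwa [show s * s'⁻¹ * (m * L.a * m⁻¹) * (s * s'⁻¹)⁻¹ = L.φ d by rw [← hce, ← hsb', ← hsb]; group] at this
      have h4 : ∀ d ∈ [2, 8, 32, 42], d < 512 ∧ typ d = 2 := by decide +kernel
      have g1 := htwo 2 (h4 2 (by simp)).1 (h4 2 (by simp)).2
      have g2 := htwo 8 (h4 8 (by simp)).1 (h4 8 (by simp)).2
      have g3 := htwo 32 (h4 32 (by simp)).1 (h4 32 (by simp)).2
      rcases g1 with a1 | a1 <;> rcases g2 with a2 | a2
      · exact absurd (L.inj 2 (by norm_num) 8 (by norm_num) (a1.trans a2.symm)) (by norm_num)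
      · rcases g3 with a3 | a3
        · exact absurd (L.inj 2 (by norm_num) 32 (by norm_num) (a1.trans a3.symm)) (by norm_num)
        · exact absurd (L.inj 8 (by norm_num) 32 (by norm_num) (a2.trans a3.symm)) (by norm_num)
      · rcases g3 with a3 | a3
        · exact absurd (L.inj 8 (by norm_num) 32 (by norm_num) (a2.trans a3.symm)) (by norm_num)
        · exact absurd (L.inj 2 (by norm_num) 32 (by norm_num) (a1.trans a3.symm)) (by norm_num)
      · exact absurd (L.inj 2 (by norm_num) 8 (by norm_num) (a1.trans a2.symm)) (by norm_num)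
  have keyall : ∀ m ∈ normalizer (L.A : Set G), L.Line (m * L.z * m⁻¹) →
      ∀ x, L.Line x → L.Line (m * x * m⁻¹) := by
    intro m hm hl x hx
    rcases hx with rfl | rfl | rfl
    · exact hl
    · exact key m hm hl
    · rw [show m * (L.z * L.a) * m⁻¹ = (m * L.z * m⁻¹) * (m * L.a * m⁻¹) by group]
      exact L.line_mul hl (key m hm hl) (conjne hza1.symm)
  obtain ⟨hbV, hbz, hba, hbza⟩ := L.b_ne
  obtain ⟨m, hm, hmb⟩ := L.move_z hbV (fun e => by
    exact absurd ((L.one_iff (a := 2) (by norm_num)).1 e) (by norm_num))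
  have hbnot : ¬ L.Line L.b := fun h => by
    rcases h with h | h | h
    exacts [hbz h, hba h, hbza h]
  obtain ⟨x, hx, hxl⟩ : ∃ x, L.Line x ∧ L.Line (m * x * m⁻¹) := by
    by_contra hno
    push Not at hno
    have hma := L.norm_V hm L.a_mem_V
    rcases L.V_cases hma (fun e => L.a_ne (conj_eq_one_iff.1 e)) with e | e | e | ⟨c, hc, hct, hce⟩
    · exact hno L.a (Or.inr (Or.inl rfl)) (Or.inl e)
    · exact hno L.a (Or.inr (Or.inl rfl)) (Or.inr (Or.inl e))
    · exact hno L.a (Or.inr (Or.inl rfl)) (Or.inr (Or.inr e))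
    have hpr : (allN fun d => !(typ d == 2) || (d == 2) || [10, 34, mulN 10 34].contains (mulN 2 d)) = true := by
      decide +kernel
    have h := allN_spec hpr hc
    have hc2 : c ≠ 2 := fun e => conjne hza1 (hce.symm.trans ((congrArg L.φ e).trans hmb.symm))
    simp only [hct, beq_self_eq_true, beq_eq_false_iff_ne.2 hc2, Bool.not_true, Bool.false_or, List.contains_eq_mem,
      List.mem_cons, List.not_mem_nil, or_false, decide_eq_true_eq] at h
    refine hno (L.z * L.a) (Or.inr (Or.inr rfl)) ?_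
    rw [show m * (L.z * L.a) * m⁻¹ = (m * L.z * m⁻¹) * (m * L.a * m⁻¹) by group, hmb, ← hce]
    show L.Line (L.φ 2 * L.φ c)
    rw [L.mul 2 (by norm_num) c hc]
    rcases h with h | h | h <;> rw [h]
    · exact Or.inl rfl
    · exact Or.inr (Or.inl rfl)
    · exact Or.inr (Or.inr (L.mul 10 (by norm_num) 34 (by norm_num)).symm)
  obtain ⟨k, hk, hkx⟩ := L.move_z (Line.mem L hx).1 (Line.mem L hx).2
  have hk' : ∀ y, L.Line y → L.Line (k * y * k⁻¹) := keyall k hk (by rw [hkx]; exact hx)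
  have hmk : ∀ y, L.Line y → L.Line (m * k * y * (m * k)⁻¹) := keyall _ (mul_mem hm hk) (by
    rw [show m * k * L.z * (m * k)⁻¹ = m * (k * L.z * k⁻¹) * m⁻¹ by group, hkx]
    exact hxl)
  refine hbnot (hmb ▸ ?_)
  have hcase : ∀ y, L.Line y → k * y * k⁻¹ = L.z → L.Line (m * L.z * m⁻¹) := fun y hy e => by
    have := hmk y hy
    rwa [show m * k * y * (m * k)⁻¹ = m * (k * y * k⁻¹) * m⁻¹ by group, e] at this
  rcases hk' L.a (Or.inr (Or.inl rfl)) with e | e | e
  · exact hcase _ (Or.inr (Or.inl rfl)) e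
  all_goals
    rcases hk' L.z (Or.inl rfl) with f | f | f
    · exact hcase _ (Or.inl rfl) f
    all_goals
      refine hcase (L.z * L.a) (Or.inr (Or.inr rfl)) ?_
      rw [show k * (L.z * L.a) * k⁻¹ = (k * L.z * k⁻¹) * (k * L.a * k⁻¹) by group, e, f]
      first
        | exact absurd (f.trans e.symm) (conjne hza1.symm)
        | rw [← mul_assoc, ← L.za_comm, mul_assoc, L.a_sq, mul_one]
        | rw [mul_assoc, L.a_sq, mul_one]

theorem stab_z {v : G} (hv : v ∈ L.V) (h1 : v ≠ 1) (hz : v ≠ L.z) :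
    ∃ n ∈ normalizer (L.A : Set G), n * L.z * n⁻¹ = L.z ∧ n * L.a * n⁻¹ = v := by
  have hza : ∀ {s : G}, s ∈ (L.S : Subgroup G) → s * L.z * s⁻¹ = L.z := fun hs => by
    rw [← L.z_comm hs, mul_inv_cancel_right]
  rcases L.V_cases hv h1 with e | e | e | ⟨c, hc, hct, rfl⟩
  · exact absurd e hz
  · exact ⟨1, one_mem _, by group, by rw [e]; group⟩
  · obtain ⟨-, s, hs, hse⟩ := L.to_rep (c := mulN 10 34) (mulN_lt (by norm_num) (by norm_num)) (by decide +kernel)
    refine ⟨L.φ s, L.S_le_norm_A (L.mem hs), hza (L.mem hs), ?_⟩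
    rw [split_code.2.2.2.2.2.2.2.1] at hse
    rw [e]
    exact hse.trans (L.mul 10 (by norm_num) 34 (by norm_num)).symm
  · obtain ⟨n, hn, hnz, hna⟩ := L.exists_off
    rcases L.V_cases (L.norm_V hn L.a_mem_V) (fun e => L.a_ne (conj_eq_one_iff.1 e)) with e | e | e | ⟨d, hd, hdt, hde⟩
    · exact absurd (Or.inl e) hna
    · exact absurd (Or.inr (Or.inl e)) hna
    · exact absurd (Or.inr (Or.inr e)) hna
    obtain ⟨s, hs, -, hsb⟩ := L.stab_orbit hc hct
    obtain ⟨s', hs', -, hsb'⟩ := L.stab_orbit hd hdt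
    have hss := mul_mem hs (inv_mem hs')
    refine ⟨s * s'⁻¹ * n, mul_mem (L.S_le_norm_A hss) hn, ?_, ?_⟩
    · rw [show s * s'⁻¹ * n * L.z * (s * s'⁻¹ * n)⁻¹ = s * s'⁻¹ * (n * L.z * n⁻¹) * (s * s'⁻¹)⁻¹ by group, hnz,
        hza hss]
    · rw [show s * s'⁻¹ * n * L.a * (s * s'⁻¹ * n)⁻¹ = s * s'⁻¹ * (n * L.a * n⁻¹) * (s * s'⁻¹)⁻¹ by group, ← hde,
        ← hsb', ← hsb]
      group

theorem fus : L.Fus where
  zV _ hv h1 := L.zV hv h1
  not_q h := by
    have := L.classes.2.2.1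
    rw [(L.zv_iff (k := 5)).2 ⟨by norm_num, h⟩] at this
    exact Bool.noConfusion this
  not_p h := by
    have := L.classes.2.2.2.1
    rw [(L.zv_iff (k := 6)).2 ⟨by norm_num, h⟩] at this
    exact Bool.noConfusion this
  x_iff := by
    have h := L.classes.2.2.2.2
    rw [Bool.eq_iff_iff, L.zv_iff, L.zv_iff] at h
    exact ⟨fun hx => (h.2 ⟨by norm_num, hx⟩).2, fun hx => (h.1 ⟨by norm_num, hx⟩).2⟩
  gl u hu v hv w hw hu1 hv1 hvu hw1 hwu hwv hwuv := by
    obtain ⟨n, hn, hnz⟩ := L.move_z hu hu1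
    have hback : ∀ {x : G}, x ∈ L.V → n⁻¹ * x * n ∈ L.V := fun hx => by
      simpa using L.norm_V (inv_mem hn) hx
    have hconj : ∀ {x : G}, n * (n⁻¹ * x * n) * n⁻¹ = x := by intro x; group
    obtain ⟨k, hk, hkz, hka⟩ := L.stab_z (v := n⁻¹ * v * n) (hback hv)
      (fun e => hv1 (by have := congrArg (fun y => n * y * n⁻¹) e; simpa [mul_assoc] using this))
      (fun e => hvu (by rw [← hnz, ← e, hconj]))
    set m := n * k with hm
    have hmA := mul_mem hn hk
    have hmz : m * L.z * m⁻¹ = u := by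
      rw [hm, show n * k * L.z * (n * k)⁻¹ = n * (k * L.z * k⁻¹) * n⁻¹ by group, hkz, hnz]
    have hma : m * L.a * m⁻¹ = v := by
      rw [hm, show n * k * L.a * (n * k)⁻¹ = n * (k * L.a * k⁻¹) * n⁻¹ by group, hka, hconj]
    have hw' : m⁻¹ * w * m ∈ L.V := by
      have := L.norm_V (inv_mem hmA) hw
      rwa [← hm, inv_inv] at this
    have hmw : m * (m⁻¹ * w * m) * m⁻¹ = w := by group
    rcases L.V_cases hw' (fun e => hw1 (by rw [← hmw, e, mul_one, mul_inv_cancel])) with e | e | e | ⟨c, hc, hct, hce⟩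
    · exact absurd (by rw [← hmw, e, hmz]) hwu
    · exact absurd (by rw [← hmw, e, hma]) hwv
    · refine absurd ?_ hwuv
      rw [← hmw, e, ← hmz, ← hma]
      group
    obtain ⟨s, hs, hsa, hsb⟩ := L.stab_orbit hc hct
    refine ⟨m * s, mul_mem hmA (L.S_le_norm_A hs), ?_, ?_, ?_⟩
    · rw [show m * s * L.z * (m * s)⁻¹ = m * (s * L.z * s⁻¹) * m⁻¹ by group, ← L.z_comm hs, mul_inv_cancel_right, hmz]
    · rw [show m * s * L.a * (m * s)⁻¹ = m * (s * L.a * s⁻¹) * m⁻¹ by group, hsa, hma]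
    · rw [show m * s * L.b * (m * s)⁻¹ = m * (s * L.b * s⁻¹) * m⁻¹ by group, hsb, hce, hmw]

end Syl

end Cfsg.Agent.HSSylow
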