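import Cfsg.Agent.HSSylow.Count
import Cfsg.Agent.FTCons.Basic
import Cfsg.Agent.Invol.ZStar
import Cfsg.Agent.S0111

/-!
Fusion of involutions: the conjugates of `z` in `V` and the classes outside.
-/

set_option autoImplicit false
set_option maxRecDepth 100000
set_option linter.unusedSectionVars false
set_option linter.style.haveILetI false

namespace Cfsg.Agent.HSSylow

open Subgroup

theorem closed_mM : closedM mM = true := by decide +kernel

theorem mask_facts : (((List.range 512).filter fun s => inM mM s).length = 256) ∧ inM mM 64 = false ∧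
    inM mM 80 = false ∧
    (allN fun s => !(inM mM s && isInv s) || ((typ s != 4) && (typ s != 6))) = true ∧
    ([192, 199].all fun u => decide (16 < ((List.range 512).filter fun s => cm u s && isInv s).length)) = true ∧
    ([64, 80].all fun u => decide (((List.range 512).filter fun s => cm u s && isInv s).length ≤ 15) &&
      allN fun s => !cm u s || (mulN s s == 0) || (mulN s s == 10)) = true := by
  decide +kernel

/-- The numbers of elements of the classes in the domains and images. -/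
theorem count_facts :
    ([64, 80].map fun u => (List.range 9).map fun k => nTyp (fun s => cm u s) k) =
        [[1, 0, 2, 4, 8, 0, 0, 0, 0], [1, 0, 2, 0, 0, 4, 8, 0, 0]] ∧
      ((imgM 320).map fun m => (List.range 9).map fun k => nTyp (fun s => inM m s) k) =
        [[1, 2, 0, 4, 8, 0, 0, 0, 0]] ∧
      ((imgM 339).map fun m => (List.range 9).map fun k => nTyp (fun s => inM m s) k) =
        [[1, 2, 0, 0, 0, 4, 8, 0, 0]] ∧
      ((imgM 34).map fun m => (List.range 9).map fun k => nTyp (fun s => inM m s) k) =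
        [[1, 2, 4, 8, 0, 0, 0, 0, 0], [1, 2, 4, 0, 0, 8, 0, 0, 0]] ∧
      ((imgM 2).map fun m => (List.range 9).map fun k => nTyp (fun s => inM m s) k) =
        [[1, 2, 4, 0, 8, 0, 0, 0, 0], [1, 2, 4, 0, 0, 0, 8, 0, 0]] := by
  decide +kernel

/-- The possible images of the two small centralizers, with their class distributions. -/
def imgOpts : List (ℕ × List ℕ) :=
  [(3, [1, 2, 0, 4, 8, 0, 0, 0, 0]), (5, [1, 2, 0, 0, 0, 4, 8, 0, 0]), (1, [1, 2, 4, 8, 0, 0, 0, 0, 0]),
    (1, [1, 2, 4, 0, 0, 8, 0, 0, 0]), (2, [1, 2, 4, 0, 8, 0, 0, 0, 0]), (2, [1, 2, 4, 0, 0, 0, 8, 0, 0])]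

/-- A count from a distribution. -/
def sumL : List Bool → List ℕ → ℕ
  | b :: bs, n :: ns => (if b then n else 0) + sumL bs ns
  | _, _ => 0

/-- The conditions of the two transfers on a valuation. -/
def transferOK (v : List Bool) (o o' : ℕ × List ℕ) : Bool :=
  (v.getD 1 false || v.getD 2 false) && (v.getD 4 false == v.getD o.1 false) &&
    (v.getD 6 false == v.getD o'.1 false) &&
    (sumL v [1, 0, 2, 4, 8, 0, 0, 0, 0] == sumL v o.2) && (sumL v [1, 0, 2, 0, 0, 4, 8, 0, 0] == sumL v o'.2)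

/-- The valuations allowed by the two transfers. -/
theorem logic : ∀ b1 b2 b3 b4 b6 b7 b8 : Bool, (imgOpts.all fun o => imgOpts.all fun o' =>
    !transferOK [true, b1, b2, b3, b4, false, b6, b7, b8] o o' || (b1 && b2 && !b6 && (b4 == b3))) = true := by
  decide +kernel

theorem sum_eq_sumL (v : ℕ → Bool) (n0 n1 n2 n3 n4 n5 n6 n7 n8 : ℕ) :
    (∑ j ∈ Finset.range 9, if v j then [n0, n1, n2, n3, n4, n5, n6, n7, n8].getD j 0 else 0) =
      sumL [v 0, v 1, v 2, v 3, v 4, v 5, v 6, v 7, v 8] [n0, n1, n2, n3, n4, n5, n6, n7, n8] := by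
  simp [Finset.sum_range_succ, sumL, add_assoc]

theorem count_sum {v : ℕ → Bool} {P : ℕ → Bool} {l : List ℕ} (h : ((List.range 9).map fun k => nTyp P k) = l) :
    (∑ k ∈ Finset.range 9, if v k then nTyp P k else 0) =
      ∑ k ∈ Finset.range 9, if v k then l.getD k 0 else 0 := by
  refine Finset.sum_congr rfl fun k hk => ?_
  rw [← h]
  simp [List.getD, List.getElem?_map, List.getElem?_range (Finset.mem_range.1 hk)]

namespace Syl

variable {G : Type*} [Group G] [Finite G] (L : Syl G)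

theorem conj_codes {g : G} {s t : ℕ} (hs : s < 512) (ht : t < 512) (he : g * L.φ s * g⁻¹ = L.φ t) :
    g * L.φ (mulN s s) * g⁻¹ = L.φ (mulN t t) := by
  rw [← L.mul s hs s hs, ← L.mul t ht t ht, ← he]
  group

/-- The normalizer image of an element of a centralizer. -/
theorem norm_image {u : ℕ} (hu : u < 512) {g : G} (hN : ∀ x ∈ L.cS u, g * x * g⁻¹ ∈ L.cS u) {s : ℕ} (hs : s < 512)
    (hsu : cm u s = true) : ∃ t < 512, cm u t = true ∧ g * L.φ s * g⁻¹ = L.φ t := by
  obtain ⟨t, ht, htu, hte⟩ := L.cS_cases hu (hN _ ((L.mem_cS hu hs).2 hsu))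
  exact ⟨t, ht, htu, hte.symm⟩

theorem isInv_of_conj {g : G} {s t : ℕ} (hs : s < 512) (ht : t < 512) (h : isInv s = true)
    (he : g * L.φ s * g⁻¹ = L.φ t) : isInv t = true := by
  obtain ⟨h1, h2⟩ := (L.inv_iff hs).1 h
  refine (L.inv_iff ht).2 ⟨?_, fun e => h2 ?_⟩
  · rw [← he, show g * L.φ s * g⁻¹ * (g * L.φ s * g⁻¹) = g * (L.φ s * L.φ s) * g⁻¹ by group, h1, mul_one,
      mul_inv_cancel]
  · rw [e] at he
    exact conj_eq_one_iff.1 he

theorem fix_one {u : ℕ} (hu : u ∈ [64, 339, 80]) (g : G) (hN : ∀ x ∈ L.cS u, g * x * g⁻¹ ∈ L.cS u) :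
    g * L.z = L.z * g := by
  have hu' : u < 512 := by fin_cases hu <;> norm_num
  have h := List.all_eq_true.1 sq_only u hu
  rw [Bool.and_eq_true] at h
  obtain ⟨s, hs, hsu⟩ := anyN_spec h.2
  simp only [Bool.and_eq_true, beq_iff_eq] at hsu
  obtain ⟨t, ht, htu, he⟩ := L.norm_image hu' hN hs hsu.1
  have he2 := L.conj_codes hs ht he
  rw [hsu.2] at he2
  have hi := L.isInv_of_conj (by norm_num) (mulN_lt ht ht) (by decide +kernel) he2
  have h3 := allN_spec h.1 ht
  simp only [htu, hi, Bool.not_true, Bool.false_or, beq_iff_eq] at h3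
  rw [h3] at he2
  exact mul_inv_eq_iff_eq_mul.1 he2

theorem fix_x8 (g : G) (hg : g * L.φ 320 = L.φ 320 * g) (hN : ∀ x ∈ L.cS 320, g * x * g⁻¹ ∈ L.cS 320) :
    g * L.z = L.z * g := by
  have h := sq_x8
  simp only [Bool.and_eq_true, beq_iff_eq] at h
  obtain ⟨⟨hsq, h16⟩, h8⟩ := h
  have hne : ((List.range 512).filter fun s => cm 320 s && (mulN s s == 10)) ≠ [] := fun e => by
    rw [e] at h16
    simp at h16
  obtain ⟨s, hs⟩ := List.exists_mem_of_ne_nil _ hne
  simp only [List.mem_filter, List.mem_range, Bool.and_eq_true, beq_iff_eq] at hs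
  obtain ⟨t, ht, htu, he⟩ := L.norm_image (by norm_num) hN hs.1 hs.2.1
  have he2 := L.conj_codes hs.1 ht he
  rw [hs.2.2] at he2
  have hi := L.isInv_of_conj (by norm_num) (mulN_lt ht ht) (by decide +kernel) he2
  have h3 := allN_spec hsq ht
  simp only [htu, hi, Bool.not_true, Bool.false_or, List.contains_eq_mem, List.mem_cons, List.not_mem_nil,
    or_false, decide_eq_true_eq] at h3
  rcases h3 with h3 | h3 | h3
  · rw [h3] at he2
    exact mul_inv_eq_iff_eq_mul.1 he2
  · rw [h3, show L.φ 320 = g * L.φ 320 * g⁻¹ by rw [hg, mul_inv_cancel_right]] at he2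
    exact absurd (L.inj 10 (by norm_num) 320 (by norm_num) (mul_left_cancel (mul_right_cancel he2))) (by norm_num)
  · exfalso
    have hle := L.count_le (P := fun s => cm 320 s && (mulN s s == 10))
      (Q := fun s => cm 320 s && (mulN s s == mulN 10 320)) g fun a ha hp => by
      simp only [Bool.and_eq_true, beq_iff_eq] at hp
      obtain ⟨b, hb, hbu, hbe⟩ := L.norm_image (by norm_num) hN ha hp.1
      have hb2 := L.conj_codes ha hb hbe
      rw [hp.2, he2, h3] at hb2
      refine ⟨b, hb, ?_, hbe⟩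
      simp only [Bool.and_eq_true, beq_iff_eq]
      exact ⟨hbu, L.inj _ (mulN_lt hb hb) _ (mulN_lt (by norm_num) (by norm_num)) hb2.symm⟩
    rw [h16, h8] at hle
    omega

theorem zv_of_conj {g : G} {c : ℕ} {k : ℕ} (hk : k < 9) (hc : c < 512) (he : g * L.φ c * g⁻¹ = L.φ (rep k))
    (h : L.zv (typ c) = true) : L.zv k = true :=
  L.zv_iff.2 ⟨hk, ((L.Zc_iff hc).2 h).trans (isConj_iff.2 ⟨g, he⟩)⟩

theorem dvd_zv {k : ℕ} (h : L.zv k = true) : 512 ∣ Nat.card (centralizer ({L.φ (rep k)} : Set G)) :=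
  L.dvd_of_Zc (L.zv_iff.1 h).2

theorem ne_zero_target {g : G} (hg : g * L.z = L.z * g) {u k : ℕ} (hu : u < 512) (hu10 : u ≠ 10)
    (he : g * L.φ u * g⁻¹ = L.φ (rep k)) : k ≠ 0 := by
  rintro rfl
  refine hu10 (L.inj u hu 10 (by norm_num) (mul_left_cancel (mul_right_cancel (he.trans ?_))))
  show L.z = g * L.z * g⁻¹
  rw [hg, mul_inv_cancel_right]

theorem cn_rep {k : ℕ} (hk : k < 9) : cnN (rep k) = [512, 256, 128, 64, 32, 64, 32, 32, 32].getD k 0 :=
  (rep_spec hk).2.2.2

/-- The big classes move into `V`. -/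
theorem zv_big {k : ℕ} (hk : k = 3 ∨ k = 5) (h : L.zv k = true) : L.zv 1 = true ∨ L.zv 2 = true := by
  have h9 : k < 9 := by omega
  obtain ⟨hlt, hi, htyp, hcn⟩ := rep_spec h9
  have hfix : ∀ g : G, g * L.φ (rep k) = L.φ (rep k) * g →
      (∀ x ∈ L.cS (rep k), g * x * g⁻¹ ∈ L.cS (rep k)) → g * L.z = L.z * g := by
    rcases hk with rfl | rfl
    · exact fun g h1 h2 => L.fix_x8 g h1 h2
    · exact fun g _ h2 => L.fix_one (u := 339) (by simp) g h2
  obtain ⟨c, hc, k', hk', he, hle, -⟩ := L.grown hlt hi (n := 6) (by rcases hk with rfl | rfl <;> exact hcn)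
    ((show 2 ^ 7 ∣ 512 by norm_num).trans (L.dvd_zv h)) hfix
  have hne := L.ne_zero_target hc hlt (by rcases hk with rfl | rfl <;> decide) he
  have hz' : L.zv k' = true := L.zv_of_conj hk' hlt he (by rw [htyp]; exact h)
  rw [cn_rep hk'] at hle
  interval_cases k' <;> first | exact absurd rfl hne | exact Or.inl hz' | exact Or.inr hz' | simp at hle

theorem y_facts {u : ℕ} (hu : u ∈ [192, 199]) : ∃ v < 512, inM mV v = true ∧ v ≠ 10 ∧ v ≠ 0 ∧ isInv v = true ∧
    typ (mulN 10 v) < 3 ∧ typ (mulN 10 v) ≠ 0 ∧ cm u v = true ∧ mulN v u ≠ 10 ∧ u ≠ 10 ∧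
    (∃ s < 512, cm u s = true ∧ mulN s s = v) ∧
    (allN fun s => !cm u s || !isInv (mulN s s) || (mulN s s == v)) = true ∧
    (allN fun c => !(cm u c && isInv c && allN fun s => !cm u s || cm s c) ||
      [10, v, mulN 10 v, u, mulN 10 u, mulN v u, mulN (mulN 10 v) u].contains c) = true ∧
    typ (mulN 10 u) = typ u ∧ typ (mulN (mulN 10 v) u) = typ u := by
  have hy := List.all_eq_true.1 sq_y u hu
  obtain ⟨v, hv, hv'⟩ := anyN_spec hy
  simp only [Bool.and_eq_true, Bool.not_eq_true', beq_eq_false_iff_ne, beq_iff_eq] at hv'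
  obtain ⟨⟨⟨⟨⟨⟨⟨hvV, hv10⟩, hv0⟩, hroot⟩, hsq⟩, hcen⟩, ht1⟩, ht2⟩ := hv'
  obtain ⟨s, hs, hsu⟩ := anyN_spec hroot
  simp only [Bool.and_eq_true, beq_iff_eq] at hsu
  have hfin : ([192, 199].all fun u => allN fun v => !(inM mV v && !(v == 10) && !(v == 0) &&
      anyN (fun s => cm u s && (mulN s s == v))) ||
      (isInv v && decide (typ (mulN 10 v) < 3) && !(typ (mulN 10 v) == 0) && cm u v && !(mulN v u == 10) &&
        !(u == 10))) = true := by decide +kernel
  have hroot' : anyN (fun s => cm u s && (mulN s s == v)) = true := anyN_intro hs (by simp [hsu.1, hsu.2])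
  have h := allN_spec (List.all_eq_true.1 hfin u hu) hv
  simp only [hvV, beq_eq_false_iff_ne.2 hv10, beq_eq_false_iff_ne.2 hv0, hroot', Bool.not_false, Bool.and_self,
    Bool.not_true, Bool.false_or, Bool.and_eq_true, decide_eq_true_eq, Bool.not_eq_true',
    beq_eq_false_iff_ne] at h
  obtain ⟨⟨⟨⟨⟨h1, h2⟩, h3⟩, h4⟩, h5⟩, h6⟩ := h
  exact ⟨v, hv, hvV, hv10, hv0, h1, h2, h3, h4, h5, h6, ⟨s, hs, hsu.1, hsu.2⟩, hsq, hcen, ht1, ht2⟩

theorem fix_y {u : ℕ} (hu : u ∈ [192, 199]) (hz : L.Zc (L.φ u)) (h1 : ¬ (L.zv 1 = true ∨ L.zv 2 = true))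
    (g : G) (hg : g * L.φ u = L.φ u * g) (hN : ∀ x ∈ L.cS u, g * x * g⁻¹ ∈ L.cS u) : g * L.z = L.z * g := by
  have hu' : u < 512 := by fin_cases hu <;> norm_num
  obtain ⟨v, hv, -, hv10, -, hvi, hlt3, h0, hcv, hvu, hu10, ⟨s, hs, hsu, hsv⟩, hsq, hcen, ht1, ht2⟩ := y_facts hu
  obtain ⟨t, ht, htu, hte⟩ := L.norm_image hu' hN hs hsu
  have hte2 := L.conj_codes hs ht hte
  rw [hsv] at hte2
  have h3 := allN_spec hsq ht
  simp only [htu, L.isInv_of_conj hv (mulN_lt ht ht) hvi hte2, Bool.not_true, Bool.false_or, beq_iff_eq] at h3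
  rw [h3] at hte2
  have hgu : g * L.φ u * g⁻¹ = L.φ u := by rw [hg, mul_inv_cancel_right]
  obtain ⟨w, hw, hwu, hwe⟩ := L.norm_image hu' hN (s := 10) (by norm_num)
    ((L.cm_iff hu' (by norm_num)).2 (L.z_comm (L.mem hu')).symm)
  have hwi := L.isInv_of_conj (by norm_num) hw (by decide +kernel) hwe
  have hmap : (L.cS u).map (MulAut.conj g).toMonoidHom = L.cS u :=
    eq_of_le_of_card_ge (by rintro _ ⟨x, hx, rfl⟩; exact hN x hx) (card_map_of_injective (MulAut.conj g).injective).ge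
  have hwc : allN (fun s => !cm u s || cm s w) = true := List.all_eq_true.2 fun s' hs' => by
    have hs'' := List.mem_range.1 hs'
    cases hc' : cm u s'
    · rfl
    · simp only [Bool.not_true, Bool.false_or]
      refine (L.cm_iff hs'' hw).2 ?_
      obtain ⟨x, hx, hxe⟩ := (hmap.ge ((L.mem_cS hu' hs'').2 hc') :
        L.φ s' ∈ (L.cS u).map (MulAut.conj g).toMonoidHom)
      have hxe : g * x * g⁻¹ = L.φ s' := hxe
      rw [← hwe, ← hxe]
      calc g * x * g⁻¹ * (g * L.z * g⁻¹) = g * (x * L.z) * g⁻¹ := by group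
        _ = g * (L.z * x) * g⁻¹ := by rw [L.z_comm (mem_inf.1 hx).1]
        _ = g * L.z * g⁻¹ * (g * x * g⁻¹) := by group
  have h4 := allN_spec hcen hw
  simp only [hwu, hwi, hwc, Bool.and_self, Bool.not_true, Bool.false_or, List.contains_eq_mem, List.mem_cons,
    List.not_mem_nil, or_false, decide_eq_true_eq] at h4
  have hm1 : mulN 10 u < 512 := mulN_lt (by norm_num) hu'
  have hm2 : mulN 10 v < 512 := mulN_lt (by norm_num) hv
  have hm3 : mulN v u < 512 := mulN_lt hv hu'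
  have hm4 : mulN (mulN 10 v) u < 512 := mulN_lt hm2 hu'
  have h10v : L.φ (mulN 10 v) = L.z * L.φ v := (L.mul 10 (by norm_num) v hv).symm
  have h10u : L.φ (mulN 10 u) = L.z * L.φ u := (L.mul 10 (by norm_num) u hu').symm
  have h10vu : L.φ (mulN (mulN 10 v) u) = L.z * L.φ v * L.φ u := by rw [← L.mul _ hm2 u hu', h10v]
  have hfinish : ¬ L.Zc (L.φ (mulN 10 v)) := fun hc => h1 (by
    have h' := (L.Zc_iff hm2).1 hc
    rcases (show typ (mulN 10 v) = 1 ∨ typ (mulN 10 v) = 2 by omega) with e | e <;> rw [e] at h'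
    · exact Or.inl h'
    · exact Or.inr h')
  have hz' : ∀ x : ℕ, x < 512 → typ x = typ u → L.Zc (L.φ x) := fun x hx hxt =>
    (L.Zc_iff hx).2 (by rw [hxt]; exact (L.Zc_iff hu').1 hz)
  have hvv : L.φ v * L.φ v = 1 := ((L.inv_iff hv).1 hvi).1
  have huv : L.φ u * L.φ v = L.φ v * L.φ u := (L.cm_iff hu' hv).1 hcv
  have hgvu : g * L.φ (mulN v u) * g⁻¹ = L.φ (mulN v u) := by
    rw [← L.mul v hv _ hu', show g * (L.φ v * L.φ u) * g⁻¹ = (g * L.φ v * g⁻¹) * (g * L.φ u * g⁻¹) by group, hte2, hgu]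
  have hgv : g * L.φ (mulN 10 v) * g⁻¹ = L.φ w * L.φ v := by
    rw [h10v, show g * (L.z * L.φ v) * g⁻¹ = (g * L.φ 10 * g⁻¹) * (g * L.φ v * g⁻¹) from by
      show _ = (g * L.z * g⁻¹) * _; group, hwe, hte2]
  rcases h4 with h4 | h4 | h4 | h4 | h4 | h4 | h4 <;> rw [h4] at hwe hgv
  · exact mul_inv_eq_iff_eq_mul.1 hwe
  · exact absurd (L.inj _ hv 10 (by norm_num) (mul_left_cancel (mul_right_cancel (hte2.trans hwe.symm)))) hv10
  · exact absurd (isConj_iff.2 ⟨g, hwe⟩) hfinish
  · exact absurd (L.inj _ hu' 10 (by norm_num) (mul_left_cancel (mul_right_cancel (hgu.trans hwe.symm)))) hu10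
  · refine absurd ((hz' _ hm4 ht2).trans (IsConj.symm (isConj_iff.2 ⟨g, ?_⟩))) hfinish
    rw [hgv, h10u, h10vu, mul_assoc, mul_assoc, huv]
  · exact absurd (L.inj _ hm3 10 (by norm_num) (mul_left_cancel (mul_right_cancel (hgvu.trans hwe.symm)))) hvu
  · refine absurd ((hz' _ hm1 ht1).trans (IsConj.symm (isConj_iff.2 ⟨g, ?_⟩))) hfinish
    rw [hgv, h10u, h10vu, mul_assoc (L.z * L.φ v), huv, ← mul_assoc, mul_assoc L.z, hvv, mul_one]

/-- Every class of conjugates of `z` leads into `V`. -/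
theorem zv_small {k : ℕ} (hk0 : k ≠ 0) (h : L.zv k = true) : L.zv 1 = true ∨ L.zv 2 = true := by
  have h9 : k < 9 := (L.zv_iff.1 h).1
  obtain ⟨hlt, hi, htyp, hcn⟩ := rep_spec h9
  have hgrow : cnN (rep k) = 2 ^ 5 → ∀ c : G, c * L.z = L.z * c → ∀ k' < 9,
      c * L.φ (rep k) * c⁻¹ = L.φ (rep k') → 2 ^ 6 ≤ cnN (rep k') → L.zv 1 = true ∨ L.zv 2 = true := by
    intro hc5 c hc k' hk' he hle
    have hne := L.ne_zero_target hc hlt (fun e => by rw [e] at hc5; exact absurd hc5 (by decide +kernel)) he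
    have hz' : L.zv k' = true := L.zv_of_conj hk' hlt he (by rw [htyp]; exact h)
    rw [cn_rep hk'] at hle
    interval_cases k' <;>
      first | exact absurd rfl hne | exact Or.inl hz' | exact Or.inr hz' | exact L.zv_big (Or.inl rfl) hz' |
        exact L.zv_big (Or.inr rfl) hz' | simp at hle
  rcases (show k = 1 ∨ k = 2 ∨ k = 3 ∨ k = 5 ∨ k = 4 ∨ k = 6 ∨ k = 7 ∨ k = 8 by omega) with
    e | e | e | e | e | e | e | e
  · exact Or.inl (e ▸ h)
  · exact Or.inr (e ▸ h)
  · exact L.zv_big (Or.inl e) h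
  · exact L.zv_big (Or.inr e) h
  all_goals have hc5 : cnN (rep k) = 2 ^ 5 := by subst e; exact hcn
  all_goals have hdvd := (show 2 ^ 6 ∣ 512 by norm_num).trans (L.dvd_zv h)
  · obtain ⟨c, hc, k', hk', he, hle, -⟩ := L.grown hlt hi hc5 hdvd
      fun g _ hN => L.fix_one (u := rep k) (by subst e; decide) g hN
    exact hgrow hc5 c hc k' hk' he hle
  · obtain ⟨c, hc, k', hk', he, hle, -⟩ := L.grown hlt hi hc5 hdvd
      fun g _ hN => L.fix_one (u := rep k) (by subst e; decide) g hN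
    exact hgrow hc5 c hc k' hk' he hle
  all_goals
    by_contra hcon
    have hu : rep k ∈ [192, 199] := by subst e; decide
    obtain ⟨c, hc, k', hk', he, hle, -⟩ := L.grown hlt hi hc5 hdvd
      fun g hg hN => L.fix_y hu (L.zv_iff.1 h).2 hcon g hg hN
    exact hcon (hgrow hc5 c hc k' hk' he hle)

theorem not_isolated [IsSimpleGroup G] : ∃ g : G, g * L.z * g⁻¹ * L.z = L.z * (g * L.z * g⁻¹) ∧ g * L.z * g⁻¹ ≠ L.z := by
  by_contra hcon
  simp only [not_exists, not_and, not_not] at hcon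
  have ho : orderOf L.z = 2 := orderOf_eq_prime (by rw [pow_two, L.z_inv]) L.z_ne
  have hz : Cfsg.IsIsolatedInvolution L.z := ⟨ho, fun g hc => hcon g hc.symm.eq⟩
  have hev : Even (Nat.card G) := even_iff_two_dvd.2 (ho ▸ orderOf_dvd_natCard L.z)
  have hc : L.z ∈ center G := mem_center_iff.2 fun g => by
    have h := Invol.zstar hz g
    rw [FTCons.oddCore_eq_bot_of_simple hev, mem_bot, mul_inv_eq_one, mul_inv_eq_iff_eq_mul] at h
    exact h.symm
  haveI := FTCons.isCyclic_of_central hc L.z_ne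
  let _ : CommGroup G := IsCyclic.commGroup
  have h12 := L.mul 64 (by norm_num) 128 (by norm_num)
  rw [mul_comm, L.mul 128 (by norm_num) 64 (by norm_num)] at h12
  exact absurd (L.inj _ (mulN_lt (by norm_num) (by norm_num)) _ (mulN_lt (by norm_num) (by norm_num)) h12)
    (by decide +kernel)

theorem zv_one_or_two [IsSimpleGroup G] : L.zv 1 = true ∨ L.zv 2 = true := by
  obtain ⟨g, hc, hne⟩ := L.not_isolated
  set u := g * L.z * g⁻¹ with hu
  have hu2 : u * u = 1 := (L.Zc_invol (isConj_iff.2 ⟨g, rfl⟩)).1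
  obtain ⟨c, hcC, hcS⟩ := L.conj_into L.S_le_centz (T := zpowers u) (isPGroup_zpowers hu2)
    (zpowers_le.2 (mem_centralizer_singleton_iff.2 hc))
  obtain ⟨r, hr, hre⟩ := (L.range _).1 (hcS u (mem_zpowers u))
  have hz : L.zv (typ r) = true := (L.Zc_iff hr).1 (by
    rw [hre]
    exact isConj_iff.2 ⟨c * g, by rw [hu]; group⟩)
  refine L.zv_small (fun e => hne ?_) hz
  obtain ⟨-, s, hs, he⟩ := L.to_rep hr ((L.inv_iff hr).2 (L.Zc_invol ((L.Zc_iff hr).2 hz)))
  rw [e] at he
  have h1 : c * u * c⁻¹ = L.z := by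
    rw [← hre, ← he]
    show L.φ s * L.z * (L.φ s)⁻¹ = L.z
    rw [← L.z_comm (L.mem hs), mul_inv_cancel_right]
  calc u = c⁻¹ * (c * u * c⁻¹) * c := by group
    _ = L.z := by rw [h1, mul_assoc, ← mem_centralizer_singleton_iff.1 hcC, inv_mul_cancel_left]

include L in
theorem no_index_two [IsSimpleGroup G] (N : Subgroup G) (hN : N.Normal) : N.index ≠ 2 := by
  intro hi
  rcases hN.eq_bot_or_eq_top with rfl | rfl
  · rw [index_bot] at hi
    have h := card_subgroup_dvd_card (L.S : Subgroup G)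
    rw [L.card_S, hi] at h
    omega
  · rw [index_top] at hi
    omega

theorem card_sub_codes {m : ℕ} (h : closedM m = true) :
    Nat.card (L.sub m h) = ((List.range 512).filter fun s => inM m s).length := by
  classical
  have hf : ∀ s : {s // s ∈ (List.range 512).filter fun s => inM m s}, L.φ s.1 ∈ L.sub m h := fun s => by
    obtain ⟨h1, h2⟩ := List.mem_filter.1 s.2
    exact (L.mem_sub h (List.mem_range.1 h1)).2 h2
  rw [← Nat.card_congr (Equiv.ofBijective (fun s => (⟨L.φ s.1, hf s⟩ : L.sub m h)) ⟨?_, ?_⟩),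
    Nat.card_eq_fintype_card]
  · rw [← List.toFinset_card_of_nodup (List.nodup_range.filter _)]
    exact Fintype.card_of_subtype _ fun s => by simp
  · intro s t e
    exact Subtype.ext (L.inj _ (List.mem_range.1 (List.mem_filter.1 s.2).1) _
      (List.mem_range.1 (List.mem_filter.1 t.2).1) (congrArg Subtype.val e))
  · rintro ⟨x, hx⟩
    obtain ⟨s, hs, hm, rfl⟩ := hx
    exact ⟨⟨s, List.mem_filter.2 ⟨List.mem_range.2 hs, hm⟩⟩, rfl⟩

/-- The centralizers of `x16` and `p` in the Sylow subgroup are not Sylow subgroups of their centralizers. -/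
theorem dvd_small [IsSimpleGroup G] {u : ℕ} (hu : u ∈ [64, 80]) :
    2 ^ 6 ∣ Nat.card (centralizer ({L.φ u} : Set G)) := by
  haveI : Fact (Nat.Prime 2) := ⟨Nat.prime_two⟩
  obtain ⟨hcard, h64, h80, hmM, hy, hu15⟩ := mask_facts
  have hu' : u < 512 := by fin_cases hu <;> norm_num
  have hk : ∃ k < 9, rep k = u := by fin_cases hu <;> [exact ⟨4, by norm_num, rfl⟩; exact ⟨6, by norm_num, rfl⟩]
  obtain ⟨ku, hku, hkue⟩ := hk
  obtain ⟨hu2, hu1⟩ := (L.inv_iff hu').1 (hkue ▸ (rep_spec hku).2.1)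
  have hcn : cnN u = 2 ^ 5 := by fin_cases hu <;> decide +kernel
  have hiM : inM mM u = false := by fin_cases hu <;> assumption
  rcases S0111.result L.S (L.sub mM closed_mM) (L.sub_le _) (by
      have h := relIndex_mul_relIndex (⊥ : Subgroup G) (L.sub mM closed_mM) (L.S : Subgroup G) bot_le (L.sub_le _)
      rw [relIndex_bot_left, relIndex_bot_left, L.card_sub_codes, hcard, L.card_S] at h
      omega) (L.φ u) (orderOf_eq_prime (by rw [pow_two]; exact hu2) hu1) (L.mem hu')
      (fun h => by rw [L.mem_sub closed_mM hu', hiM] at h; simp at h) with ⟨N, hN, hi, -⟩ | ⟨g, hg⟩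
  · exact absurd hi (L.no_index_two N hN)
  obtain ⟨w, hw, hwM, hwe⟩ := hg
  have hwi : isInv w = true := L.isInv_of_conj hu' hw (hkue ▸ (rep_spec hku).2.1) hwe.symm
  obtain ⟨hk9, s, hs, hse⟩ := L.to_rep hw hwi
  have h2 := allN_spec hmM hw
  simp only [hwM, hwi, Bool.and_self, Bool.not_true, Bool.false_or, Bool.and_eq_true, bne_iff_ne, ne_eq] at h2
  have hconj : IsConj (L.φ u) (L.φ (rep (typ w))) :=
    isConj_iff.2 ⟨(L.φ s)⁻¹ * g, by
      rw [show (L.φ s)⁻¹ * g * L.φ u * ((L.φ s)⁻¹ * g)⁻¹ = (L.φ s)⁻¹ * (g * L.φ u * g⁻¹) * L.φ s by group, ← hwe,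
        ← hse]
      group⟩
  have hr := rep_spec hk9
  have hle : cnN (rep (typ w)) ∣ Nat.card (centralizer ({L.φ (rep (typ w))} : Set G)) := by
    rw [← L.card_cS hr.1]; exact card_dvd_of_le inf_le_right
  rw [← card_cent_conj hconj] at hle
  by_contra hcon
  obtain ⟨hu'', hy'⟩ : ((List.range 512).filter fun s => cm u s && isInv s).length ≤ 15 ∧ True := by
    have := List.all_eq_true.1 hu15 u hu
    simp only [Bool.and_eq_true, decide_eq_true_eq] at this
    exact ⟨this.1, trivial⟩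
  have hcases : typ w = 7 ∨ typ w = 8 := by
    by_contra h78
    rw [hr.2.2.2] at hle
    refine hcon (dvd_trans ?_ hle)
    rcases (show typ w = 0 ∨ typ w = 1 ∨ typ w = 2 ∨ typ w = 3 ∨ typ w = 5 by omega) with e | e | e | e | e <;>
      rw [e] <;> decide
  obtain ⟨h, hh⟩ := isConj_iff.1 hconj
  set C := centralizer ({L.φ u} : Set G) with hC
  have hTC : L.cS u ≤ C := inf_le_right
  have hT2 : IsPGroup 2 ((L.cS u).subgroupOf C) := (L.S.2.to_le inf_le_left).comap_subtype
  let P : Sylow 2 C := hT2.toSylow (by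
    intro h2
    have h1 := ((L.cS u).subgroupOf C).card_mul_index
    rw [Nat.card_congr (subgroupOfEquivOfLe hTC).toEquiv, L.card_cS hu', hcn] at h1
    exact hcon (h1 ▸ by rw [pow_succ]; exact Nat.mul_dvd_mul_left _ h2))
  let T' := (L.cS (rep (typ w))).map (MulAut.conj h⁻¹).toMonoidHom
  have hT'C : T' ≤ C := by
    rintro _ ⟨x, hx, rfl⟩
    have hx' := mem_centralizer_singleton_iff.1 (mem_inf.1 hx).2
    rw [← hh] at hx'
    refine mem_centralizer_singleton_iff.2 ?_
    show h⁻¹ * x * h⁻¹⁻¹ * L.φ u = L.φ u * (h⁻¹ * x * h⁻¹⁻¹)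
    calc h⁻¹ * x * h⁻¹⁻¹ * L.φ u = h⁻¹ * (x * (h * L.φ u * h⁻¹)) * h := by group
      _ = _ := by rw [hx']; group
  obtain ⟨Q, hQ⟩ := (((L.S.2.to_le inf_le_left).map (MulAut.conj h⁻¹).toMonoidHom).comap_subtype (H := T') (K := C)).exists_le_sylow
  obtain ⟨c, hc⟩ := MulAction.exists_smul_eq C Q P
  have hle2 := L.count_le (P := fun s => cm (rep (typ w)) s && isInv s) (Q := fun s => cm u s && isInv s)
    ((c : G) * h⁻¹) fun a ha hp => by
    rw [Bool.and_eq_true] at hp
    have hm : h⁻¹ * L.φ a * h⁻¹⁻¹ ∈ T' := ⟨L.φ a, (L.mem_cS hr.1 ha).2 hp.1, rfl⟩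
    have h5 : c * (⟨_, hT'C hm⟩ : C) * c⁻¹ ∈ (P : Subgroup C) := by
      rw [← hc]
      exact ⟨_, hQ (mem_subgroupOf.2 hm), rfl⟩
    obtain ⟨b, hb, hbu, hbe⟩ := L.cS_cases hu' (mem_subgroupOf.1 h5)
    have he : (c : G) * h⁻¹ * L.φ a * ((c : G) * h⁻¹)⁻¹ = L.φ b := by
      rw [hbe]
      show _ = (c : G) * (h⁻¹ * L.φ a * h⁻¹⁻¹) * (c : G)⁻¹
      group
    exact ⟨b, hb, by rw [Bool.and_eq_true]; exact ⟨hbu, L.isInv_of_conj ha hb hp.2 he⟩, he⟩
  have h17 : 16 < ((List.range 512).filter fun s => cm (rep (typ w)) s && isInv s).length := by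
    have := List.all_eq_true.1 hy (rep (typ w)) (by rcases hcases with e | e <;> rw [e] <;> decide)
    simpa using this
  omega

/-- The image of the centralizer of `x16` or `p`. -/
theorem image_small [IsSimpleGroup G] {u : ℕ} (hu : u ∈ [64, 80]) :
    ∃ c : G, c * L.z = L.z * c ∧ ∃ k, (k = 3 ∨ k = 5 ∨ k = 1 ∨ k = 2) ∧ c * L.φ u * c⁻¹ = L.φ (rep k) ∧
      ∃ m ∈ imgM (rep k), (∑ j ∈ Finset.range 9, if L.zv j then nTyp (fun s => cm u s) j else 0) =
        ∑ j ∈ Finset.range 9, if L.zv j then nTyp (fun s => inM m s) j else 0 := by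
  have hu' : u < 512 := by fin_cases hu <;> norm_num
  have hi : isInv u = true := by fin_cases hu <;> decide +kernel
  have hcn : cnN u = 2 ^ 5 := by fin_cases hu <;> decide +kernel
  obtain ⟨c, hc, k, hk, he, hle, himg⟩ := L.grown hu' hi hcn (L.dvd_small hu)
    fun g _ hN => L.fix_one (by fin_cases hu <;> simp) g hN
  have hne := L.ne_zero_target hc hu' (by fin_cases hu <;> norm_num) he
  rw [cn_rep hk] at hle
  have hk' : k = 3 ∨ k = 5 ∨ k = 1 ∨ k = 2 := by interval_cases k <;> simp_all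
  refine ⟨c, hc, k, hk', he, ?_⟩
  set r := rep k with hr
  have hr4 : r ∈ [320, 339, 34, 2] := by rcases hk' with e | e | e | e <;> rw [hr, e] <;> decide
  have hr' : r < 512 := (rep_spec hk).1
  have hsp := List.all_eq_true.1 span_facts r hr4
  simp only [Bool.and_eq_true] at hsp
  obtain ⟨hcl, hroots⟩ := hsp
  obtain ⟨-, -, -, -, -, hu15⟩ := mask_facts
  have hsq := List.all_eq_true.1 hu15 u hu
  simp only [Bool.and_eq_true, decide_eq_true_eq] at hsq
  have hcz : c * L.φ 10 * c⁻¹ = L.φ 10 := by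
    show c * L.z * c⁻¹ = L.z
    rw [hc, mul_inv_cancel_right]
  have hval : ∀ s < 512, ∀ t < 512, cm u s = true → c * L.φ s * c⁻¹ = L.φ t →
      ((mulN t t == 0) || (mulN t t == 10)) = true := by
    intro s hs t ht hsu hte
    have h2 := L.conj_codes hs ht hte
    have h3 := allN_spec hsq.2 hs
    simp only [hsu, Bool.not_true, Bool.false_or, Bool.or_eq_true, beq_iff_eq] at h3
    simp only [Bool.or_eq_true, beq_iff_eq]
    rcases h3 with h3 | h3 <;> rw [h3] at h2
    · left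
      rw [L.φ_zero, mul_one, mul_inv_cancel] at h2
      exact (L.one_iff (mulN_lt ht ht)).1 h2.symm
    · right
      exact (L.inj _ (by norm_num) _ (mulN_lt ht ht) (hcz.symm.trans h2)).symm
  have hspan : ∀ s < 512, cm u s = true → ∃ t < 512, inM (spanM r) t = true ∧ c * L.φ s * c⁻¹ = L.φ t := by
    intro s hs hsu
    have hroot : ∀ g < 512, cm u g = true → mulN g g = 10 → ∃ t < 512, inM (spanM r) t = true ∧
        c * L.φ g * c⁻¹ = L.φ t := fun g hg hgu hg2 => by
      obtain ⟨t, ht, htr, hte⟩ := himg g hg hgu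
      have h3 := allN_spec hroots ht
      have h4 : mulN t t = 10 := by
        have h5 := L.conj_codes hg ht hte
        rw [hg2] at h5
        exact (L.inj _ (by norm_num) _ (mulN_lt ht ht) (hcz.symm.trans h5)).symm
      simp only [htr, h4, beq_self_eq_true, Bool.and_self, Bool.not_true, Bool.false_or] at h3
      exact ⟨t, ht, h3, hte⟩
    have h6 := allN_spec (List.all_eq_true.1 root_span u hu) hs
    simp only [hsu, Bool.not_true, Bool.false_or] at h6
    obtain ⟨g, hg, hg'⟩ := anyN_spec h6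
    simp only [Bool.and_eq_true, beq_iff_eq, Bool.or_eq_true] at hg'
    obtain ⟨⟨hgu, hg2⟩, hor⟩ := hg'
    obtain ⟨t, ht, htm, hte⟩ := hroot g hg hgu hg2
    rcases hor with hgs | hh
    · exact ⟨t, ht, htm, hgs ▸ hte⟩
    · obtain ⟨h, hh', hh2⟩ := anyN_spec hh
      simp only [Bool.and_eq_true, beq_iff_eq] at hh2
      obtain ⟨t', ht', htm', hte'⟩ := hroot h hh' hh2.1.1 hh2.1.2
      refine ⟨mulN t t', mulN_lt ht ht', (L.mem_sub hcl (mulN_lt ht ht')).1 ?_, ?_⟩
      · rw [← L.mul t ht t' ht']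
        exact mul_mem ((L.mem_sub hcl ht).2 htm) ((L.mem_sub hcl ht').2 htm')
      · rw [← hh2.2, ← L.mul g hg h hh', ← L.mul t ht t' ht', ← hte, ← hte']
        group
  have hdom : ∀ m ∈ imgM r, (∀ s < 512, cm u s = true → ∀ t < 512, c * L.φ s * c⁻¹ = L.φ t → inM m t = true) →
      ∃ m ∈ imgM r, (∑ j ∈ Finset.range 9, if L.zv j then nTyp (fun s => cm u s) j else 0) =
        ∑ j ∈ Finset.range 9, if L.zv j then nTyp (fun s => inM m s) j else 0 := by
    intro m hm hall
    refine ⟨m, hm, L.count_transfer c (fun s hs hsu => ?_) ?_⟩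
    · obtain ⟨t, ht, -, hte⟩ := hspan s hs hsu
      exact ⟨t, ht, hall s hs hsu t ht hte, hte⟩
    · have := List.all_eq_true.1 (List.all_eq_true.1 img_card r hr4) m hm
      simp only [beq_iff_eq] at this
      rw [this]
      exact hcn
  have hne' : imgM r ≠ [] := by rcases hk' with e | e | e | e <;> rw [hr, e] <;> decide +kernel
  by_cases hfirst : ∀ s < 512, cm u s = true → ∀ t < 512, c * L.φ s * c⁻¹ = L.φ t → inM ((imgM r).headD 0) t = true
  · exact hdom _ (by rw [List.headD_eq_head?_getD, List.head?_eq_some_head hne']; exact List.head_mem hne') hfirst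
  · push Not at hfirst
    obtain ⟨s, hs, hsu, t, ht, hte, htm⟩ := hfirst
    refine hdom ((imgM r).getLastD 0) (by
      rw [List.getLastD_eq_getLast?, List.getLast?_eq_some_getLast hne']; exact List.getLast_mem hne') ?_
    intro s' hs' hsu' t' ht' hte'
    obtain ⟨t₁, ht₁, htm₁, hte₁⟩ := hspan s hs hsu
    obtain rfl := L.inj _ ht _ ht₁ (hte.symm.trans hte₁)
    obtain ⟨t₂, ht₂, htm₂, hte₂⟩ := hspan s' hs' hsu'
    obtain rfl := L.inj _ ht' _ ht₂ (hte'.symm.trans hte₂)
    have h7 := allN_spec (List.all_eq_true.1 img_facts r hr4) ht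
    simp only [htm₁, hval s hs t ht hsu hte, Bool.and_self, Bool.not_true, Bool.false_or,
      show inM ((imgM r).headD 0) t = false by simpa using htm] at h7
    have h8 := allN_spec h7 ht'
    have hprod : ((mulN (mulN t t') (mulN t t') == 0) || (mulN (mulN t t') (mulN t t') == 10)) = true :=
      hval (mulN s s') (mulN_lt hs hs') _ (mulN_lt ht ht') ((L.cm_iff hu' (mulN_lt hs hs')).2 (by
        rw [← L.mul s hs s' hs', ← mul_assoc, (L.cm_iff hu' hs).1 hsu, mul_assoc, (L.cm_iff hu' hs').1 hsu',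
          mul_assoc])) (by rw [← L.mul s hs s' hs', ← L.mul t ht t' ht', ← hte, ← hte']; group)
    simp only [htm₂, hval s' hs' t' ht' hsu' hte', Bool.and_self, Bool.not_true, Bool.false_or, hprod,
      Bool.or_false] at h8
    exact h8

theorem q_zv_false : L.zv 5 = false := by
  rw [Bool.eq_false_iff]
  intro h
  obtain ⟨hlt, hi, htyp, hcn⟩ := rep_spec (k := 5) (by norm_num)
  rw [show rep 5 = 339 from rfl] at hi
  have hcn' : cnN 339 = 2 ^ 6 := by rw [← show rep 5 = 339 from rfl, hcn]; rfl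
  have hd := L.dvd_zv h
  rw [show rep 5 = 339 from rfl] at hd
  have hd' : 2 ^ (6 + 1) ∣ Nat.card (centralizer ({L.φ 339} : Set G)) := dvd_trans (by norm_num) hd
  obtain ⟨c, hc, k, hk, he, hle, himg⟩ := L.grown (u := 339) (by norm_num) hi (n := 6) hcn' hd'  fun g _ hN => L.fix_one (by simp) g hN
  have hne := L.ne_zero_target hc (by norm_num) (by norm_num) he
  rw [cn_rep hk] at hle
  have hr : rep k ∈ [34, 2] := by interval_cases k <;> simp_all [rep]
  have hr' : rep k < 512 := (rep_spec hk).1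
  have hq := q_eight
  simp only [Bool.and_eq_true, beq_iff_eq] at hq
  obtain ⟨⟨hg0, hg4⟩, hall⟩ := hq
  obtain ⟨g, hg, hgr, hge⟩ := himg 131 (by norm_num) hg0
  have hg2 := L.conj_codes (by norm_num) hg hge
  have hcz : c * L.φ 10 * c⁻¹ = L.φ 10 := by
    show c * L.z * c⁻¹ = L.z
    rw [hc, mul_inv_cancel_right]
  have hg4' : mulN (mulN g g) (mulN g g) = 10 := by
    have h4 := L.conj_codes (mulN_lt (by norm_num) (by norm_num)) (mulN_lt hg hg) hg2
    rw [hg4] at h4
    exact (L.inj _ (by norm_num) _ (mulN_lt (mulN_lt hg hg) (mulN_lt hg hg)) (hcz.symm.trans h4)).symm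
  have hno := allN_spec (List.all_eq_true.1 no_eight (rep k) hr) hg
  simp only [hgr, hg4', beq_self_eq_true, Bool.and_self, Bool.not_true, Bool.false_or, decide_eq_true_eq] at hno
  have hok : ∀ w < 512, ∀ w' < 512, c * L.φ w * c⁻¹ = L.φ w' →
      ((w == 0) || (w == mulN 131 131) || (w == 10) || (w == mulN 10 (mulN 131 131))) = true →
      ((w' == 0) || (w' == mulN g g) || (w' == 10) || (w' == mulN 10 (mulN g g))) = true := by
    intro w hw w' hw' hwe hwo
    simp only [Bool.or_eq_true, beq_iff_eq] at hwo ⊢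
    rcases hwo with ((h0 | h0) | h0) | h0 <;> rw [h0] at hwe
    · left; left; left
      rw [L.φ_zero, mul_one, mul_inv_cancel] at hwe
      exact (L.one_iff hw').1 hwe.symm
    · left; left; right
      exact (L.inj _ hw' _ (mulN_lt hg hg) (hwe.symm.trans hg2))
    · left; right
      exact (L.inj _ hw' _ (by norm_num) (hwe.symm.trans hcz))
    · right
      refine L.inj _ hw' _ (mulN_lt (by norm_num) (mulN_lt hg hg)) (hwe.symm.trans ?_)
      rw [← L.mul 10 (by norm_num) _ (mulN_lt (by norm_num) (by norm_num)), ← L.mul 10 (by norm_num) _ (mulN_lt hg hg),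
        ← hg2]
      conv_rhs => rw [← hcz]
      group
  have hle2 := L.count_le (P := fun s => cm 339 s) (Q := fun h => cm (rep k) h &&
      ((mulN h h == 0) || (mulN h h == mulN g g) || (mulN h h == 10) || (mulN h h == mulN 10 (mulN g g))) &&
      ((mulN (mulN g h) (mulN g h) == 0) || (mulN (mulN g h) (mulN g h) == mulN g g) ||
        (mulN (mulN g h) (mulN g h) == 10) || (mulN (mulN g h) (mulN g h) == mulN 10 (mulN g g)))) c
    fun s hs hsq => by
      obtain ⟨t, ht, htr, hte⟩ := himg s hs hsq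
      have h9 := allN_spec hall hs
      simp only [hsq, Bool.not_true, Bool.false_or, Bool.and_eq_true] at h9
      refine ⟨t, ht, ?_, hte⟩
      rw [Bool.and_eq_true, Bool.and_eq_true]
      refine ⟨⟨htr, hok _ (mulN_lt hs hs) _ (mulN_lt ht ht) (L.conj_codes hs ht hte) h9.1⟩, ?_⟩
      refine hok _ (mulN_lt (mulN_lt (by norm_num) hs) (mulN_lt (by norm_num) hs)) _ (mulN_lt (mulN_lt hg ht) (mulN_lt hg ht))
        (L.conj_codes (mulN_lt (by norm_num) hs) (mulN_lt hg ht) ?_) h9.2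
      rw [← L.mul 131 (by norm_num) s hs, ← L.mul g hg t ht, ← hge, ← hte]
      group
  have h64 : ((List.range 512).filter fun s => cm 339 s).length = 64 := by
    rw [← cnN, show (339 : ℕ) = rep 5 from rfl, cn_rep (by norm_num)]
    rfl
  omega

/-- The classes of conjugates of `z`. -/
theorem classes [IsSimpleGroup G] : L.zv 1 = true ∧ L.zv 2 = true ∧ L.zv 5 = false ∧ L.zv 6 = false ∧
    L.zv 4 = L.zv 3 := by
  have h12 := L.zv_one_or_two
  have h5 := L.q_zv_false
  have h0 := L.zv_zero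
  obtain ⟨hd, h320, h339, h34, h2⟩ := count_facts
  simp only [List.map_cons, List.map_nil, List.cons.injEq, and_true] at hd
  have key : ∀ u ∈ [64, 80], ∀ ku : ℕ, rep ku = u → ku < 9 → ∀ ld : List ℕ,
      ((List.range 9).map fun k => nTyp (fun s => cm u s) k) = ld →
      ∃ k l, (k, l) ∈ imgOpts ∧ L.zv ku = L.zv k ∧
        (∑ j ∈ Finset.range 9, if L.zv j then ld.getD j 0 else 0) =
          ∑ j ∈ Finset.range 9, if L.zv j then l.getD j 0 else 0 := by
    intro u hu ku hku hku9 ld hld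
    obtain ⟨c, -, k, hk, he, m, hm, hsum⟩ := L.image_small hu
    have hk9 : k < 9 := by omega
    refine ⟨k, (List.range 9).map fun j => nTyp (fun s => inM m s) j, ?_, ?_, ?_⟩
    · have hmem := List.mem_map_of_mem (f := fun m => (List.range 9).map fun j => nTyp (fun s => inM m s) j) hm
      rcases hk with rfl | rfl | rfl | rfl
      · rw [show rep 3 = 320 from rfl, h320, List.mem_singleton] at hmem
        rw [hmem]
        decide
      · rw [show rep 5 = 339 from rfl, h339, List.mem_singleton] at hmem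
        rw [hmem]
        decide
      · rw [show rep 1 = 34 from rfl, h34, List.mem_cons, List.mem_singleton] at hmem
        rcases hmem with e | e <;> rw [e] <;> decide
      · rw [show rep 2 = 2 from rfl, h2, List.mem_cons, List.mem_singleton] at hmem
        rcases hmem with e | e <;> rw [e] <;> decide
    · have hc : IsConj (L.φ (rep ku)) (L.φ (rep k)) := by rw [hku]; exact isConj_iff.2 ⟨c, he⟩
      rw [Bool.eq_iff_iff, L.zv_iff, L.zv_iff]
      exact ⟨fun h => ⟨hk9, h.2.trans hc⟩, fun h => ⟨hku9, h.2.trans hc.symm⟩⟩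
    · rw [← count_sum hld, ← count_sum rfl]
      exact hsum
  obtain ⟨k, l, ho, hk, e⟩ := key 64 (by simp) 4 rfl (by norm_num) _ hd.1
  obtain ⟨k', l', ho', hk', e'⟩ := key 80 (by simp) 6 rfl (by norm_num) _ hd.2
  have hval : ∀ o ∈ imgOpts, L.zv o.1 =
      [true, L.zv 1, L.zv 2, L.zv 3, L.zv 4, false, L.zv 6, L.zv 7, L.zv 8].getD o.1 false ∧
      (∑ j ∈ Finset.range 9, if L.zv j then o.2.getD j 0 else 0) =
        sumL [true, L.zv 1, L.zv 2, L.zv 3, L.zv 4, false, L.zv 6, L.zv 7, L.zv 8] o.2 := by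
    intro o ho
    simp only [imgOpts, List.mem_cons, List.not_mem_nil, or_false] at ho
    rcases ho with rfl | rfl | rfl | rfl | rfl | rfl <;> exact ⟨by simp [h5], by rw [sum_eq_sumL, h0, h5]⟩
  rw [sum_eq_sumL, h0, h5, (hval _ ho).2] at e
  rw [sum_eq_sumL, h0, h5, (hval _ ho').2] at e'
  have hl := List.all_eq_true.1 (List.all_eq_true.1
    (logic (L.zv 1) (L.zv 2) (L.zv 3) (L.zv 4) (L.zv 6) (L.zv 7) (L.zv 8)) (k, l) ho) (k', l') ho'
  have hOK : transferOK [true, L.zv 1, L.zv 2, L.zv 3, L.zv 4, false, L.zv 6, L.zv 7, L.zv 8] (k, l) (k', l') = true := by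
    simp only [transferOK, Bool.and_eq_true, beq_iff_eq, Bool.or_eq_true]
    exact ⟨⟨⟨⟨by simpa using h12, by simpa using hk.trans (hval _ ho).1⟩, by simpa using hk'.trans (hval _ ho').1⟩,
      e⟩, e'⟩
  simp only [hOK, Bool.not_true, Bool.false_or, Bool.and_eq_true, Bool.not_eq_true', beq_iff_eq] at hl
  exact ⟨hl.1.1.1, hl.1.1.2, h5, hl.1.2, hl.2⟩

end Syl

end Cfsg.Agent.HSSylow
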