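import Cfsg.Agent.HSSylow.FusGL
import Cfsg.Agent.HSSylow.Cent
import Cfsg.Agent.SylJ2.Generic

/-!
The centralizers of the pairs of commuting involutions through `z` have normal 2-complements.
-/

set_option autoImplicit false
set_option maxRecDepth 100000
set_option linter.unusedSectionVars false
set_option linter.style.haveILetI false

namespace Cfsg.Agent.HSSylow

open Subgroup
open Cfsg.Agent.SylJ2 (theta)

theorem loc_facts :
    (allN fun v => !inM mV v || [0, 10, 34, mulN 10 34, 2, mulN 10 2, mulN 34 2, mulN (mulN 10 34) 2].contains v) = true ∧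
      (allN fun c => !(inM mR c && isInv c) || decide (typ c ≤ 4)) = true ∧
      (allN fun s => !decide (s < 64) || inM mV (mulN s s)) = true ∧
      ([34, mulN 10 34, 2].all fun v => inM mV v) = true := by
  decide +kernel

theorem cn_small : ∀ d < 512, isInv d = true → d ≠ 10 → cnN d ≤ 256 := by
  intro d hd hi hd10
  have hd' : (allN fun d => !(isInv d && !(d == 10)) || decide (cnN d ≤ 256)) = true := by decide +kernel
  have h := allN_spec hd' hd
  simpa [hi, hd10] using h

theorem mul_of_sq_eq {H : Type*} [Group H] {z a x : H} (ha : x * a = a * x) (hz : x * z = z * x) :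
    x * (z * a) = z * a * x := by
  rw [← mul_assoc, hz, mul_assoc, ha, mul_assoc]

/-- Centralizers of conjugate pairs. -/
theorem TwoNil.conj_pair {H : Type*} [Group H] [Finite H] {x y x' y' g : H}
    (h : TwoNil ↥(centralizer ({x, y} : Set H))) (hx : g * x * g⁻¹ = x') (hy : g * y * g⁻¹ = y') :
    TwoNil ↥(centralizer ({x', y'} : Set H)) := by
  have hmem : ∀ t ∈ centralizer ({x', y'} : Set H), g⁻¹ * t * g ∈ centralizer ({x, y} : Set H) := by
    intro t ht
    rw [mem_centralizer_iff] at ht ⊢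
    intro u hu
    have key : ∀ u : H, g * u * g⁻¹ * t = t * (g * u * g⁻¹) → u * (g⁻¹ * t * g) = g⁻¹ * t * g * u := fun u h => by
      calc u * (g⁻¹ * t * g) = g⁻¹ * (g * u * g⁻¹ * t) * g := by group
        _ = g⁻¹ * (t * (g * u * g⁻¹)) * g := by rw [h]
        _ = _ := by group
    rcases hu with hu | hu <;> subst hu
    · exact key _ (by rw [hx]; exact ht x' (Or.inl rfl))
    · exact key _ (by rw [hy]; exact ht y' (Or.inr rfl))
  refine h.of_injective (f := ((MulAut.conj g⁻¹).toMonoidHom.comp (centralizer ({x', y'} : Set H)).subtype).codRestrict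
    (centralizer ({x, y} : Set H)) fun t => ?_) fun s t e => ?_
  · show g⁻¹ * (t : H) * g⁻¹⁻¹ ∈ _
    rw [inv_inv]
    exact hmem t t.2
  · exact Subtype.ext ((MulAut.conj g⁻¹).injective (congrArg Subtype.val e))

theorem TwoNil.of_isPGroup {H : Type*} [Group H] [Finite H] (h : IsPGroup 2 H) : TwoNil H := fun x hx => by
  obtain ⟨k, hk⟩ := h x
  exact mem_of_pow_two (D := Cfsg.oddCore H) hx (by rw [hk]; exact one_mem _)

namespace Syl

variable {G : Type*} [Group G] [Finite G] (L : Syl G)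

theorem mem_centV {x : G} : x ∈ centralizer (L.V : Set G) ↔
    x * L.z = L.z * x ∧ x * L.a = L.a * x ∧ x * L.b = L.b * x := by
  constructor
  · intro h
    have hh := fun {c : ℕ} (hc : c < 512) (hm : inM mV c = true) =>
      ((mem_centralizer_iff.1 h) (L.φ c) ((L.mem_sub closed_mV hc).2 hm)).symm
    exact ⟨hh (by norm_num) split_code.2.1, hh (by norm_num) split_code.2.2.1, hh (by norm_num) split_code.2.2.2.1⟩
  · rintro ⟨hz, ha, hb⟩
    refine mem_centralizer_iff.2 ?_
    rintro _ ⟨c, hc, hm, rfl⟩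
    have h := allN_spec loc_facts.1 hc
    simp only [hm, Bool.not_true, Bool.false_or, List.contains_eq_mem, List.mem_cons, List.not_mem_nil, or_false,
      decide_eq_true_eq] at h
    have e1 : L.φ (mulN 10 34) = L.z * L.a := (L.mul 10 (by norm_num) 34 (by norm_num)).symm
    have e2 : L.φ (mulN 10 2) = L.z * L.b := (L.mul 10 (by norm_num) 2 (by norm_num)).symm
    have e3 : L.φ (mulN 34 2) = L.a * L.b := (L.mul 34 (by norm_num) 2 (by norm_num)).symm
    have e4 : L.φ (mulN (mulN 10 34) 2) = L.z * L.a * L.b := by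
      rw [← L.mul _ (mulN_lt (by norm_num) (by norm_num)) 2 (by norm_num), e1]; rfl
    rcases h with h | h | h | h | h | h | h | h <;> subst h
    · rw [L.φ_zero, one_mul, mul_one]
    · exact hz.symm
    · exact ha.symm
    · rw [e1]; exact (mul_of_sq_eq ha hz).symm
    · exact hb.symm
    · rw [e2]; exact (mul_of_sq_eq hb hz).symm
    · rw [e3]; exact (mul_of_sq_eq hb ha).symm
    · rw [e4]; exact (mul_of_sq_eq hb (mul_of_sq_eq ha hz)).symm

theorem A_le_centV : L.A ≤ centralizer (L.V : Set G) := fun _ hx =>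
  mem_centralizer_iff.2 fun _ hv => L.A_comm (L.V_le_A hv) hx

theorem sq_mem_V {x : G} (hx : x ∈ L.A) : x * x ∈ L.V := by
  obtain ⟨c, hc, -, rfl⟩ := id hx
  have h := allN_spec loc_facts.2.2.1 hc
  simp only [(L.A_iff hc).1 hx, decide_true, Bool.not_true, Bool.false_or] at h
  rw [L.mul c hc c hc]
  exact (L.mem_sub closed_mV (mulN_lt hc hc)).2 h

theorem V_sq {v : G} (hv : v ∈ L.V) : v * v = 1 := by
  obtain ⟨c, hc, hm, rfl⟩ := id hv
  have h := allN_spec A_invol hc
  simp only [(L.A_iff hc).1 (L.V_le_A hv), decide_true, Bool.not_true, Bool.false_or, hm, Bool.and_eq_true,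
    beq_iff_eq] at h
  rw [L.mul c hc c hc, h.2, L.φ_zero]

variable [IsSimpleGroup G]

/-- A 2-subgroup of `C(V)` above `A` is `A`. -/
theorem A_max {T : Subgroup G} (hT : IsPGroup 2 T) (hAT : L.A ≤ T) (hTC : T ≤ centralizer (L.V : Set G)) :
    T ≤ L.A := by
  haveI : Fact (Nat.Prime 2) := ⟨Nat.prime_two⟩
  obtain ⟨U, hU⟩ := hT.exists_le_sylow
  obtain ⟨k, hk⟩ := MulAction.exists_smul_eq G U L.S
  have hkS : ∀ y ∈ T, k * y * k⁻¹ ∈ (L.S : Subgroup G) := fun y hy => by
    rw [← hk]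
    exact ⟨y, hU hy, rfl⟩
  have hkN : k ∈ normalizer (L.A : Set G) := L.mem_norm_A fun x hx => hkS x (hAT hx)
  intro t ht
  refine (mem_normalizer_iff.1 hkN t).2 ?_
  obtain ⟨s, hs, hse⟩ := (L.range _).1 (hkS t ht)
  have hcom : ∀ v ∈ L.V, L.φ s * v = v * L.φ s := fun v hv => by
    have hv' : k⁻¹ * v * k ∈ L.V := by
      have := L.norm_V (inv_mem hkN) hv
      rwa [inv_inv] at this
    have h := mem_centralizer_iff.1 (hTC ht) _ hv'
    rw [hse]
    calc k * t * k⁻¹ * v = k * (t * (k⁻¹ * v * k)) * k⁻¹ := by group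
      _ = k * (k⁻¹ * v * k * t) * k⁻¹ := by rw [h]
      _ = v * (k * t * k⁻¹) := by group
  have h1 := (L.cm_iff (a := 34) (by norm_num) hs).2 (hcom _ L.a_mem_V).symm
  have h2 := (L.cm_iff (a := 2) (by norm_num) hs).2 (hcom _ L.b_ne.1).symm
  have h := allN_spec A_cent hs
  simp only [h1, h2, Bool.and_self, Bool.not_true, Bool.false_or, decide_eq_true_eq] at h
  rw [← hse]
  exact (L.A_iff hs).2 h

theorem nil_V : TwoNil ↥(centralizer (L.V : Set G)) := by
  haveI : Fact (Nat.Prime 2) := ⟨Nat.prime_two⟩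
  set C := centralizer (L.V : Set G) with hC
  have hA2 : IsPGroup 2 L.A := L.S.2.to_le (L.sub_le _)
  obtain ⟨P, hP⟩ := (hA2.comap_subtype (K := C)).exists_le_sylow
  have hPA : ∀ p : C, p ∈ (P : Subgroup C) ↔ (p : G) ∈ L.A := fun p => by
    refine ⟨fun hp => ?_, fun hp => hP (mem_subgroupOf.2 hp)⟩
    refine L.A_max (T := (P : Subgroup C).map C.subtype) (P.2.map _) ?_ ?_ ⟨p, hp, rfl⟩
    · exact fun x hx => ⟨⟨x, L.A_le_centV hx⟩, hP (mem_subgroupOf.2 hx), rfl⟩
    · exact map_subtype_le _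
  refine TwoNil.of_fix (K := (P : Subgroup C)) (TwoNil.of_isPGroup P.2) (SylJ2.burnside_split P fun n hn => ?_)
  refine mem_centralizer_iff.2 fun p hp => Subtype.ext ?_
  show (p : G) * (n : G) = (n : G) * (p : G)
  have hnA : ∀ x ∈ L.A, (n : G) * x * (n : G)⁻¹ ∈ L.A := fun x hx => by
    have := (mem_normalizer_iff.1 hn ⟨x, L.A_le_centV hx⟩).1 ((hPA _).2 hx)
    exact (hPA _).1 this
  have hsq : ∀ x ∈ L.A, Commute ((n : G) ^ 2) x := fun x hx => by
    set f := (n : G) * x * (n : G)⁻¹ * x⁻¹ with hf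
    have hfA : f ∈ L.A := mul_mem (hnA x hx) (inv_mem hx)
    have hxn := mem_centralizer_iff.1 n.2 _ (L.sq_mem_V hx)
    have hf2 : f * f = 1 := by
      have hcom := L.A_comm (inv_mem hx) (hnA x hx)
      calc f * f = (n : G) * x * (n : G)⁻¹ * (x⁻¹ * ((n : G) * x * (n : G)⁻¹)) * x⁻¹ := by rw [hf]; group
        _ = (n : G) * x * (n : G)⁻¹ * ((n : G) * x * (n : G)⁻¹ * x⁻¹) * x⁻¹ := by rw [hcom]
        _ = ((n : G) * (x * x)) * (n : G)⁻¹ * (x * x)⁻¹ := by group
        _ = 1 := by rw [← hxn]; group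
    obtain ⟨c, hc, -, hce⟩ := id hfA
    have hfV : f ∈ L.V := by
      have h := allN_spec A_invol hc
      have hz : mulN c c = 0 := (L.one_iff (mulN_lt hc hc)).1 (by rw [← L.mul c hc c hc, hce, hf2])
      simp only [(L.A_iff hc).1 (hce ▸ hfA), hz, decide_true, beq_self_eq_true, Bool.not_true, Bool.false_or,
        Bool.and_eq_true] at h
      exact hce ▸ (L.mem_sub closed_mV hc).2 h.1.1
    have hnf := mem_centralizer_iff.1 n.2 _ hfV
    show (n : G) ^ 2 * x = x * (n : G) ^ 2
    have e : (n : G) * x * (n : G)⁻¹ = f * x := by rw [hf]; group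
    rw [pow_two]
    calc (n : G) * (n : G) * x = (n : G) * ((n : G) * x * (n : G)⁻¹) * (n : G) := by group
      _ = ((n : G) * f) * x * (n : G) := by rw [e]; group
      _ = (f * (n : G)) * x * (n : G) := by rw [hnf]
      _ = f * ((n : G) * x * (n : G)⁻¹) * ((n : G) * (n : G)) := by group
      _ = f * f * x * ((n : G) * (n : G)) := by rw [e]; group
      _ = x * ((n : G) * (n : G)) := by rw [hf2, one_mul]
  obtain ⟨j, r, hr, hj⟩ := Nat.exists_eq_pow_mul_and_not_dvd (orderOf_pos n).ne' 2 (by norm_num)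
  have hnr : n ^ r ∈ (P : Subgroup C) := by
    have h2 : IsPGroup 2 ↥(zpowers (n ^ r)) := by
      refine IsPGroup.of_card (n := j) ?_
      rw [Nat.card_zpowers, orderOf_pow' n (by intro e; exact hr (by rw [e]; exact dvd_zero 2)), hj,
        Nat.gcd_eq_right ⟨2 ^ j, by rw [mul_comm]⟩, Nat.mul_div_cancel _ (Nat.pos_of_ne_zero fun e => hr (by rw [e]; exact dvd_zero 2))]
    have hsup := h2.to_sup_of_normal_right' P.2 (zpowers_le.2 (pow_mem hn r))
    exact (P.3 hsup le_sup_right).le (mem_sup_left (mem_zpowers _))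
  obtain ⟨q, hq⟩ : ∃ q, r = 2 * q + 1 := Nat.odd_iff.2 (Nat.two_dvd_ne_zero.1 hr)
  have hcomr : Commute ((n : G) ^ r) (p : G) :=
    L.A_comm ((hPA _).1 hnr) ((hPA p).1 hp)
  have hfinal : Commute (n : G) (p : G) := by
    have h1 := ((hsq _ ((hPA p).1 hp)).pow_left q).inv_left.mul_left hcomr
    rwa [← pow_mul, hq, pow_succ, inv_mul_cancel_left] at h1
  exact hfinal.eq.symm

theorem nil_za : TwoNil ↥(centralizer ({L.z, L.a} : Set G)) := by
  haveI : Fact (Nat.Prime 2) := ⟨Nat.prime_two⟩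
  set C := centralizer ({L.z, L.a} : Set G) with hC
  have hCz : ∀ g : C, (g : G) * L.z = L.z * g := fun g => (mem_centralizer_iff.1 g.2 _ (Or.inl rfl)).symm
  have hCa : ∀ g : C, (g : G) * L.a = L.a * g := fun g => (mem_centralizer_iff.1 g.2 _ (Or.inr rfl)).symm
  have hAC : L.A ≤ C := fun x hx => mem_centralizer_iff.2 fun u hu => by
    rcases hu with hu | hu <;> subst hu
    · exact L.A_comm (L.V_le_A L.zmem_V) hx
    · exact L.A_comm (L.V_le_A L.a_mem_V) hx
  set P0 : Subgroup G := L.cS 34 with hP0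
  have hP0C : P0 ≤ C := fun x hx => mem_centralizer_iff.2 fun u hu => by
    rcases hu with hu | hu <;> subst hu
    · exact L.z_comm (mem_inf.1 hx).1
    · exact (mem_centralizer_singleton_iff.1 (mem_inf.1 hx).2).symm
  obtain ⟨P, hP⟩ := ((L.S.2.to_le (inf_le_left : P0 ≤ _)).comap_subtype (K := C)).exists_le_sylow
  have hPS : ∀ p : C, p ∈ (P : Subgroup C) ↔ (p : G) ∈ P0 := by
    intro p
    refine ⟨fun hp => ?_, fun hp => hP (mem_subgroupOf.2 hp)⟩
    have hle : (P : Subgroup C).map C.subtype ≤ centralizer ({L.φ 34} : Set G) := by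
      rintro _ ⟨x, -, rfl⟩
      exact mem_centralizer_singleton_iff.2 (hCa x)
    obtain ⟨c, hc, hcS⟩ := L.conj_into L.S_le_centz (P.2.map C.subtype) (fun x hx => by
      obtain ⟨y, -, rfl⟩ := hx
      exact mem_centralizer_singleton_iff.2 (hCz y))
    have hac : c * L.a * c⁻¹ ∈ (L.S : Subgroup G) := hcS _ ⟨⟨L.a, hAC (L.V_le_A L.a_mem_V)⟩,
      hP (mem_subgroupOf.2 (mem_inf.2 ⟨L.mem (by norm_num), mem_centralizer_singleton_iff.2 rfl⟩)), rfl⟩
    obtain ⟨d, hd, hde⟩ := (L.range _).1 hac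
    have hcard : Nat.card ((P : Subgroup C).map C.subtype) ≤ cnN d := by
      rw [← L.card_cS hd, ← card_map_of_injective (K := (P : Subgroup C).map C.subtype) (f := (MulAut.conj c).toMonoidHom) (MulAut.conj c).injective]
      refine card_le_of_le ?_
      rintro _ ⟨x, hx, rfl⟩
      refine mem_inf.2 ⟨hcS x hx, mem_centralizer_singleton_iff.2 ?_⟩
      show c * x * c⁻¹ * L.φ d = L.φ d * (c * x * c⁻¹)
      rw [hde]
      calc c * x * c⁻¹ * (c * L.a * c⁻¹) = c * (x * L.φ 34) * c⁻¹ := by simp only [a]; group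
        _ = _ := by rw [mem_centralizer_singleton_iff.1 (hle hx)]; simp only [a]; group
    have hd256 : cnN d ≤ 256 := by
      refine cn_small d hd ?_ ?_
      · exact (L.inv_iff hd).2 ⟨by rw [hde, show c * L.a * c⁻¹ * (c * L.a * c⁻¹) = c * (L.a * L.a) * c⁻¹ by group,
          L.a_sq, mul_one, mul_inv_cancel], fun e => L.a_ne (conj_eq_one_iff.1 (hde ▸ e))⟩
      · rintro rfl
        refine absurd (L.inj 10 (by norm_num) 34 (by norm_num) ?_) (by norm_num)
        refine mul_left_cancel (a := c) (mul_right_cancel (b := c⁻¹) ?_)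
        show c * L.z * c⁻¹ = c * L.a * c⁻¹
        rw [mem_centralizer_singleton_iff.1 hc, mul_inv_cancel_right]
        exact hde
    have hle2 : P0 ≤ (P : Subgroup C).map C.subtype := fun x hx => ⟨⟨x, hP0C hx⟩, hP (mem_subgroupOf.2 hx), rfl⟩
    have he := eq_of_le_of_card_ge hle2 (by
      rw [L.card_cS (by norm_num), (show cnN 34 = 256 by decide +kernel)]
      omega)
    rw [he]
    exact ⟨p, hp, rfl⟩
  set zC : C := ⟨L.z, hAC (L.V_le_A L.zmem_V)⟩
  set aC : C := ⟨L.a, hAC (L.V_le_A L.a_mem_V)⟩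
  set bC : C := ⟨L.b, hAC (L.V_le_A L.b_ne.1)⟩
  set Z : Subgroup C := ((closure {L.z, L.a} : Subgroup G)).subgroupOf C with hZdef
  have hZc : Z ≤ center C := fun x hx => mem_center_iff.2 fun g => Subtype.ext (by
    have hle : closure {L.z, L.a} ≤ centralizer ({(g : G)} : Set G) := by
      rw [closure_le]
      rintro u (rfl | rfl)
      · exact mem_centralizer_singleton_iff.2 (hCz g).symm
      · exact mem_centralizer_singleton_iff.2 (hCa g).symm
    exact (mem_centralizer_singleton_iff.1 (hle (mem_subgroupOf.1 hx))).symm)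
  haveI : Z.Normal := ⟨fun x hx g => by rwa [mem_center_iff.1 (hZc hx) g, mul_inv_cancel_right]⟩
  have hZA : (closure {L.z, L.a} : Subgroup G) ≤ L.V := (closure_le _).2 (by
    rintro u (rfl | rfl)
    exacts [L.zmem_V, L.a_mem_V])
  have hZP : Z ≤ (P : Subgroup C) := fun x hx => (hPS x).2 (mem_inf.2 ⟨L.sub_le _ (L.V_le_A (hZA (mem_subgroupOf.1 hx))),
    mem_centralizer_singleton_iff.2 (L.A_comm (L.V_le_A (hZA (mem_subgroupOf.1 hx))) (L.V_le_A L.a_mem_V))⟩)
  have hVcases : ∀ w ∈ L.V, w ∉ (closure {L.z, L.a} : Subgroup G) → L.b⁻¹ * w ∈ (closure {L.z, L.a} : Subgroup G) := by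
    intro w hw hwZ
    have hzZ : L.z ∈ closure {L.z, L.a} := subset_closure (Or.inl rfl)
    have haZ : L.a ∈ closure {L.z, L.a} := subset_closure (Or.inr rfl)
    obtain ⟨c, hc, hm, rfl⟩ := id hw
    have h := allN_spec loc_facts.1 hc
    simp only [hm, Bool.not_true, Bool.false_or, List.contains_eq_mem, List.mem_cons, List.not_mem_nil, or_false,
      decide_eq_true_eq] at h
    have hcomm : ∀ u ∈ (closure {L.z, L.a} : Subgroup G), L.b⁻¹ * (u * L.b) ∈ (closure {L.z, L.a} : Subgroup G) :=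
      fun u hu => by rwa [L.A_comm (L.V_le_A (hZA hu)) (L.V_le_A L.b_ne.1), inv_mul_cancel_left]
    have e1 : L.φ (mulN 10 34) = L.z * L.a := (L.mul 10 (by norm_num) 34 (by norm_num)).symm
    rcases h with h | h | h | h | h | h | h | h <;> subst h
    · exact absurd (L.φ_zero ▸ one_mem _) hwZ
    · exact absurd hzZ hwZ
    · exact absurd haZ hwZ
    · exact absurd (e1 ▸ mul_mem hzZ haZ) hwZ
    · rw [show L.φ 2 = 1 * L.b by rw [one_mul]; rfl]; exact hcomm _ (one_mem _)
    · rw [← L.mul 10 (by norm_num) 2 (by norm_num)]; exact hcomm _ hzZ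
    · rw [← L.mul 34 (by norm_num) 2 (by norm_num)]; exact hcomm _ haZ
    · rw [← L.mul _ (mulN_lt (by norm_num) (by norm_num)) 2 (by norm_num), e1]
      exact hcomm _ (mul_mem hzZ haZ)
  have hbZ : L.b ∉ (closure {L.z, L.a} : Subgroup G) := by
    obtain ⟨s, hs, hs'⟩ := anyN_spec (p := fun s => cm 34 s && cm 10 s && !cm 2 s) (by decide +kernel)
    simp only [Bool.and_eq_true, Bool.not_eq_true'] at hs'
    have hle : (closure {L.z, L.a} : Subgroup G) ≤ (L.S : Subgroup G) ⊓ centralizer ({L.φ s} : Set G) :=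
      (closure_le _).2 (by
        rintro u (rfl | rfl)
        · exact mem_inf.2 ⟨L.mem (by norm_num), mem_centralizer_singleton_iff.2
            ((L.cm_iff (by norm_num) hs).1 hs'.1.2)⟩
        · exact mem_inf.2 ⟨L.mem (by norm_num), mem_centralizer_singleton_iff.2
            ((L.cm_iff (by norm_num) hs).1 hs'.1.1)⟩)
    intro h
    have := (L.cm_iff (a := 2) (b := s) (by norm_num) hs).2
      (mem_centralizer_singleton_iff.1 (mem_inf.1 (hle h)).2)
    rw [this] at hs'
    exact Bool.noConfusion hs'.2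
  have hmove : ∀ g : C, (g : G) * L.b * (g : G)⁻¹ ∈ P0 → L.b⁻¹ * ((g : G) * L.b * (g : G)⁻¹) ∈
      (closure {L.z, L.a} : Subgroup G) := by
    intro g hg
    obtain ⟨c, hc, hca, hce⟩ := L.cS_cases (by norm_num) hg
    have hwZ : (g : G) * L.b * (g : G)⁻¹ ∉ (closure {L.z, L.a} : Subgroup G) := fun h => hbZ (by
      have hmem : g * bC * g⁻¹ ∈ Z := mem_subgroupOf.2 h
      have := Normal.conj_mem inferInstance _ hmem g⁻¹
      rw [inv_inv, show g⁻¹ * (g * bC * g⁻¹) * g = bC by group] at this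
      exact mem_subgroupOf.1 this)
    refine hVcases _ ?_ hwZ
    have hb2 : L.b * L.b = 1 := L.V_sq L.b_ne.1
    have hi : isInv c = true := (L.inv_iff hc).2 ⟨by
      rw [hce, show (g : G) * L.b * (g : G)⁻¹ * ((g : G) * L.b * (g : G)⁻¹) = g * (L.b * L.b) * (g : G)⁻¹ by group,
        hb2, mul_one, mul_inv_cancel], fun e => hwZ (by rw [← hce, e]; exact one_mem _)⟩
    by_contra hV
    have hmV : inM mV c = false := by
      rw [Bool.eq_false_iff]
      exact fun h => hV (hce ▸ (L.mem_sub closed_mV hc).2 h)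
    have h9 := (L.to_rep hc hi).1
    have hv3 := allN_spec V_typ hc
    rw [hmV, beq_iff_eq, eq_comm, Bool.or_eq_false_iff, decide_eq_false_iff_not] at hv3
    have h := allN_spec pair_nonabelian hc
    simp only [hca, decide_eq_true (show 3 ≤ typ c by omega), decide_eq_true h9, Bool.and_self, Bool.not_true,
      Bool.false_or] at h
    obtain ⟨x, hx, hx'⟩ := anyN_spec h
    rw [Bool.and_eq_true, Bool.and_eq_true] at hx'
    obtain ⟨y, hy, hy'⟩ := anyN_spec hx'.2
    rw [Bool.and_eq_true, Bool.and_eq_true, Bool.not_eq_true'] at hy'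
    set D : Subgroup G := L.cS 34 ⊓ centralizer ({L.φ c} : Set G) with hD
    have hmemD : ∀ t, t < 512 → cm 34 t = true → cm c t = true → L.φ t ∈ D := fun t ht h1 h2 =>
      mem_inf.2 ⟨(L.mem_cS (by norm_num) ht).2 h1,
        mem_centralizer_singleton_iff.2 ((L.cm_iff hc ht).1 h2).symm⟩
    have hDC : D.map (MulAut.conj (g : G)⁻¹).toMonoidHom ≤ centralizer (L.V : Set G) := by
      rintro _ ⟨t, ht, rfl⟩
      show (g : G)⁻¹ * t * (g : G)⁻¹⁻¹ ∈ _
      rw [inv_inv, L.mem_centV]
      obtain ⟨ht1, ht2⟩ := mem_inf.1 ht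
      have key : ∀ u : G, t * ((g : G) * u * (g : G)⁻¹) = (g : G) * u * (g : G)⁻¹ * t →
          (g : G)⁻¹ * t * g * u = u * ((g : G)⁻¹ * t * g) := fun u h => by
        calc (g : G)⁻¹ * t * g * u = (g : G)⁻¹ * (t * ((g : G) * u * (g : G)⁻¹)) * g := by group
          _ = (g : G)⁻¹ * ((g : G) * u * (g : G)⁻¹ * t) * g := by rw [h]
          _ = _ := by group
      refine ⟨key _ ?_, key _ ?_, key _ ?_⟩
      · rw [hCz g, mul_inv_cancel_right]
        exact (L.z_comm (mem_inf.1 ht1).1).symm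
      · rw [hCa g, mul_inv_cancel_right]
        exact mem_centralizer_singleton_iff.1 (mem_inf.1 ht1).2
      · rw [← hce]
        exact mem_centralizer_singleton_iff.1 ht2
    obtain ⟨Q, hQ⟩ := (((L.S.2.to_le (inf_le_left.trans inf_le_left : D ≤ _)).map
      (MulAut.conj (g : G)⁻¹).toMonoidHom).comap_subtype (K := centralizer (L.V : Set G))).exists_le_sylow
    obtain ⟨P1, hP1⟩ := ((L.S.2.to_le (L.sub_le closed_mA)).comap_subtype
      (K := centralizer (L.V : Set G))).exists_le_sylow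
    obtain ⟨k, hk⟩ := MulAction.exists_smul_eq (centralizer (L.V : Set G)) Q P1
    have hQA : ∀ t ∈ D, (k : G) * ((g : G)⁻¹ * t * g) * (k : G)⁻¹ ∈ L.A := fun t ht => by
      have hm : (g : G)⁻¹ * t * g ∈ D.map (MulAut.conj (g : G)⁻¹).toMonoidHom := ⟨t, ht, by simp⟩
      refine L.A_max (T := (P1 : Subgroup _).map (centralizer (L.V : Set G)).subtype) (P1.2.map _)
        (fun x hx => ⟨⟨x, L.A_le_centV hx⟩, hP1 (show (⟨x, L.A_le_centV hx⟩ : centralizer (L.V : Set G)) ∈ L.A.comap _ from hx), rfl⟩) (map_subtype_le _)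
        ⟨k * ⟨_, hDC hm⟩ * k⁻¹, ?_, rfl⟩
      rw [SetLike.mem_coe, ← hk]
      exact ⟨_, hQ (mem_subgroupOf.2 hm), rfl⟩
    have hxy := L.A_comm (hQA _ (hmemD x hx hx'.1.1 hx'.1.2)) (hQA _ (hmemD y hy hy'.1.1 hy'.1.2))
    have hcm : L.φ x * L.φ y = L.φ y * L.φ x := by
      refine (MulAut.conj ((k : G) * (g : G)⁻¹)).injective ?_
      simp only [MulAut.conj_apply]
      calc _ = (k : G) * ((g : G)⁻¹ * L.φ x * g) * (k : G)⁻¹ * ((k : G) * ((g : G)⁻¹ * L.φ y * g) * (k : G)⁻¹) := by group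
        _ = _ := by rw [hxy]; group
    rw [(L.cm_iff hx hy).2 hcm] at hy'
    exact Bool.noConfusion hy'.2
  set f := QuotientGroup.mk' Z with hf
  have hfeq : ∀ {u w : C}, f u = f w ↔ (u : G)⁻¹ * w ∈ (closure {L.z, L.a} : Subgroup G) := fun {u w} =>
    QuotientGroup.eq.trans mem_subgroupOf
  have hbb : bC * bC = 1 := Subtype.ext (L.V_sq L.b_ne.1)
  have hiso : Cfsg.IsIsolatedInvolution (f bC) := by
    refine Invol.isolated_of_sylow (P.mapSurjective (QuotientGroup.mk'_surjective _)) ?_ fun q hq => ?_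
    · refine orderOf_eq_prime (by rw [pow_two, ← map_mul, hbb, map_one]) fun e => hbZ ?_
      exact mem_subgroupOf.1 ((QuotientGroup.eq_one_iff bC).1 e)
    obtain ⟨c, rfl⟩ := QuotientGroup.mk'_surjective _ q
    obtain ⟨s, hs, hsq⟩ := hq
    rw [← map_inv, ← map_mul, ← map_mul] at hsq
    have hmem : c * bC * c⁻¹ ∈ (P : Subgroup C) := by
      have h := mul_mem hs (hZP (show s⁻¹ * (c * bC * c⁻¹) ∈ Z from QuotientGroup.eq.1 hsq))
      rwa [mul_inv_cancel_left] at h
    show f c * f bC * (f c)⁻¹ = f bC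
    rw [← map_inv, ← map_mul, ← map_mul]
    exact (hfeq.2 (hmove c ((hPS _).1 hmem))).symm
  set K : Subgroup C := (centralizer ({f bC} : Set (C ⧸ Z))).comap f with hK
  have hKnil : TwoNil ↥K := by
    refine TwoNil.of_odd_mem (N := (centralizer (L.V : Set G)).subgroupOf C |>.subgroupOf K) ?_ fun x hx => ?_
    · exact L.nil_V.of_injective (f := ((C.subtype.comp K.subtype).comp (Subgroup.subtype _)).codRestrict _
        fun t => mem_subgroupOf.1 (mem_subgroupOf.1 t.2)) fun s t e =>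
        Subtype.ext (Subtype.ext (Subtype.ext (congrArg Subtype.val e :)))
    refine mem_subgroupOf.2 (mem_subgroupOf.2 (L.mem_centV.2 ⟨hCz x.1, hCa x.1, ?_⟩))
    set X : G := ((x : C) : G)
    have hXo : Odd (orderOf X) := by
      rw [show X = (C.subtype.comp K.subtype) x from rfl,
        orderOf_injective (C.subtype.comp K.subtype) (C.subtype_injective.comp K.subtype_injective)]
      exact hx
    have hu : L.b⁻¹ * (X * L.b * X⁻¹) ∈ (closure {L.z, L.a} : Subgroup G) := by
      have h : f (x : C) * f bC = f bC * f (x : C) := mem_centralizer_singleton_iff.1 x.2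
      have h' : f bC = f ((x : C) * bC * (x : C)⁻¹) := by
        rw [map_mul, map_mul, map_inv, h, mul_inv_cancel_right]
      exact hfeq.1 h'
    set u := L.b⁻¹ * (X * L.b * X⁻¹) with hudef
    have hXu : X * u = u * X := by
      have hle : (closure {L.z, L.a} : Subgroup G) ≤ centralizer ({X} : Set G) := by
        rw [closure_le]
        rintro w (rfl | rfl)
        · exact mem_centralizer_singleton_iff.2 (hCz x.1).symm
        · exact mem_centralizer_singleton_iff.2 (hCa x.1).symm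
      exact (mem_centralizer_singleton_iff.1 (hle hu)).symm
    have e : X * L.b * X⁻¹ = L.b * u := by rw [hudef, mul_inv_cancel_left]
    have hu2 : u * u = 1 := L.V_sq (hZA hu)
    have h2 : Commute (X ^ 2) L.b := by
      show X ^ 2 * L.b = L.b * X ^ 2
      rw [pow_two]
      calc X * X * L.b = X * (X * L.b * X⁻¹) * X := by group
        _ = (X * L.b) * u * X := by rw [e]; group
        _ = (X * L.b * X⁻¹) * (X * u) * X := by group
        _ = L.b * u * (u * X) * X := by rw [e, hXu]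
        _ = L.b * (u * u) * (X * X) := by group
        _ = _ := by rw [hu2, mul_one]
    have hm : X ∈ centralizer ({L.b} : Set G) :=
      mem_of_pow_two hXo (m := 1) (by rw [pow_one]; exact mem_centralizer_singleton_iff.2 h2.eq)
    exact mem_centralizer_singleton_iff.1 hm
  refine hKnil.of_fix fun g => ?_
  obtain ⟨j, -, -, -, hj⟩ := Isolated.exists_sqrt hiso (f g)
  have hii : (f bC)⁻¹ = f bC := inv_eq_of_mul_eq_one_right (by rw [← map_mul, hbb, map_one])
  have hm : (f g * f bC * (f g)⁻¹ * f bC) ^ j ∈ Cfsg.oddCore (C ⧸ Z) := by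
    refine pow_mem ?_ j
    have h := inv_mem (Invol.zstar hiso (f g))
    rw [mul_inv_rev, mul_inv_rev, mul_inv_rev, inv_inv, inv_inv, hii, ← mul_assoc, ← mul_assoc] at h
    exact h
  obtain ⟨o, ho, hof⟩ := lift_core hZc ((L.S.2.to_le ((hZA.trans L.V_le_A).trans (L.sub_le _))).comap_subtype) hm
  refine ⟨o, ho, o⁻¹ * g, ?_, (mul_inv_cancel_left _ _).symm⟩
  rw [← hof] at hj
  show f (o⁻¹ * g) ∈ centralizer ({f bC} : Set _)
  rw [mem_centralizer_singleton_iff, map_mul, map_inv]
  rw [mul_assoc, inv_mul_eq_iff_eq_mul]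
  calc f g * f bC = f g * f bC * (f g)⁻¹ * f g := by rw [inv_mul_cancel_right]
    _ = f o * f bC * (f o)⁻¹ * f g := by rw [hj]
    _ = _ := by group

theorem nilV_all {v : G} (hv : v ∈ L.V) (h1 : v ≠ 1) (hz : v ≠ L.z) :
    TwoNil ↥(centralizer ({L.z, v} : Set G)) := by
  obtain ⟨n, -, hnz, hna⟩ := L.stab_z hv h1 hz
  exact L.nil_za.conj_pair hnz hna

theorem nilR_all {v : G} (hx : L.Zc L.x8) (hv : v ∈ L.R) (h2 : v * v = 1) (h1 : v ≠ 1) (hz : v ≠ L.z) :
    TwoNil ↥(centralizer ({L.z, v} : Set G)) := by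
  obtain ⟨c, hc, hm, rfl⟩ := hv
  have hi : isInv c = true := (L.inv_iff hc).2 ⟨h2, h1⟩
  obtain ⟨h9, s, hs, hse⟩ := L.to_rep hc hi
  have ht := allN_spec loc_facts.2.1 hc
  simp only [hm, hi, Bool.and_self, Bool.not_true, Bool.false_or, decide_eq_true_eq] at ht
  rcases (show typ c < 3 ∨ typ c = 3 ∨ typ c = 4 by omega) with h | h34
  · have hV := allN_spec V_typ hc
    rw [decide_eq_true h, Bool.or_true, beq_iff_eq] at hV
    exact L.nilV_all ((L.mem_sub closed_mV hc).2 hV) h1 hz
  · set k := typ c with hk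
    have hk' : k = 3 ∨ k = 4 := h34
    obtain ⟨hlt, hri, -, -⟩ := rep_spec h9
    refine TwoNil.conj_pair (g := L.φ s) (x := L.z) (y := L.φ (rep k)) ?_
      (by rw [← L.z_comm (L.mem hs), mul_inv_cancel_right]) hse
    have hzc : L.Zc (L.φ (rep k)) := by
      rcases hk' with e | e <;> rw [e]
      · exact hx
      · exact L.fus.x_iff.1 hx
    obtain ⟨g, hg⟩ := isConj_iff.1 hzc.symm
    have hmap : (L.cS (rep k)).map (MulAut.conj g).toMonoidHom ≤ centralizer ({L.z} : Set G) := by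
      rintro _ ⟨x, hx', rfl⟩
      refine mem_centralizer_singleton_iff.2 ?_
      show g * x * g⁻¹ * L.z = L.z * (g * x * g⁻¹)
      rw [← hg]
      calc g * x * g⁻¹ * (g * L.φ (rep k) * g⁻¹) = g * (x * L.φ (rep k)) * g⁻¹ := by group
        _ = _ := by rw [mem_centralizer_singleton_iff.1 (mem_inf.1 hx').2]; group
    obtain ⟨d, hd, hdS⟩ := L.conj_into L.S_le_centz ((L.S.2.to_le inf_le_left).map _) hmap
    have hdg : d * g * L.φ (rep k) * (d * g)⁻¹ = L.z := by
      rw [show d * g * L.φ (rep k) * (d * g)⁻¹ = d * (g * L.φ (rep k) * g⁻¹) * d⁻¹ by group, hg,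
        mem_centralizer_singleton_iff.1 hd, mul_inv_cancel_right]
    have hzk : L.φ 10 ∈ L.cS (rep k) :=
      mem_inf.2 ⟨L.mem (by norm_num), mem_centralizer_singleton_iff.2 (L.z_comm (L.mem hlt))⟩
    set w := d * g * L.z * (d * g)⁻¹ with hw
    have hwS : w ∈ (L.S : Subgroup G) := by
      rw [hw, show d * g * L.z * (d * g)⁻¹ = d * (g * L.z * g⁻¹) * d⁻¹ by group]
      exact hdS _ ⟨L.z, hzk, rfl⟩
    have hwc : L.Zc w := isConj_iff.2 ⟨d * g, rfl⟩
    obtain ⟨e, he, hee⟩ := (L.range w).1 hwS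
    have hie : isInv e = true := (L.inv_iff he).2 (hee ▸ L.Zc_invol hwc)
    obtain ⟨he9, t, htl, hte⟩ := L.to_rep he hie
    have hzv : L.zv (typ e) = true := (L.Zc_iff he).1 (hee ▸ hwc)
    have hwz : w ≠ L.z := fun e' => absurd (L.inj 10 (by norm_num) (rep k) hlt (mul_left_cancel
      (mul_right_cancel (e'.trans hdg.symm)))) (by rcases hk' with e | e <;> rw [e] <;> decide)
    have hcount := L.count_le (P := fun x => cm (rep k) x && (mulN x x == 10))
      (Q := fun x => mulN x x == rep (typ e)) ((L.φ t)⁻¹ * (d * g)) fun x hx' hp => by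
      rw [Bool.and_eq_true, beq_iff_eq] at hp
      have hmem := mul_mem (mul_mem (inv_mem (L.mem htl))
        (hdS _ ⟨L.φ x, (L.mem_cS hlt hx').2 hp.1, rfl⟩)) (L.mem htl)
      obtain ⟨y, hy, hye⟩ := (L.range _).1 hmem
      have hye' : (L.φ t)⁻¹ * (d * g) * L.φ x * ((L.φ t)⁻¹ * (d * g))⁻¹ = L.φ y := by
        rw [hye, show (MulAut.conj g).toMonoidHom (L.φ x) = g * L.φ x * g⁻¹ from rfl]
        group
      refine ⟨y, hy, ?_, hye'⟩
      have h3 := L.conj_codes hx' hy hye'
      rw [hp.2] at h3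
      refine beq_iff_eq.2 (L.inj _ (mulN_lt hy hy) _ (rep_spec he9).1 (h3.symm.trans ?_))
      rw [show (L.φ t)⁻¹ * (d * g) * L.φ 10 * ((L.φ t)⁻¹ * (d * g))⁻¹ = (L.φ t)⁻¹ * w * L.φ t by
        rw [hw]; show _ = (L.φ t)⁻¹ * (d * g * L.φ 10 * (d * g)⁻¹) * L.φ t; group, ← hee, ← hte]
      group
    have h16 : 16 ≤ ((List.range 512).filter fun x => cm (rep k) x && (mulN x x == 10)).length := by
      rcases hk' with e' | e' <;> rw [e']
      · have h := sq_x8
        simp only [Bool.and_eq_true, beq_iff_eq] at h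
        exact le_of_eq h.1.2.symm
      · have h := root_numbers
        rw [Bool.and_eq_true] at h
        exact of_decide_eq_true h.2
    have hsmall : ∀ j ∈ [3, 4, 7, 8], typ e ≠ j := fun j hj e' => by
      have h := root_numbers
      rw [Bool.and_eq_true] at h
      have := of_decide_eq_true (List.all_eq_true.1 h.1 j hj)
      rw [e'] at hcount
      omega
    have h5 : typ e ≠ 5 := fun e' => by rw [e', L.classes.2.2.1] at hzv; exact Bool.noConfusion hzv
    have h6 : typ e ≠ 6 := fun e' => by rw [e', L.classes.2.2.2.1] at hzv; exact Bool.noConfusion hzv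
    have hlt3 : typ e < 3 := by
      have := hsmall 3 (by simp)
      have := hsmall 4 (by simp)
      have := hsmall 7 (by simp)
      have := hsmall 8 (by simp)
      omega
    have hV := allN_spec V_typ he
    rw [decide_eq_true hlt3, Bool.or_true, beq_iff_eq] at hV
    have hn := L.nilV_all (hee ▸ (L.mem_sub closed_mV he).2 hV) (L.Zc_invol hwc).2 hwz
    rw [Set.pair_comm] at hn
    exact hn.conj_pair (g := (d * g)⁻¹) (by rw [hw]; group) (by rw [← hdg]; group)

theorem loc : L.Loc where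
  nilV _ hv h1 hz := L.nilV_all hv h1 hz
  nilR hx _ hv h2 h1 hz := L.nilR_all hx hv h2 h1 hz

end Syl

end Cfsg.Agent.HSSylow
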