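import Cfsg.Agent.HSSylow.Defs
import Cfsg.Agent.HSSylow.Facts
import Cfsg.Agent.Invol.Pair

/-!
Moving subgroups into the Sylow subgroup and reading the result on codes.
-/

set_option autoImplicit false
set_option linter.unusedSectionVars false
set_option linter.style.haveILetI false

namespace Cfsg.Agent.HSSylow

open Subgroup

namespace Syl

variable {G : Type*} [Group G] [Finite G] (L : Syl G)

theorem z_comm {s : G} (hs : s ∈ (L.S : Subgroup G)) : L.z * s = s * L.z := by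
  obtain ⟨a, ha, rfl⟩ := (L.range s).1 hs
  exact (L.cm_iff (by norm_num) ha).1 (allN_spec central ha)

theorem S_le_centz : (L.S : Subgroup G) ≤ centralizer ({L.z} : Set G) := fun s hs =>
  mem_centralizer_singleton_iff.2 (L.z_comm hs).symm

theorem z_inv : L.z * L.z = 1 := by
  show L.φ 10 * L.φ 10 = 1
  rw [(L.sq_iff (c := 0) (by norm_num) (by norm_num)).1 (by decide +kernel), L.φ_zero]

theorem z_ne : L.z ≠ 1 := fun h => by simpa using (L.one_iff (a := 10) (by norm_num)).1 h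

theorem rep_spec {k : ℕ} (hk : k < 9) : rep k < 512 ∧ isInv (rep k) = true ∧ typ (rep k) = k ∧
    cnN (rep k) = [512, 256, 128, 64, 32, 64, 32, 32, 32].getD k 0 := by
  simpa [and_assoc] using List.all_eq_true.1 rep_facts k (List.mem_range.2 hk)

theorem inv_iff {c : ℕ} (hc : c < 512) : isInv c = true ↔ L.φ c * L.φ c = 1 ∧ L.φ c ≠ 1 := by
  rw [isInv, Bool.and_eq_true, beq_iff_eq, Bool.not_eq_true', beq_eq_false_iff_ne,
    L.sq_iff hc (c := 0) (by norm_num), L.φ_zero]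
  exact and_congr_right fun _ => (not_congr (L.one_iff hc)).symm

/-- An involution code is conjugate in the Sylow subgroup to the representative of its class. -/
theorem to_rep {c : ℕ} (hc : c < 512) (h : isInv c = true) :
    typ c < 9 ∧ ∃ s < 512, L.φ s * L.φ (rep (typ c)) * (L.φ s)⁻¹ = L.φ c := by
  have hs := allN_spec typ_spec hc
  simp only [h, if_true, Bool.and_eq_true, decide_eq_true_eq] at hs
  obtain ⟨s, hs', he⟩ := anyN_spec hs.2
  refine ⟨hs.1, s, hs', ?_⟩
  rw [L.φ_cj hs' (rep_spec hs.1).1, show cjN s (rep (typ c)) = c by simpa using he]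

theorem typ_nine {c : ℕ} (hc : c < 512) (h : isInv c = false) : typ c = 9 := by
  have hs := allN_spec typ_spec hc
  simpa [h] using hs

/-- The centralizer of a code in the Sylow subgroup. -/
def cS (u : ℕ) : Subgroup G := (L.S : Subgroup G) ⊓ centralizer ({L.φ u} : Set G)

theorem mem_cS {u : ℕ} (hu : u < 512) {s : ℕ} (hs : s < 512) : L.φ s ∈ L.cS u ↔ cm u s = true := by
  rw [cS, mem_inf, mem_centralizer_singleton_iff, L.cm_iff hu hs]
  exact ⟨fun h => h.2.symm, fun h => ⟨L.mem hs, h.symm⟩⟩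

theorem cS_cases {u : ℕ} (hu : u < 512) {x : G} (hx : x ∈ L.cS u) : ∃ s < 512, cm u s = true ∧ L.φ s = x := by
  obtain ⟨s, hs, rfl⟩ := (L.range x).1 (mem_inf.1 hx).1
  exact ⟨s, hs, (L.mem_cS hu hs).1 hx, rfl⟩

theorem card_cS {u : ℕ} (hu : u < 512) : Nat.card (L.cS u) = cnN u := by
  classical
  have hf : ∀ s : {s // s ∈ (List.range 512).filter fun s => cm u s}, L.φ s.1 ∈ L.cS u := fun s => by
    obtain ⟨h1, h2⟩ := List.mem_filter.1 s.2
    exact (L.mem_cS hu (List.mem_range.1 h1)).2 h2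
  rw [← Nat.card_congr (Equiv.ofBijective (fun s => (⟨L.φ s.1, hf s⟩ : L.cS u)) ⟨?_, ?_⟩),
    Nat.card_eq_fintype_card]
  · rw [cnN, ← List.toFinset_card_of_nodup (List.nodup_range.filter _)]
    exact Fintype.card_of_subtype _ fun s => by simp
  · intro s t h
    exact Subtype.ext (L.inj _ (List.mem_range.1 (List.mem_filter.1 s.2).1) _
      (List.mem_range.1 (List.mem_filter.1 t.2).1) (congrArg Subtype.val h))
  · rintro ⟨x, hx⟩
    obtain ⟨s, hs, hc, rfl⟩ := L.cS_cases hu hx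
    exact ⟨⟨s, List.mem_filter.2 ⟨List.mem_range.2 hs, hc⟩⟩, rfl⟩

/-- Injective translations of codes give inequalities of counts. -/
theorem count_le {P Q : ℕ → Bool} (g : G)
    (h : ∀ s < 512, P s = true → ∃ t < 512, Q t = true ∧ g * L.φ s * g⁻¹ = L.φ t) :
    ((List.range 512).filter P).length ≤ ((List.range 512).filter Q).length := by
  classical
  rw [← List.toFinset_card_of_nodup (List.nodup_range.filter _),
    ← List.toFinset_card_of_nodup (List.nodup_range.filter _)]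
  have hex : ∀ s ∈ ((List.range 512).filter P).toFinset,
      ∃ t < 512, Q t = true ∧ g * L.φ s * g⁻¹ = L.φ t := fun s hs => by
    rw [List.mem_toFinset, List.mem_filter, List.mem_range] at hs
    exact h s hs.1 hs.2
  choose f hf using hex
  refine Finset.card_le_card_of_injOn (fun s => if hs : s ∈ ((List.range 512).filter P).toFinset then f s hs else 0)
    (fun s hs => ?_) (fun s hs t ht e => ?_)
  · have hs : s ∈ ((List.range 512).filter P).toFinset := Finset.mem_coe.1 hs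
    simp only [dif_pos hs]
    exact Finset.mem_coe.2 (List.mem_toFinset.2 (List.mem_filter.2 ⟨List.mem_range.2 (hf s hs).1, (hf s hs).2.1⟩))
  · have hs : s ∈ ((List.range 512).filter P).toFinset := Finset.mem_coe.1 hs
    have ht : t ∈ ((List.range 512).filter P).toFinset := Finset.mem_coe.1 ht
    simp only [dif_pos hs, dif_pos ht] at e
    refine L.inj s ?_ t ?_ (mul_left_cancel (mul_right_cancel ((hf s hs).2.2.trans ?_)))
    · exact List.mem_range.1 (List.mem_filter.1 (List.mem_toFinset.1 hs)).1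
    · exact List.mem_range.1 (List.mem_filter.1 (List.mem_toFinset.1 ht)).1
    · rw [e, (hf t ht).2.2]

/-- Conjugation of a 2-subgroup of an overgroup of the Sylow subgroup into it. -/
theorem conj_into {H T : Subgroup G} (hH : (L.S : Subgroup G) ≤ H) (hT : IsPGroup 2 T) (hTH : T ≤ H) :
    ∃ c ∈ H, ∀ x ∈ T, c * x * c⁻¹ ∈ (L.S : Subgroup G) := by
  haveI : Fact (Nat.Prime 2) := ⟨Nat.prime_two⟩
  obtain ⟨Q, hQ⟩ := (hT.comap_subtype (H := T) (K := H)).exists_le_sylow
  obtain ⟨c, hc⟩ := MulAction.exists_smul_eq H Q (L.S.subtype hH)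
  refine ⟨c, c.2, fun x hx => ?_⟩
  have h : c * ⟨x, hTH hx⟩ * c⁻¹ ∈ (L.S.subtype hH : Subgroup H) := by
    rw [← hc]
    exact ⟨_, hQ (mem_subgroupOf.2 hx), rfl⟩
  exact mem_subgroupOf.1 h

/-- A 2-subgroup with one more step above a subgroup that is not a Sylow subgroup. -/
theorem grow {C T : Subgroup G} {n : ℕ} (hT : Nat.card T = 2 ^ n) (hTC : T ≤ C)
    (hdvd : 2 ^ (n + 1) ∣ Nat.card C) :
    ∃ K : Subgroup G, K ≤ C ∧ Nat.card K = 2 ^ (n + 1) ∧ T ≤ K ∧ ∀ k ∈ K, ∀ x ∈ T, k * x * k⁻¹ ∈ T := by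
  haveI : Fact (Nat.Prime 2) := ⟨Nat.prime_two⟩
  have hH : Nat.card (T.subgroupOf C) = 2 ^ n := by
    rw [← hT, Nat.card_congr (subgroupOfEquivOfLe hTC).toEquiv]
  obtain ⟨K, hK, hle⟩ := Sylow.exists_subgroup_card_pow_succ hdvd hH
  have hi : ((T.subgroupOf C).subgroupOf K).index = 2 := by
    have h1 := ((T.subgroupOf C).subgroupOf K).card_mul_index
    rw [Nat.card_congr (subgroupOfEquivOfLe hle).toEquiv, hH, hK, pow_succ] at h1
    exact Nat.eq_of_mul_eq_mul_left (by positivity) h1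
  have hN := normal_of_index_eq_two hi
  refine ⟨K.map C.subtype, map_subtype_le _, by rw [card_map_of_injective C.subtype_injective, hK],
    fun x hx => ⟨⟨x, hTC hx⟩, hle hx, rfl⟩, ?_⟩
  rintro _ ⟨k, hk, rfl⟩ x hx
  exact hN.conj_mem (⟨⟨x, hTC hx⟩, hle hx⟩ : K) hx ⟨k, hk⟩

theorem card_cent_conj {u w : G} (h : IsConj u w) :
    Nat.card (centralizer ({u} : Set G)) = Nat.card (centralizer ({w} : Set G)) := by
  obtain ⟨g, rfl⟩ := isConj_iff.1 h
  refine Nat.card_congr ((MulAut.conj g).toEquiv.subtypeEquiv fun x => ?_)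
  rw [mem_centralizer_singleton_iff, mem_centralizer_singleton_iff]
  show x * u = u * x ↔ g * x * g⁻¹ * (g * u * g⁻¹) = g * u * g⁻¹ * (g * x * g⁻¹)
  rw [show g * x * g⁻¹ * (g * u * g⁻¹) = g * (x * u) * g⁻¹ by group,
    show g * u * g⁻¹ * (g * x * g⁻¹) = g * (u * x) * g⁻¹ by group, mul_left_inj, mul_right_inj]

theorem dvd_of_Zc {x : G} (h : L.Zc x) : 512 ∣ Nat.card (centralizer ({x} : Set G)) := by
  rw [← card_cent_conj h, ← L.card_S]
  exact card_dvd_of_le L.S_le_centz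

/-- A 2-subgroup of `C(z)` centralizing an involution in it moves to the centralizer of a representative. -/
theorem move {u : G} {K : Subgroup G} (hK : IsPGroup 2 K) (hKz : K ≤ centralizer ({L.z} : Set G))
    (hKu : K ≤ centralizer ({u} : Set G)) (huK : u ∈ K) (hu : u * u = 1) (hu1 : u ≠ 1) :
    ∃ c : G, c * L.z = L.z * c ∧ ∃ k < 9, c * u * c⁻¹ = L.φ (rep k) ∧ Nat.card K ≤ cnN (rep k) ∧
      ∀ x ∈ K, ∃ t < 512, cm (rep k) t = true ∧ c * x * c⁻¹ = L.φ t := by
  obtain ⟨c, hcz, hc⟩ := L.conj_into L.S_le_centz hK hKz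
  obtain ⟨r, hr, hre⟩ := (L.range _).1 (hc u huK)
  obtain ⟨hk, s, hs, hse⟩ := L.to_rep hr ((L.inv_iff hr).2 (by
    rw [hre]
    refine ⟨?_, fun e => hu1 (conj_eq_one_iff.1 e)⟩
    rw [show c * u * c⁻¹ * (c * u * c⁻¹) = c * (u * u) * c⁻¹ by group, hu, mul_one, mul_inv_cancel]))
  set c' := (L.φ s)⁻¹ * c with hc'
  have hz : c' * L.z = L.z * c' := ((Commute.inv_left (L.z_comm (L.mem hs)).symm).mul_left
    (mem_centralizer_singleton_iff.1 hcz)).eq
  have hu' : c' * u * c'⁻¹ = L.φ (rep (typ r)) := by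
    rw [hc', show (L.φ s)⁻¹ * c * u * ((L.φ s)⁻¹ * c)⁻¹ = (L.φ s)⁻¹ * (c * u * c⁻¹) * L.φ s by group, ← hre, ← hse]
    group
  have himg : ∀ x ∈ K, c' * x * c'⁻¹ ∈ L.cS (rep (typ r)) := fun x hx => by
    refine mem_inf.2 ⟨?_, mem_centralizer_singleton_iff.2 ?_⟩
    · rw [hc', show (L.φ s)⁻¹ * c * x * ((L.φ s)⁻¹ * c)⁻¹ = (L.φ s)⁻¹ * (c * x * c⁻¹) * L.φ s by group]
      exact mul_mem (mul_mem (inv_mem (L.mem hs)) (hc x hx)) (L.mem hs)
    · rw [← hu', show c' * x * c'⁻¹ * (c' * u * c'⁻¹) = c' * (x * u) * c'⁻¹ by group,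
        mem_centralizer_singleton_iff.1 (hKu hx)]
      group
  refine ⟨c', hz, typ r, hk, hu', ?_, fun x hx => ?_⟩
  · rw [← L.card_cS (rep_spec hk).1]
    exact Nat.card_le_card_of_injective (fun x : K => (⟨_, himg x x.2⟩ : L.cS (rep (typ r))))
      fun x y e => Subtype.ext (mul_left_cancel (mul_right_cancel (congrArg Subtype.val e)))
  · obtain ⟨t, ht, hct, hte⟩ := L.cS_cases (rep_spec hk).1 (himg x hx)
    exact ⟨t, ht, hct, hte.symm⟩

/-- An involution whose centralizer in the Sylow subgroup is not a Sylow subgroup of its centralizer, while the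
normalizer fixes `z`, is conjugate in `C(z)` to a representative with a larger centralizer. -/
theorem grown {u : ℕ} (hu : u < 512) (hi : isInv u = true) {n : ℕ} (hn : cnN u = 2 ^ n)
    (hdvd : 2 ^ (n + 1) ∣ Nat.card (centralizer ({L.φ u} : Set G)))
    (hfix : ∀ g : G, g * L.φ u = L.φ u * g → (∀ x ∈ L.cS u, g * x * g⁻¹ ∈ L.cS u) → g * L.z = L.z * g) :
    ∃ c : G, c * L.z = L.z * c ∧ ∃ k < 9, c * L.φ u * c⁻¹ = L.φ (rep k) ∧ 2 ^ (n + 1) ≤ cnN (rep k) ∧
      ∀ s < 512, cm u s = true → ∃ t < 512, cm (rep k) t = true ∧ c * L.φ s * c⁻¹ = L.φ t := by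
  obtain ⟨K, hKC, hK, hTK, hN⟩ := grow (T := L.cS u) (L.card_cS hu ▸ hn) inf_le_right hdvd
  have hKz : K ≤ centralizer ({L.z} : Set G) := fun g hg =>
    mem_centralizer_singleton_iff.2 (hfix g (mem_centralizer_singleton_iff.1 (hKC hg)) (hN g hg))
  obtain ⟨hu2, hu1⟩ := (L.inv_iff hu).1 hi
  have huK : L.φ u ∈ K := hTK ((L.mem_cS hu hu).2 (beq_self_eq_true _))
  obtain ⟨c, hc, k, hk, he, hle, himg⟩ := L.move (IsPGroup.of_card hK) hKz hKC huK hu2 hu1
  exact ⟨c, hc, k, hk, he, hK ▸ hle, fun s hs hsu => himg _ (hTK ((L.mem_cS hu hs).2 hsu))⟩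

end Syl

end Cfsg.Agent.HSSylow
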