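import Cfsg.Agent.HSSylow.FusGL

/-!
The two outer classes of involutions: exactly one of them consists of conjugates of `z`, and both move into the
other classes under `N(A)` and `C(z)`.
-/

set_option autoImplicit false
set_option maxRecDepth 100000
set_option linter.unusedSectionVars false
set_option linter.style.haveILetI false

namespace Cfsg.Agent.HSSylow

open Subgroup

theorem y_roots : ([192, 199].all fun u => anyN (fun s => cm u s && (mulN s s == 34)) && cm u 34 && !(u == 34) &&
    allN (fun t => !cm u t || !(mulN t t == 10))) = true := by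
  decide +kernel

theorem y_count : (((List.range 512).filter fun s => cm 192 s && decide (typ s ≤ 4)).length == 7 &&
    [339, 80].all fun r => ((List.range 512).filter fun t => cm r t && decide (typ t ≤ 4)).length == 3) = true := by
  decide +kernel

theorem y_pair : (cm 192 339 && (typ (mulN 192 339) == 8) && ([34, 2, 320, 64].all fun r => allN fun t =>
    !(cm r t && ((typ t == 5) || (typ t == 6))) || (typ (mulN r t) == typ t))) = true := by
  decide +kernel

namespace Syl

variable {G : Type*} [Group G] [Finite G] (L : Syl G) [IsSimpleGroup G]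

/-- An involution of an outer class moves by `N(A)` and `C(z)` to one of the other classes. -/
theorem y_move {u : ℕ} (hu : u ∈ [192, 199]) :
    ∃ n ∈ normalizer (L.A : Set G), ∃ c : G, c * L.z = L.z * c ∧ ∃ k, (1 ≤ k ∧ k ≤ 6) ∧
      c * n * L.φ u * (c * n)⁻¹ = L.φ (rep k) ∧
      ∀ s < 512, cm u s = true → ∃ t < 512, cm (rep k) t = true ∧ c * n * L.φ s * (c * n)⁻¹ = L.φ t := by
  have hu' : u < 512 := by fin_cases hu <;> norm_num
  have hi : isInv u = true := by fin_cases hu <;> decide +kernel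
  have hy := List.all_eq_true.1 y_roots u hu
  simp only [Bool.and_eq_true, beq_iff_eq, Bool.not_eq_true', beq_eq_false_iff_ne] at hy
  obtain ⟨⟨⟨hroot, hua⟩, hu34⟩, hno⟩ := hy
  obtain ⟨s0, hs0, hs0'⟩ := anyN_spec hroot
  rw [Bool.and_eq_true, beq_iff_eq] at hs0'
  obtain ⟨m, hm, hma⟩ := L.move_z L.a_mem_V L.a_ne
  set n := m⁻¹ with hn
  have hnA : n ∈ normalizer (L.A : Set G) := inv_mem hm
  have hnaz : n * L.a * n⁻¹ = L.z := by rw [← hma]; simp [hn, mul_assoc]
  set K := (L.cS u).map (MulAut.conj n).toMonoidHom with hK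
  have hcom : ∀ x ∈ L.cS u, x * L.a = L.a * x := fun x hx => by
    obtain ⟨s, hs, hsu, rfl⟩ := L.cS_cases hu' hx
    have h : (allN fun s => !cm u s || cm s 34) = true := by fin_cases hu <;> decide +kernel
    have h' := allN_spec h hs
    simp only [hsu, Bool.not_true, Bool.false_or] at h'
    exact (L.cm_iff hs (b := 34) (by norm_num)).1 h'
  have hKz : K ≤ centralizer ({L.z} : Set G) := by
    rintro _ ⟨x, hx, rfl⟩
    refine mem_centralizer_singleton_iff.2 ?_
    show n * x * n⁻¹ * L.z = L.z * (n * x * n⁻¹)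
    rw [← hnaz, show n * x * n⁻¹ * (n * L.a * n⁻¹) = n * (x * L.a) * n⁻¹ by group, hcom x hx]
    group
  have hKu : K ≤ centralizer ({n * L.φ u * n⁻¹} : Set G) := by
    rintro _ ⟨x, hx, rfl⟩
    refine mem_centralizer_singleton_iff.2 ?_
    show n * x * n⁻¹ * (n * L.φ u * n⁻¹) = n * L.φ u * n⁻¹ * (n * x * n⁻¹)
    rw [show n * x * n⁻¹ * (n * L.φ u * n⁻¹) = n * (x * L.φ u) * n⁻¹ by group,
      mem_centralizer_singleton_iff.1 (mem_inf.1 hx).2]
    group
  obtain ⟨hu2, hu1⟩ := (L.inv_iff hu').1 hi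
  obtain ⟨c, hc, k, hk, he, -, himg⟩ := L.move ((L.S.2.to_le inf_le_left).map _) hKz hKu
    ⟨L.φ u, (L.mem_cS hu' hu').2 (beq_self_eq_true _), rfl⟩
    (by rw [show n * L.φ u * n⁻¹ * (n * L.φ u * n⁻¹) = n * (L.φ u * L.φ u) * n⁻¹ by group, hu2, mul_one, mul_inv_cancel])
    (fun e => hu1 (conj_eq_one_iff.1 e))
  have hnu : c * n * L.φ u * (c * n)⁻¹ = L.φ (rep k) := by rw [← he]; group
  have himg' : ∀ s < 512, cm u s = true → ∃ t < 512, cm (rep k) t = true ∧ c * n * L.φ s * (c * n)⁻¹ = L.φ t := by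
    intro s hs hsu
    obtain ⟨t, ht, htk, hte⟩ := himg _ ⟨L.φ s, (L.mem_cS hu' hs).2 hsu, rfl⟩
    refine ⟨t, ht, htk, ?_⟩
    rw [← hte]
    show _ = c * (n * L.φ s * n⁻¹) * c⁻¹
    group
  refine ⟨n, hnA, c, hc, k, ⟨?_, ?_⟩, hnu, himg'⟩
  · rcases Nat.eq_zero_or_pos k with rfl | h
    · exfalso
      refine hu34 (L.inj u hu' 34 (by norm_num) ?_)
      refine mul_left_cancel (a := c * n) (mul_right_cancel (b := (c * n)⁻¹) ?_)
      rw [hnu]
      show L.z = c * n * L.a * (c * n)⁻¹
      rw [show c * n * L.a * (c * n)⁻¹ = c * (n * L.a * n⁻¹) * c⁻¹ by group, hnaz, hc, mul_inv_cancel_right]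
    · exact h
  · by_contra hk6
    obtain ⟨t, ht, htk, hte⟩ := himg' s0 hs0 hs0'.1
    have h2 := L.conj_codes hs0 ht hte
    rw [hs0'.2] at h2
    have h10 : mulN t t = 10 := (L.inj _ (mulN_lt ht ht) 10 (by norm_num) (by
      rw [← h2]
      show c * n * L.a * (c * n)⁻¹ = L.z
      rw [show c * n * L.a * (c * n)⁻¹ = c * (n * L.a * n⁻¹) * c⁻¹ by group, hnaz, hc, mul_inv_cancel_right]))
    have hr : rep k ∈ [192, 199] := by
      rcases (show k = 7 ∨ k = 8 by omega) with rfl | rfl <;> decide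
    have h3 := List.all_eq_true.1 y_roots (rep k) hr
    simp only [Bool.and_eq_true] at h3
    have h4 := allN_spec h3.2 ht
    simp [htk, h10] at h4

theorem zv_conj {g : G} {s t : ℕ} (hs : s < 512) (ht : t < 512) (he : g * L.φ s * g⁻¹ = L.φ t) :
    L.zv (typ s) = L.zv (typ t) := by
  rw [Bool.eq_iff_iff, ← L.Zc_iff hs, ← L.Zc_iff ht]
  have hst : IsConj (L.φ s) (L.φ t) := isConj_iff.2 ⟨g, he⟩
  exact ⟨fun hh => hh.trans hst, fun hh => hh.trans hst.symm⟩

/-- Exactly one of the two outer classes consists of conjugates of `z`. -/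
theorem zv_y (hx : L.Zc L.x8) : L.zv 8 = !L.zv 7 := by
  obtain ⟨h1, h2, h5, h6, h43⟩ := L.classes
  have h3 : L.zv 3 = true := L.zv_iff.2 ⟨by norm_num, hx⟩
  have h4 : L.zv 4 = true := h43.trans h3
  obtain ⟨n, -, c, -, k, ⟨hk1, hk6⟩, he, himg⟩ := L.y_move (u := 192) (by simp)
  obtain ⟨hkl, -, hkt, -⟩ := rep_spec (k := k) (by omega)
  have hzk : L.zv 7 = L.zv k := by
    have h := L.zv_conj (by norm_num) hkl he
    rwa [hkt, show typ 192 = 7 by decide +kernel] at h
  cases h7 : L.zv 7
  · -- neither class: too many conjugates of `z`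
    by_contra h8
    simp only [Bool.not_false, Bool.not_eq_true] at h8
    have hk : rep k ∈ [339, 80] := by
      rcases (show k = 1 ∨ k = 2 ∨ k = 3 ∨ k = 4 ∨ k = 5 ∨ k = 6 by omega) with rfl | rfl | rfl | rfl | rfl | rfl
      · rw [h7, h1] at hzk; exact Bool.noConfusion hzk
      · rw [h7, h2] at hzk; exact Bool.noConfusion hzk
      · rw [h7, h3] at hzk; exact Bool.noConfusion hzk
      · rw [h7, h4] at hzk; exact Bool.noConfusion hzk
      · decide
      · decide
    have hzv : ∀ j, j ≤ 9 → (L.zv j = true ↔ j ≤ 4) := by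
      intro j hj
      rcases (show j = 0 ∨ j = 1 ∨ j = 2 ∨ j = 3 ∨ j = 4 ∨ j = 5 ∨ j = 6 ∨ j = 7 ∨ j = 8 ∨ j = 9 by omega) with
        rfl | rfl | rfl | rfl | rfl | rfl | rfl | rfl | rfl | rfl <;>
        simp [L.zv_zero, h1, h2, h3, h4, h5, h6, h7, h8, L.zv_nine]
    have hle := L.count_le (P := fun s => cm 192 s && decide (typ s ≤ 4))
      (Q := fun t => cm (rep k) t && decide (typ t ≤ 4)) (c * n) fun s hs hp => by
      simp only [Bool.and_eq_true, decide_eq_true_eq] at hp
      obtain ⟨t, ht, htk, hte⟩ := himg s hs hp.1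
      refine ⟨t, ht, ?_, hte⟩
      simp only [Bool.and_eq_true, decide_eq_true_eq]
      refine ⟨htk, (hzv _ (typ_le ht)).1 ?_⟩
      rw [← L.zv_conj hs ht hte]
      exact (hzv _ (typ_le hs)).2 hp.2
    have hc := y_count
    simp only [Bool.and_eq_true, beq_iff_eq] at hc
    have := List.all_eq_true.1 hc.2 _ hk
    simp only [beq_iff_eq] at this
    rw [hc.1, this] at hle
    omega
  · -- both classes: no room for `339` in the image
    by_contra h8
    simp only [Bool.not_true, Bool.not_eq_false] at h8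
    have hk : rep k ∈ [34, 2, 320, 64] := by
      rcases (show k = 1 ∨ k = 2 ∨ k = 3 ∨ k = 4 ∨ k = 5 ∨ k = 6 by omega) with rfl | rfl | rfl | rfl | rfl | rfl
      · decide
      · decide
      · decide
      · decide
      · rw [h7, h5] at hzk; exact Bool.noConfusion hzk
      · rw [h7, h6] at hzk; exact Bool.noConfusion hzk
    have hp := y_pair
    simp only [Bool.and_eq_true, beq_iff_eq] at hp
    obtain ⟨⟨hq, hq8⟩, hpair⟩ := hp
    obtain ⟨t, ht, htk, hte⟩ := himg 339 (by norm_num) hq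
    have hit : isInv t = true := L.isInv_of_conj (by norm_num) ht (by decide +kernel) hte
    have hzt : L.zv (typ t) = false := by
      rw [← L.zv_conj (by norm_num) ht hte, show typ 339 = 5 by decide +kernel, h5]
    have ht56 : typ t = 5 ∨ typ t = 6 := by
      have h9 := (L.to_rep ht hit).1
      rcases (show typ t = 0 ∨ typ t = 1 ∨ typ t = 2 ∨ typ t = 3 ∨ typ t = 4 ∨ typ t = 5 ∨ typ t = 6 ∨ typ t = 7 ∨
        typ t = 8 by omega) with e | e | e | e | e | e | e | e | e <;> rw [e] at hzt <;>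
        first
          | exact Or.inl e
          | exact Or.inr e
          | simp [L.zv_zero, h1, h2, h3, h4, h7, h8] at hzt
    have hp' := allN_spec (List.all_eq_true.1 hpair _ hk) ht
    have hor : ((typ t == 5) || (typ t == 6)) = true := by rcases ht56 with e | e <;> simp [e]
    simp only [htk, hor, Bool.and_self, Bool.not_true, Bool.false_or, beq_iff_eq] at hp'
    have hprod : c * n * L.φ (mulN 192 339) * (c * n)⁻¹ = L.φ (mulN (rep k) t) := by
      rw [← L.mul 192 (by norm_num) 339 (by norm_num), ← L.mul _ hkl t ht, ← he, ← hte]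
      group
    have h := L.zv_conj (mulN_lt (by norm_num) (by norm_num)) (mulN_lt hkl ht) hprod
    rw [hq8, hp', h8, hzt] at h
    exact Bool.noConfusion h

end Syl

end Cfsg.Agent.HSSylow
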